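/-
Transvections x ↦ x + φ(x) v as elements of GL(ι, F), and the centre/axis method for overgroups.
Main results: `tv`, `tv_apply`, `tv_conj`, `tv_mem_sl`, `sl_le_of_tv`, `axes`, `isMaximalIn_of_forall`,
`mem_stab_of_le`, `exists_dual_eq_one`.
-/
import Cfsg.Agent.EqLemmas

set_option autoImplicit false
set_option linter.unusedSectionVars false

namespace Cfsg.Agent.Transvect

open Matrix
open scoped MatrixGroups

variable {ι : Type} [Fintype ι] [DecidableEq ι] {F : Type*} [Field F]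

/-- The action of an invertible matrix on column vectors, as a monoid hom to linear equivalences. -/
def app : GL ι F →* ((ι → F) ≃ₗ[F] (ι → F)) where
  toFun g :=
    { toFun := fun x => (g : Matrix ι ι F) *ᵥ x
      map_add' := Matrix.mulVec_add _
      map_smul' := fun c x => Matrix.mulVec_smul _ c x
      invFun := fun x => ((g⁻¹ : GL ι F) : Matrix ι ι F) *ᵥ x
      left_inv := fun x => by
        change ((g⁻¹ : GL ι F) : Matrix ι ι F) *ᵥ ((g : Matrix ι ι F) *ᵥ x) = x
        rw [Matrix.mulVec_mulVec, ← Units.val_mul, inv_mul_cancel, Units.val_one, Matrix.one_mulVec]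
      right_inv := fun x => by
        change (g : Matrix ι ι F) *ᵥ (((g⁻¹ : GL ι F) : Matrix ι ι F) *ᵥ x) = x
        rw [Matrix.mulVec_mulVec, ← Units.val_mul, mul_inv_cancel, Units.val_one, Matrix.one_mulVec] }
  map_one' := by ext x; simp
  map_mul' g h := by ext x; simp [Matrix.mulVec_mulVec]

@[simp] lemma app_apply (g : GL ι F) (x : ι → F) : app g x = (g : Matrix ι ι F) *ᵥ x := rfl

lemma gl_ext {g h : GL ι F} (H : ∀ x, app g x = app h x) : g = h := by
  apply Units.ext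
  exact Matrix.ext_of_mulVec_single fun i => H _

@[simp] lemma app_inv_app (g : GL ι F) (x : ι → F) : app g⁻¹ (app g x) = x :=
  (app g).symm_apply_apply x

@[simp] lemma app_app_inv (g : GL ι F) (x : ι → F) : app g (app g⁻¹ x) = x :=
  (app g).apply_symm_apply x

/-- The matrix of x ↦ x + φ(x) v. -/
def tmat (v : ι → F) (φ : (ι → F) →ₗ[F] F) : Matrix ι ι F :=
  1 + Matrix.vecMulVec v (fun j => φ (Pi.single j 1))

lemma tmat_mulVec (v : ι → F) (φ : (ι → F) →ₗ[F] F) (x : ι → F) :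
    tmat v φ *ᵥ x = x + φ x • v := by
  have hx : (fun j => φ (Pi.single j 1)) ⬝ᵥ x = φ x := by
    conv_rhs => rw [pi_eq_sum_univ' x, map_sum]
    simp [dotProduct, mul_comm]
  rw [tmat, Matrix.add_mulVec, Matrix.one_mulVec, Matrix.vecMulVec_mulVec, hx]
  ext i
  simp [mul_comm]

open Classical in
/-- The transvection x ↦ x + φ(x) v (junk value 1 unless φ(v) = 0). -/
noncomputable def tv (v : ι → F) (φ : (ι → F) →ₗ[F] F) : GL ι F :=
  if h : φ v = 0 then
    ⟨tmat v φ, tmat v (-φ),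
      Matrix.ext_of_mulVec_single fun i => by
        rw [← Matrix.mulVec_mulVec, tmat_mulVec, tmat_mulVec, Matrix.one_mulVec]
        simp [map_add, map_neg, h],
      Matrix.ext_of_mulVec_single fun i => by
        rw [← Matrix.mulVec_mulVec, tmat_mulVec, tmat_mulVec, Matrix.one_mulVec]
        simp [map_add, h]⟩
  else 1

lemma tv_val {v : ι → F} {φ : (ι → F) →ₗ[F] F} (h : φ v = 0) :
    (tv v φ : Matrix ι ι F) = tmat v φ := by
  rw [tv, dif_pos h]

lemma tv_apply {v : ι → F} {φ : (ι → F) →ₗ[F] F} (h : φ v = 0) (x : ι → F) :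
    app (tv v φ) x = x + φ x • v := by
  rw [app_apply, tv_val h, tmat_mulVec]

@[simp] lemma tv_zero (v : ι → F) : tv v (0 : (ι → F) →ₗ[F] F) = 1 :=
  gl_ext fun x => by rw [tv_apply (by simp)]; simp

lemma tv_add {v : ι → F} {φ ψ : (ι → F) →ₗ[F] F} (hφ : φ v = 0) (hψ : ψ v = 0) :
    tv v (φ + ψ) = tv v φ * tv v ψ := by
  refine gl_ext fun x => ?_
  rw [tv_apply (by simp [hφ, hψ]), map_mul, LinearEquiv.mul_apply, tv_apply hψ, tv_apply hφ]
  simp [map_add, hφ, add_smul, add_assoc, add_comm (φ x • v)]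

lemma tv_inv {v : ι → F} {φ : (ι → F) →ₗ[F] F} (hφ : φ v = 0) : (tv v φ)⁻¹ = tv v (-φ) :=
  inv_eq_of_mul_eq_one_right (by rw [← tv_add hφ (by simp [hφ]), add_neg_cancel, tv_zero])

lemma tv_smul {v : ι → F} {φ : (ι → F) →ₗ[F] F} (hφ : φ v = 0) (a : F) :
    tv (a • v) φ = tv v (a • φ) :=
  gl_ext fun x => by
    rw [tv_apply (by simp [hφ]), tv_apply (by simp [hφ]), LinearMap.smul_apply, smul_smul,
      smul_eq_mul, mul_comm]

lemma tv_conj {v : ι → F} {φ : (ι → F) →ₗ[F] F} (hφ : φ v = 0) (g : GL ι F) :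
    g * tv v φ * g⁻¹ = tv (app g v) (φ ∘ₗ (app g⁻¹).toLinearMap) := by
  refine gl_ext fun x => ?_
  have h' : (φ ∘ₗ (app g⁻¹).toLinearMap) (app g v) = 0 := by
    simp only [LinearMap.comp_apply, LinearEquiv.coe_coe, app_inv_app, hφ]
  rw [tv_apply h', map_mul, map_mul, LinearEquiv.mul_apply, LinearEquiv.mul_apply, tv_apply hφ,
    map_add, map_smul, app_app_inv]
  rfl

lemma det_tmat {v : ι → F} {φ : (ι → F) →ₗ[F] F} (h : φ v = 0) : (tmat v φ).det = 1 := by
  have hx : (fun j => φ (Pi.single j 1)) ⬝ᵥ v = φ v := by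
    conv_rhs => rw [pi_eq_sum_univ' v, map_sum]
    simp [dotProduct, mul_comm]
  rw [tmat, Matrix.vecMulVec_eq Unit, Matrix.det_one_add_replicateCol_mul_replicateRow, hx, h,
    add_zero]

lemma mem_sl_iff {g : GL ι F} :
    g ∈ Cfsg.Geo.specialLinear ι F ↔ (g : Matrix ι ι F).det = 1 := by
  rw [Cfsg.Geo.specialLinear, MonoidHom.mem_ker, Units.ext_iff]
  rfl

lemma tv_mem_sl (v : ι → F) (φ : (ι → F) →ₗ[F] F) : tv v φ ∈ Cfsg.Geo.specialLinear ι F := by
  by_cases h : φ v = 0
  · rw [mem_sl_iff, tv_val h, det_tmat h]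
  · rw [tv, dif_neg h]; exact one_mem _

/-! ### Generation of SL -/

/-- The elementary transvection 1 + c E_ij. -/
noncomputable def elem (i j : ι) (c : F) : GL ι F :=
  tv (Pi.single i 1) (c • LinearMap.proj j)

lemma elem_apply {i j : ι} (h : i ≠ j) (c : F) (x : ι → F) :
    app (elem i j c) x = x + (c * x j) • Pi.single i 1 := by
  rw [elem, tv_apply (by simp [h.symm])]; simp

lemma elem_val {i j : ι} (h : i ≠ j) (c : F) :
    (elem i j c : Matrix ι ι F) = Matrix.transvection i j c := by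
  refine Matrix.ext_of_mulVec_single fun k => ?_
  rw [← app_apply, elem_apply h, Matrix.transvection, Matrix.add_mulVec, Matrix.one_mulVec,
    Matrix.single_mulVec]
  ext l
  by_cases hl : l = i <;> simp [hl]

lemma diag_eq_elem_prod {i j : ι} (h : i ≠ j) {a : F} (ha : a ≠ 0) (x : ι → F) :
    app (elem i j a * elem j i (-a⁻¹) * elem i j a * elem i j (-1) * elem j i 1 * elem i j (-1)) x =
      fun k => (if k = i then a else if k = j then a⁻¹ else 1) * x k := by
  simp only [map_mul, LinearEquiv.mul_apply, elem_apply h, elem_apply h.symm]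
  ext k
  by_cases hki : k = i
  · subst hki; simp [h, h.symm]; field_simp; ring
  · by_cases hkj : k = j
    · subst hkj; simp [h, h.symm]; field_simp; ring
    · simp [hki, hkj]

/-- SL(ι, F) is generated by transvections. -/
theorem sl_le_of_tv (M : Subgroup (GL ι F))
    (hM : ∀ (v : ι → F) (φ : (ι → F) →ₗ[F] F), φ v = 0 → tv v φ ∈ M) :
    Cfsg.Geo.specialLinear ι F ≤ M := by
  intro g hg
  rcases subsingleton_or_nontrivial ι with h1 | h1
  · have : g = 1 := by
      apply Units.ext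
      ext i j
      have hd := mem_sl_iff.1 hg
      rw [Matrix.det_eq_elem_of_subsingleton _ i] at hd
      obtain rfl : j = i := Subsingleton.elim _ _
      simp [hd]
    rw [this]; exact one_mem _
  have hel : ∀ (i j : ι), i ≠ j → ∀ c : F, elem i j c ∈ M := fun i j h c =>
    hM _ _ (by simp [h.symm])
  let g' : Matrix.SpecialLinearGroup ι F := ⟨_, mem_sl_iff.1 hg⟩
  suffices ∀ A : Matrix.SpecialLinearGroup ι F, Matrix.SpecialLinearGroup.toGL A ∈ M by
    convert this g' using 1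
    exact Units.ext rfl
  intro A
  refine Matrix.SpecialLinearGroup.diagonal_transvection_induction'
    (fun A => Matrix.SpecialLinearGroup.toGL A ∈ M) A ?_ ?_ ?_
  · intro i j hij c hc
    convert mul_mem (mul_mem (mul_mem (mul_mem (mul_mem (hel i j hij c) (hel j i hij.symm (-c⁻¹)))
      (hel i j hij c)) (hel i j hij (-1))) (hel j i hij.symm 1)) (hel i j hij (-1)) using 1
    refine gl_ext fun x => ?_
    rw [diag_eq_elem_prod hij hc]
    funext k
    simp [Matrix.SpecialLinearGroup.diag2n_coe, Matrix.mulVec_diagonal]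
  · intro i j hij a
    convert hel i j hij a using 1
    exact Units.ext (elem_val hij a).symm
  · intro A B hA hB
    rw [map_mul]; exact mul_mem hA hB

/-! ### Duals -/

lemma exists_dual_eq_one {W : Submodule F (ι → F)} {u : ι → F} (hu : u ∉ W) :
    ∃ φ : (ι → F) →ₗ[F] F, (∀ w ∈ W, φ w = 0) ∧ φ u = 1 := by
  obtain ⟨φ, hφu, hφ⟩ := Submodule.exists_dual_map_eq_bot_of_notMem hu inferInstance
  refine ⟨(φ u)⁻¹ • φ, fun w hw => ?_, by simp [hφu]⟩
  have h0 : φ w = 0 := by
    have := Submodule.mem_map_of_mem (f := φ) hw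
    rwa [hφ, Submodule.mem_bot] at this
  simp [h0]

/-! ### Stabilisers and maximality -/

lemma mem_stab_of_le {W : Submodule F (ι → F)} {g : GL ι F} (h : ∀ w ∈ W, app g w ∈ W) :
    g ∈ Cfsg.Geo.subspaceStabilizer W := by
  have hmap : W.map (app g).toLinearMap = W := by
    refine Submodule.eq_of_le_of_finrank_eq ?_ (LinearEquiv.finrank_map_eq (app g) W)
    rintro _ ⟨w, hw, rfl⟩
    exact h w hw
  intro v
  refine ⟨fun hv => h v hv, fun hv => ?_⟩
  have hv' : app g v ∈ W.map (app g).toLinearMap := by rw [hmap]; exact hv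
  obtain ⟨w, hw, he⟩ := hv'
  exact ((app g).injective he) ▸ hw

lemma mem_stab_iff {W : Submodule F (ι → F)} {g : GL ι F} :
    g ∈ Cfsg.Geo.subspaceStabilizer W ↔ ∀ w ∈ W, app g w ∈ W :=
  ⟨fun h w hw => (h w).1 hw, mem_stab_of_le⟩

lemma isMaximalIn_of_forall {G : Type*} [Group G] {K H : Subgroup G} (hle : H ≤ K)
    (hne : ∃ x ∈ K, x ∉ H)
    (h : ∀ M : Subgroup G, H ≤ M → M ≤ K → ∀ g ∈ M, g ∉ H → K ≤ M) :
    Cfsg.Geo.IsMaximalIn K H := by
  refine ⟨lt_of_le_of_ne hle ?_, fun M h1 h2 => ?_⟩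
  · rintro rfl
    obtain ⟨x, hx, hx'⟩ := hne
    exact hx' hx
  · by_cases hM : ∀ g ∈ M, g ∈ H
    · exact Or.inl (le_antisymm hM h1)
    · push Not at hM
      obtain ⟨g, hg, hg'⟩ := hM
      exact Or.inr (le_antisymm h2 (h M h1 h2 g hg hg'))

/-! ### Axes -/

/-- The axes φ such that all transvections tv v (c • φ) lie in M. -/
noncomputable def axes (M : Subgroup (GL ι F)) (v : ι → F) : Submodule F ((ι → F) →ₗ[F] F) where
  carrier := {φ | φ v = 0 ∧ ∀ c : F, tv v (c • φ) ∈ M}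
  zero_mem' := ⟨by simp, fun c => by rw [smul_zero, tv_zero]; exact one_mem M⟩
  add_mem' := by
    rintro φ ψ ⟨hφ, hφM⟩ ⟨hψ, hψM⟩
    refine ⟨by simp [hφ, hψ], fun c => ?_⟩
    rw [smul_add, tv_add (by simp [hφ]) (by simp [hψ])]
    exact mul_mem (hφM c) (hψM c)
  smul_mem' := by
    rintro a φ ⟨hφ, hφM⟩
    refine ⟨by simp [hφ], fun c => ?_⟩
    rw [smul_smul]; exact hφM _

lemma mem_axes {M : Subgroup (GL ι F)} {v : ι → F} {φ : (ι → F) →ₗ[F] F} :
    φ ∈ axes M v ↔ φ v = 0 ∧ ∀ c : F, tv v (c • φ) ∈ M := Iff.rfl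

lemma axes_conj {M : Subgroup (GL ι F)} {g : GL ι F} (hg : g ∈ M) {v : ι → F}
    {φ : (ι → F) →ₗ[F] F} (h : φ ∈ axes M v) :
    φ ∘ₗ (app g⁻¹).toLinearMap ∈ axes M (app g v) := by
  refine ⟨?_, fun c => ?_⟩
  · simp only [LinearMap.comp_apply, LinearEquiv.coe_coe, app_inv_app, h.1]
  · rw [← LinearMap.smul_comp, ← tv_conj (by simp [h.1]) g]
    exact mul_mem (mul_mem hg (h.2 c)) (inv_mem hg)

lemma axes_smul {M : Subgroup (GL ι F)} {v : ι → F} {φ : (ι → F) →ₗ[F] F} (h : φ ∈ axes M v)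
    (a : F) : φ ∈ axes M (a • v) := by
  refine ⟨by simp [h.1], fun c => ?_⟩
  rw [tv_smul (by simp [h.1]), smul_smul]; exact h.2 _

/-- All transvections with centre v lie in M. -/
def IsFull (M : Subgroup (GL ι F)) (v : ι → F) : Prop :=
  ∀ φ : (ι → F) →ₗ[F] F, φ v = 0 → φ ∈ axes M v

lemma IsFull.conj {M : Subgroup (GL ι F)} {g : GL ι F} (hg : g ∈ M) {v : ι → F}
    (h : IsFull M v) : IsFull M (app g v) := by
  intro φ hφ
  have := axes_conj hg (h (φ ∘ₗ (app g).toLinearMap) hφ)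
  have he : (φ ∘ₗ (app g).toLinearMap) ∘ₗ (app g⁻¹).toLinearMap = φ := by
    refine LinearMap.ext fun x => ?_
    simp only [LinearMap.comp_apply, LinearEquiv.coe_coe, app_app_inv]
  rwa [he] at this

lemma IsFull.smul {M : Subgroup (GL ι F)} {v : ι → F} (h : IsFull M v) {a : F} (ha : a ≠ 0) :
    IsFull M (a • v) := fun φ hφ =>
  axes_smul (h φ (by simpa [ha] using hφ)) a

theorem sl_le_of_isFull (M : Subgroup (GL ι F)) (h : ∀ v : ι → F, v ≠ 0 → IsFull M v) :
    Cfsg.Geo.specialLinear ι F ≤ M := by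
  refine sl_le_of_tv M fun v φ hφ => ?_
  by_cases hv : v = 0
  · subst hv
    have : tv (0 : ι → F) φ = 1 := gl_ext fun x => by rw [tv_apply hφ]; simp
    rw [this]; exact one_mem _
  · simpa using (h v hv φ hφ).2 1

end Cfsg.Agent.Transvect
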