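/-
Monomial matrices and overgroups: `pg`, `dg`, `IsMono`, `fullSub`, and root-group lemmas.
Used for: the monomial group of SL_n(q), q ≥ 5, is maximal (see MonoOvergroup).
-/
import Cfsg.Agent.Lib.Transvect.Basic

set_option autoImplicit false
set_option linter.unusedSectionVars false

namespace Cfsg.Agent.Transvect

open Matrix
open scoped MatrixGroups

variable {ι : Type} [Fintype ι] [DecidableEq ι] {F : Type*} [Field F]

/-- The coordinate vector e_i. -/
abbrev ee (i : ι) : ι → F := Pi.single i 1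

/-- The permutation matrix e_i ↦ e_{π i}. -/
noncomputable def pg (π : Equiv.Perm ι) : GL ι F :=
  ⟨(π⁻¹ : Equiv.Perm ι).permMatrix F, π.permMatrix F,
    by rw [← Matrix.permMatrix_mul, mul_inv_cancel, Matrix.permMatrix_one],
    by rw [← Matrix.permMatrix_mul, inv_mul_cancel, Matrix.permMatrix_one]⟩

/-- The diagonal matrix with the given invertible entries. -/
noncomputable def dg : (ι → Fˣ) →* GL ι F where
  toFun c := ⟨Matrix.diagonal fun i => (c i : F), Matrix.diagonal fun i => ((c i)⁻¹ : Fˣ),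
    by simp [Matrix.diagonal_mul_diagonal], by simp [Matrix.diagonal_mul_diagonal]⟩
  map_one' := Units.ext (by simp)
  map_mul' c d := Units.ext (by simp [Matrix.diagonal_mul_diagonal])

@[simp] lemma app_pg (π : Equiv.Perm ι) (x : ι → F) (k : ι) : app (pg π) x k = x (π⁻¹ k) := by
  rw [app_apply]
  show ((π⁻¹ : Equiv.Perm ι).permMatrix F *ᵥ x) k = _
  rw [Matrix.permMatrix_mulVec]; rfl

@[simp] lemma app_dg (c : ι → Fˣ) (x : ι → F) (k : ι) : app (dg c) x k = c k * x k := by
  rw [app_apply]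
  show (Matrix.diagonal (fun i => (c i : F)) *ᵥ x) k = _
  rw [Matrix.mulVec_diagonal]

lemma det_pg_dg (π : Equiv.Perm ι) (c : ι → Fˣ) :
    ((pg π * dg c : GL ι F) : Matrix ι ι F).det =
      ((Equiv.Perm.sign π : ℤ) : F) * ∏ i, (c i : F) := by
  rw [Units.val_mul, Matrix.det_mul]
  show ((π⁻¹ : Equiv.Perm ι).permMatrix F).det * (Matrix.diagonal fun i => (c i : F)).det = _
  rw [Matrix.det_permutation, Matrix.det_diagonal, Equiv.Perm.sign_inv]

lemma app_pg_dg (π : Equiv.Perm ι) (c : ι → Fˣ) (x : ι → F) (k : ι) :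
    app (pg π * dg c) x k = c (π⁻¹ k) * x (π⁻¹ k) := by
  rw [map_mul, LinearEquiv.mul_apply, app_pg, app_dg]

lemma app_pg_dg_ee (π : Equiv.Perm ι) (c : ι → Fˣ) (s : ι) :
    app (pg π * dg c) (ee s) = (c s : F) • ee (π s) := by
  funext k
  rw [app_pg_dg]
  by_cases h : k = π s
  · subst h; simp [ee]
  · have : π⁻¹ k ≠ s := fun h' => h (by rw [← h']; simp)
    rw [Pi.smul_apply, ee, ee, Pi.single_eq_of_ne this, Pi.single_eq_of_ne h, mul_zero, smul_zero]

/-- Every column has at most one non-zero entry. -/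
def IsMono (g : GL ι F) : Prop := ∀ s, ∃ r, ∀ k, k ≠ r → app g (ee s) k = 0

lemma gl_ext_ee {g h : GL ι F} (H : ∀ s, app g (ee s) = app h (ee s)) : g = h :=
  gl_ext fun x => by
    have : (app g).toLinearMap = (app h).toLinearMap :=
      (Pi.basisFun F ι).ext fun i => by simpa [ee, Pi.basisFun_apply] using H i
    exact LinearMap.congr_fun this x

lemma isMono_pg_dg (π : Equiv.Perm ι) (c : ι → Fˣ) : IsMono (pg π * dg c) := fun s =>
  ⟨π s, fun k hk => by rw [app_pg_dg_ee]; simp [ee, hk]⟩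

lemma exists_of_isMono {g : GL ι F} (h : IsMono g) :
    ∃ (π : Equiv.Perm ι) (c : ι → Fˣ), g = pg π * dg c := by
  classical
  choose r hr using h
  have hne : ∀ s, app g (ee s) (r s) ≠ 0 := fun s h0 => by
    have : app g (ee s) = 0 := funext fun k => by
      by_cases hk : k = r s
      · rw [hk]; exact h0
      · exact hr s k hk
    have h1 := (app g).injective (this.trans (map_zero _).symm)
    simpa [ee] using congrFun h1 s
  have hcol : ∀ s, app g (ee s) = app g (ee s) (r s) • ee (r s) := fun s => funext fun k => by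
    by_cases hk : k = r s
    · subst hk; simp [ee]
    · simp [ee, hk, hr s k hk]
  have hinj : Function.Injective r := fun s s' he => by
    by_contra hne'
    set a := app g (ee s) (r s)
    set b := app g (ee s') (r s')
    have h1 : app g (b • ee s - a • ee s') = 0 := by
      rw [map_sub, map_smul, map_smul, hcol s, hcol s', he, smul_smul, smul_smul]
      simp [a, b, he, mul_comm]
    have h2 := congrFun ((app g).injective (h1.trans (map_zero _).symm)) s
    simp [ee, hne'] at h2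
    exact hne s' h2
  refine ⟨Equiv.ofBijective r (Finite.injective_iff_bijective.1 hinj),
    fun s => Units.mk0 _ (hne s), gl_ext_ee fun s => ?_⟩
  rw [app_pg_dg_ee, Equiv.ofBijective_apply, Units.val_mk0]
  exact hcol s

lemma IsMono.mul {g h : GL ι F} (hg : IsMono g) (hh : IsMono h) : IsMono (g * h) := fun s => by
  obtain ⟨π, c, rfl⟩ := exists_of_isMono hh
  obtain ⟨r, hr⟩ := hg (π s)
  exact ⟨r, fun k hk => by
    rw [map_mul, LinearEquiv.mul_apply, app_pg_dg_ee, map_smul, Pi.smul_apply, hr k hk,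
      smul_zero]⟩

lemma IsMono.inv {g : GL ι F} (hg : IsMono g) : IsMono g⁻¹ := fun s => by
  obtain ⟨π, c, rfl⟩ := exists_of_isMono hg
  refine ⟨π⁻¹ s, fun k hk => ?_⟩
  have h1 := congrArg (app (pg π * dg c)⁻¹) (app_pg_dg_ee (F := F) π c (π⁻¹ s))
  rw [app_inv_app, map_smul, show π (π⁻¹ s) = s from Equiv.apply_symm_apply π s] at h1
  have h2 := congrFun h1 k
  rw [Pi.smul_apply, ee, Pi.single_eq_of_ne hk, eq_comm, smul_eq_mul] at h2
  exact (mul_eq_zero.1 h2).resolve_left (c (π⁻¹ s)).ne_zero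

lemma isMono_dg (c : ι → Fˣ) : IsMono (dg c) := fun s =>
  ⟨s, fun k hk => by simp [ee, hk]⟩

lemma app_dg_inv (c : ι → Fˣ) (x : ι → F) (k : ι) : app (dg c)⁻¹ x k = ((c k)⁻¹ : Fˣ) * x k := by
  rw [← map_inv, app_dg]; rfl

lemma exists_notMem_of_card_lt {α : Type*} [Fintype α] {s : Finset α} (h : s.card < Fintype.card α) :
    ∃ x, x ∉ s := by
  by_contra hc
  push Not at hc
  rw [Finset.eq_univ_of_forall hc, Finset.card_univ] at h
  exact lt_irrefl _ h

/-- The two-entry torus element: ν at i, ν⁻¹ at l. -/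
def two (i l : ι) (ν : Fˣ) : ι → Fˣ := fun k => if k = i then ν else if k = l then ν⁻¹ else 1

lemma prod_two {i l : ι} (h : i ≠ l) (ν : Fˣ) : ∏ k, (two i l ν k : F) = 1 := by
  rw [← Finset.mul_prod_erase _ _ (Finset.mem_univ i),
    ← Finset.mul_prod_erase _ _ (Finset.mem_erase.2 ⟨Ne.symm h, Finset.mem_univ l⟩)]
  rw [Finset.prod_eq_one (fun k hk => by
    simp only [Finset.mem_erase] at hk
    simp [two, hk.1, hk.2.1])]
  simp [two, Ne.symm h]

lemma det_dg (c : ι → Fˣ) : ((dg c : GL ι F) : Matrix ι ι F).det = ∏ i, (c i : F) := by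
  show (Matrix.diagonal fun i => (c i : F)).det = _
  rw [Matrix.det_diagonal]

lemma dg_two_mem_sl {i l : ι} (h : i ≠ l) (ν : Fˣ) : dg (two i l ν) ∈ Cfsg.Geo.specialLinear ι F := by
  rw [mem_sl_iff, det_dg, prod_two h]

/-- The vectors which are zero or full form a submodule. -/
noncomputable def fullSub (M : Subgroup (GL ι F)) : Submodule F (ι → F) where
  carrier := {x | x = 0 ∨ IsFull M x}
  zero_mem' := Or.inl rfl
  add_mem' := fun {p q} hp hq => by
    rcases eq_or_ne p 0 with rfl | hp0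
    · rwa [zero_add]
    rcases eq_or_ne q 0 with rfl | hq0
    · rwa [add_zero]
    have hp' := hp.resolve_left hp0
    have hq' := hq.resolve_left hq0
    by_cases hsp : p ∈ Submodule.span F {q}
    · obtain ⟨c, rfl⟩ := Submodule.mem_span_singleton.1 hsp
      rw [show c • q + q = (c + 1) • q by rw [add_smul, one_smul]]
      by_cases hc : c + 1 = 0
      · exact Or.inl (by rw [hc, zero_smul])
      · exact Or.inr (hq'.smul hc)
    · obtain ⟨θ, hθ, hθp⟩ := exists_dual_eq_one hsp
      have hθq : θ q = 0 := hθ q (Submodule.mem_span_singleton_self q)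
      have h1 := hp'.conj ((hq' θ hθq).2 1)
      rw [one_smul, tv_apply hθq, hθp, one_smul] at h1
      exact Or.inr h1
  smul_mem' := fun c p hp => by
    rcases eq_or_ne c 0 with rfl | hc
    · exact Or.inl (zero_smul _ _)
    rcases hp with rfl | hp'
    · exact Or.inl (smul_zero c)
    · exact Or.inr (hp'.smul hc)

theorem sl_le_of_fullSub (M : Subgroup (GL ι F)) (h : fullSub M = ⊤) :
    Cfsg.Geo.specialLinear ι F ≤ M := by
  refine sl_le_of_isFull M fun x hx => ?_
  have : x ∈ fullSub M := h ▸ Submodule.mem_top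
  exact this.resolve_left hx

section overgroup

variable {M : Subgroup (GL ι F)}
  (hM : ∀ g : GL ι F, IsMono g → g ∈ Cfsg.Geo.specialLinear ι F → g ∈ M)
include hM

lemma two_mem {i l : ι} (h : i ≠ l) (ν : Fˣ) : dg (two i l ν) ∈ M :=
  hM _ (isMono_dg _) (dg_two_mem_sl h ν)

omit hM in
lemma proj_comp_two_inv (i l : ι) (ν : Fˣ) (ρ : (ι → F) →ₗ[F] F) (k : ι) :
    (ρ ∘ₗ (app (dg (two i l ν))⁻¹).toLinearMap) (ee k) = (((two i l ν k)⁻¹ : Fˣ) : F) * ρ (ee k) := by
  rw [LinearMap.comp_apply, LinearEquiv.coe_coe, ← smul_eq_mul, ← map_smul]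
  congr 1
  funext k'
  rw [app_dg_inv]
  by_cases h : k' = k
  · subst h; simp [ee]
  · simp [ee, h]

omit hM in
lemma dual_ext_ee {φ ψ : (ι → F) →ₗ[F] F} (h : ∀ k, φ (ee k) = ψ (ee k)) : φ = ψ :=
  (Pi.basisFun F ι).ext fun i => by simpa [ee, Pi.basisFun_apply] using h i

/-- One elementary transvection gives the root group. -/
lemma root_of_one (hn : 3 ≤ Fintype.card ι) {i j : ι} (hij : i ≠ j) {κ : F} (hκ : κ ≠ 0)
    (h : tv (ee i) (κ • LinearMap.proj j) ∈ M) :
    (LinearMap.proj j : (ι → F) →ₗ[F] F) ∈ axes M (ee i) := by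
  have h0 : ∀ c : F, (c • (LinearMap.proj j : (ι → F) →ₗ[F] F)) (ee i) = 0 := fun c => by
    simp [ee, hij.symm]
  refine ⟨by simp [ee, hij.symm], fun c => ?_⟩
  rcases eq_or_ne c 0 with rfl | hc
  · rw [zero_smul, tv_zero]; exact one_mem M
  obtain ⟨l, hl⟩ : ∃ l, l ∉ ({i, j} : Finset ι) := exists_notMem_of_card_lt
    (lt_of_le_of_lt Finset.card_le_two (by omega))
  simp only [Finset.mem_insert, Finset.mem_singleton, not_or] at hl
  set ν : Fˣ := Units.mk0 (c / κ) (div_ne_zero hc hκ) with hν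
  have hd := two_mem hM (i := i) (l := l) (fun e => hl.1 e.symm) ν
  have h1 := mul_mem (mul_mem hd h) (inv_mem hd)
  rw [tv_conj (h0 κ)] at h1
  have e1 : app (dg (two i l ν)) (ee i) = (ν : F) • ee i := by
    funext k; by_cases hk : k = i
    · subst hk; simp [ee, two]
    · simp [ee, hk]
  have e2 : (κ • (LinearMap.proj j : (ι → F) →ₗ[F] F)) ∘ₗ (app (dg (two i l ν))⁻¹).toLinearMap =
      κ • LinearMap.proj j := dual_ext_ee fun k => by
    rw [proj_comp_two_inv]
    by_cases hk : k = j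
    · subst hk; simp [ee, two, hij.symm, Ne.symm hl.2]
    · simp [ee, Ne.symm hk]
  rw [e1, e2, tv_smul (h0 κ), smul_smul, hν, Units.val_mk0, div_mul_cancel₀ _ hκ] at h1
  exact h1

/-- A transvection with coordinate centre gives an elementary root group. -/
lemma root_of_row (hn : 4 ≤ Fintype.card ι) (hF : ∃ ν : Fˣ, ν ≠ 1) {t : ι}
    {ρ : (ι → F) →ₗ[F] F} (hρt : ρ (ee t) = 0) (hρ : ρ ≠ 0) (h : tv (ee t) ρ ∈ M) :
    ∃ i, i ≠ t ∧ (LinearMap.proj i : (ι → F) →ₗ[F] F) ∈ axes M (ee t) := by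
  obtain ⟨i, hi⟩ : ∃ i, ρ (ee i) ≠ 0 := by
    by_contra h0; push Not at h0; exact hρ (dual_ext_ee fun k => by rw [h0 k]; rfl)
  have hit : i ≠ t := fun e => hi (e ▸ hρt)
  obtain ⟨ν, hν⟩ := hF
  -- differences with a torus conjugate
  have diff : ∀ (ρ : (ι → F) →ₗ[F] F) (l : ι), ρ (ee t) = 0 → tv (ee t) ρ ∈ M → l ≠ t → i ≠ l →
      tv (ee t) (ρ ∘ₗ (app (dg (two i l ν))⁻¹).toLinearMap - ρ) ∈ M := by
    intro ρ l hρt h hlt hil
    have hd := two_mem hM hil ν
    have h1 := mul_mem (mul_mem hd h) (inv_mem hd)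
    have e1 : app (dg (two i l ν)) (ee t) = ee t := by
      funext k; by_cases hk : k = t
      · subst hk; simp [ee, two, hit.symm, hlt.symm]
      · simp [ee, hk]
    rw [tv_conj hρt, e1] at h1
    have h2 := mul_mem h1 (inv_mem h)
    have h3 : (ρ ∘ₗ (app (dg (two i l ν))⁻¹).toLinearMap) (ee t) = 0 := by
      rw [proj_comp_two_inv, hρt, mul_zero]
    rw [tv_inv hρt, ← tv_add h3 (by simp [hρt]), ← sub_eq_add_neg] at h2
    exact h2
  obtain ⟨l, hl⟩ : ∃ l, l ∉ ({t, i} : Finset ι) := exists_notMem_of_card_lt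
    (lt_of_le_of_lt Finset.card_le_two (by omega))
  obtain ⟨k, hk⟩ : ∃ k, k ∉ ({t, i, l} : Finset ι) := exists_notMem_of_card_lt
    (lt_of_le_of_lt Finset.card_le_three (by omega))
  simp only [Finset.mem_insert, Finset.mem_singleton, not_or] at hl hk
  set ρ1 := ρ ∘ₗ (app (dg (two i l ν))⁻¹).toLinearMap - ρ with hρ1
  have h1e : ∀ x, ρ1 (ee x) = ((((two i l ν x)⁻¹ : Fˣ) : F) - 1) * ρ (ee x) := fun x => by
    rw [hρ1, LinearMap.sub_apply, proj_comp_two_inv]; ring
  have h1 := diff ρ l hρt h hl.1 (Ne.symm hl.2)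
  have h2 := diff ρ1 k (by rw [h1e, hρt, mul_zero]) h1 hk.1 (Ne.symm hk.2.1)
  have key : ρ1 ∘ₗ (app (dg (two i k ν))⁻¹).toLinearMap - ρ1 =
      ((((ν⁻¹ : Fˣ) : F) - 1) ^ 2 * ρ (ee i)) • (LinearMap.proj i : (ι → F) →ₗ[F] F) :=
    dual_ext_ee fun x => by
      rw [LinearMap.sub_apply, proj_comp_two_inv, h1e]
      by_cases hxi : x = i
      · subst hxi; simp [two, ee]; ring
      · by_cases hxk : x = k
        · subst hxk; simp [two, ee, hxi, Ne.symm hxi, hk.2.2]
        · simp [two, ee, hxi, Ne.symm hxi, hxk]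
  rw [key] at h2
  refine ⟨i, hit, root_of_one hM (by omega) hit.symm (mul_ne_zero (pow_ne_zero _ ?_) hi) h2⟩
  rw [sub_ne_zero]
  exact fun e => hν (by rw [← _root_.inv_inj, inv_one]; exact Units.ext e)

/-- One elementary root group gives everything. -/
theorem sl_le_of_root {i j : ι} (hij : i ≠ j)
    (h : (LinearMap.proj j : (ι → F) →ₗ[F] F) ∈ axes M (ee i)) :
    Cfsg.Geo.specialLinear ι F ≤ M := by
  have hall : ∀ i' j', i' ≠ j' → (LinearMap.proj j' : (ι → F) →ₗ[F] F) ∈ axes M (ee i') := by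
    intro i' j' hij'
    set π := Equiv.swap (Equiv.swap i i' j) j' * Equiv.swap i i' with hπ
    have hi : π i = i' := by
      rw [hπ, Equiv.Perm.mul_apply, Equiv.swap_apply_left]
      refine Equiv.swap_apply_of_ne_of_ne (fun e => hij ?_) hij'
      apply (Equiv.swap i i').injective; rw [Equiv.swap_apply_left, ← e]
    have hj : π j = j' := by rw [hπ, Equiv.Perm.mul_apply, Equiv.swap_apply_left]
    set s : F := ((Equiv.Perm.sign π : ℤ) : F)
    have hs : s * s = 1 := by
      rw [← Int.cast_mul, ← Units.val_mul, Int.units_mul_self, Units.val_one, Int.cast_one]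
    have hs0 : s ≠ 0 := fun e => by rw [e, mul_zero] at hs; exact zero_ne_one hs
    set c : ι → Fˣ := fun k => if k = i then Units.mk0 s hs0 else 1 with hc
    have hm : pg π * dg c ∈ M := hM _ (isMono_pg_dg π c) (by
      rw [mem_sl_iff, det_pg_dg, Finset.prod_eq_single i (fun k _ hk => by simp [hc, hk])
        (fun h' => absurd (Finset.mem_univ i) h')]
      simpa [hc] using hs)
    have h1 := axes_conj hm h
    rw [app_pg_dg_ee, hi] at h1
    have h2 := axes_smul h1 ((c i : F))⁻¹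
    rw [smul_smul, inv_mul_cancel₀ (c i).ne_zero, one_smul] at h2
    have key : (LinearMap.proj j : (ι → F) →ₗ[F] F) ∘ₗ (app (pg π * dg c)⁻¹).toLinearMap =
        (LinearMap.proj j' : (ι → F) →ₗ[F] F) := LinearMap.ext fun x => by
      have hcj : (c j : F) = 1 := by simp [hc, hij.symm]
      show app (pg π * dg c)⁻¹ x j = x j'
      conv_rhs => rw [← app_app_inv (pg π * dg c) x, ← hj, app_pg_dg, show π⁻¹ (π j) = j from Equiv.symm_apply_apply π j,
        hcj, one_mul]
    rwa [key] at h2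
  have hfull : ∀ i', IsFull M (ee i') := fun i' φ hφ => by
    have e : φ = ∑ l, φ (ee l) • (LinearMap.proj l : (ι → F) →ₗ[F] F) := dual_ext_ee fun k => by
      simp [LinearMap.sum_apply, ee, Pi.single_apply]
    rw [e]
    refine Submodule.sum_mem _ fun l _ => ?_
    rcases eq_or_ne i' l with rfl | hl
    · rw [hφ, zero_smul]; exact zero_mem _
    · exact Submodule.smul_mem _ _ (hall i' l hl)
  refine sl_le_of_fullSub M (top_unique ?_)
  rw [← (Pi.basisFun F ι).span_eq, Submodule.span_le]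
  rintro _ ⟨k, rfl⟩
  exact Or.inr (by simpa [ee, Pi.basisFun_apply] using hfull k)

end overgroup

end Cfsg.Agent.Transvect
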