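/-
Symplectic forms given as functions: the functional fl v = f(·, v), symplectic transvections, transitivity,
and `symplecticSimilarity_maximal`: the similarities of a symplectic form are maximal in SL.
-/
import Cfsg.Agent.Lib.Transvect.Basic

set_option autoImplicit false
set_option linter.unusedSectionVars false

namespace Cfsg.Agent.Transvect

open Matrix
open scoped MatrixGroups

variable {ι : Type} [Fintype ι] [DecidableEq ι] {F : Type*} [Field F]
  {f : (ι → F) → (ι → F) → F}

/-- The linear map v ↦ f(·, v) of a bilinear form. -/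
def flin (hf : Cfsg.Geo.IsBilinearForm f) : (ι → F) →ₗ[F] ((ι → F) →ₗ[F] F) where
  toFun v :=
    { toFun := fun x => f x v
      map_add' := fun x y => hf.add_left x y v
      map_smul' := fun c x => hf.smul_left c x v }
  map_add' v w := LinearMap.ext fun x => hf.add_right x v w
  map_smul' c v := LinearMap.ext fun x => hf.smul_right c x v

@[simp] lemma flin_apply (hf : Cfsg.Geo.IsBilinearForm f) (v x : ι → F) : flin hf v x = f x v := rfl

lemma flin_injective (hf : Cfsg.Geo.IsBilinearForm f) (hn : Cfsg.Geo.IsNondegenerateForm f) :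
    Function.Injective (flin hf) := by
  rw [← LinearMap.ker_eq_bot, LinearMap.ker_eq_bot']
  intro v hv
  by_contra h0
  obtain ⟨⟨x, hx⟩, -⟩ := hn v h0
  exact hx (LinearMap.congr_fun hv x)

lemma flin_surjective (hf : Cfsg.Geo.IsBilinearForm f) (hn : Cfsg.Geo.IsNondegenerateForm f) :
    Function.Surjective (flin hf) :=
  (LinearMap.injective_iff_surjective_of_finrank_eq_finrank
    (Subspace.dual_finrank_eq (K := F) (V := ι → F)).symm).1 (flin_injective hf hn)

lemma symm_tv_isometry (hf : Cfsg.Geo.IsSymplecticForm f) (v : ι → F) (c : F) (x y : ι → F) :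
    f (app (tv v (c • flin hf.bilinear v)) x) (app (tv v (c • flin hf.bilinear v)) y) = f x y := by
  have h : (c • flin hf.bilinear v) v = 0 := by simp [hf.alternating]
  rw [tv_apply h, tv_apply h]
  simp only [hf.bilinear.add_left, hf.bilinear.add_right, hf.bilinear.smul_left,
    hf.bilinear.smul_right, LinearMap.smul_apply, flin_apply, hf.alternating, smul_eq_mul]
  rw [hf.skew v y]; ring

lemma exists_nonorth (hf : Cfsg.Geo.IsSymplecticForm f) {u u' : ι → F} (hu : u ≠ 0) (hu' : u' ≠ 0) :
    ∃ z, f u z ≠ 0 ∧ f z u' ≠ 0 := by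
  obtain ⟨-, a, ha⟩ := hf.nondegenerate u hu
  obtain ⟨⟨b, hb⟩, -⟩ := hf.nondegenerate u' hu'
  by_cases h1 : f a u' = 0
  · by_cases h2 : f u b = 0
    · exact ⟨a + b, by rw [hf.bilinear.add_right, h2, add_zero]; exact ha,
        by rw [hf.bilinear.add_left, h1, zero_add]; exact hb⟩
    · exact ⟨b, h2, hb⟩
  · exact ⟨a, ha, h1⟩

/-- Symplectic transvections in M move a nonzero vector to every nonzero vector. -/
lemma symp_transitive (hf : Cfsg.Geo.IsSymplecticForm f) {M : Subgroup (GL ι F)}
    (hM : ∀ v, flin hf.bilinear v ∈ axes M v) (P : (ι → F) → Prop)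
    (hP : ∀ g ∈ M, ∀ v, P v → P (app g v)) {u u' : ι → F} (hu : u ≠ 0) (hu' : u' ≠ 0)
    (h : P u) : P u' := by
  have step : ∀ u u', f u u' ≠ 0 → P u → P u' := by
    intro u u' hne hP'
    have h1 : f u (u' - u) = f u u' := by
      rw [← flin_apply hf.bilinear (u' - u) u, map_sub]
      simp [hf.alternating]
    have h0 : ((f u u')⁻¹ • flin hf.bilinear (u' - u)) (u' - u) = 0 := by
      rw [LinearMap.smul_apply, flin_apply, hf.alternating, smul_zero]
    have := hP _ ((hM (u' - u)).2 (f u u')⁻¹) u hP'
    rwa [tv_apply h0, LinearMap.smul_apply, flin_apply, h1, smul_eq_mul,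
      inv_mul_cancel₀ hne, one_smul, add_sub_cancel] at this
  obtain ⟨z, h1, h2⟩ := exists_nonorth hf hu hu'
  exact step z u' h2 (step u z h1 h)

theorem symplecticSimilarity_maximal (hcard : 3 ≤ Fintype.card ι)
    (hf : Cfsg.Geo.IsSymplecticForm f) :
    Cfsg.Geo.IsMaximalIn (Cfsg.Geo.specialLinear ι F)
      (Cfsg.Geo.similarityGroup f ⊓ Cfsg.Geo.specialLinear ι F) := by
  classical
  let L := flin hf.bilinear
  have hsim : ∀ (v : ι → F) (c : F),
      tv v (c • L v) ∈ Cfsg.Geo.similarityGroup f ⊓ Cfsg.Geo.specialLinear ι F := fun v c =>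
    ⟨⟨1, fun x y => by simpa using symm_tv_isometry hf v c x y⟩, tv_mem_sl _ _⟩
  refine isMaximalIn_of_forall inf_le_right ?_ ?_
  · haveI : Nonempty ι := Fintype.card_pos_iff.1 (by omega)
    obtain ⟨v, hv⟩ := exists_ne (0 : ι → F)
    have hk : Submodule.span F {v} < LinearMap.ker (L v) := by
      refine lt_of_le_of_ne ?_ ?_
      · rw [Submodule.span_singleton_le_iff_mem, LinearMap.mem_ker]; exact hf.alternating v
      · intro he
        have h1 := LinearMap.finrank_range_add_finrank_ker (L v)
        have h2 : Module.finrank F (LinearMap.range (L v)) ≤ 1 :=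
          le_trans (Submodule.finrank_le _) (Module.finrank_self F).le
        rw [← he, finrank_span_singleton hv, Module.finrank_fintype_fun_eq_card] at h1
        omega
    obtain ⟨y, hy, hyv⟩ := SetLike.exists_of_lt hk
    obtain ⟨φ, hφ, hφy⟩ := exists_dual_eq_one (W := Submodule.span F {v}) hyv
    have hφv : φ v = 0 := hφ v (Submodule.mem_span_singleton_self v)
    refine ⟨tv v φ, tv_mem_sl _ _, ?_⟩
    rintro ⟨⟨c, hc⟩, -⟩
    obtain ⟨⟨x', hx'⟩, -⟩ := hf.nondegenerate v hv
    have key : ∀ a b, f a b + φ b * f a v + φ a * f v b = (c : F) * f a b := fun a b => by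
      have := hc a b
      rw [← app_apply, ← app_apply, tv_apply hφv, tv_apply hφv] at this
      rw [← this]
      simp only [hf.bilinear.add_left, hf.bilinear.add_right, hf.bilinear.smul_left,
        hf.bilinear.smul_right, hf.alternating]
      ring
    have hc1 : (c : F) = 1 := by
      have := key x' v
      simp only [hf.alternating, hφv, mul_zero, zero_mul, add_zero] at this
      exact mul_right_cancel₀ hx' (by rw [one_mul]; exact this.symm)
    have := key y x'
    have hyv0 : f y v = 0 := hy
    rw [hc1, hyv0, hφy, mul_zero, add_zero, one_mul, one_mul, add_eq_left, hf.skew v x',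
      neg_eq_zero] at this
    exact hx' this
  · intro M hHM hMK g hgM hgH
    have hM : ∀ v, L v ∈ axes M v := fun v =>
      ⟨hf.alternating v, fun c => hHM (hsim v c)⟩
    -- some centre with a non-symplectic axis
    obtain ⟨v, hv⟩ : ∃ v, (L v) ∘ₗ (app g⁻¹).toLinearMap ∉
        Submodule.span F {L (app g v)} := by
      by_contra h
      push Not at h
      simp only [Submodule.mem_span_singleton] at h
      choose a ha using h
      have ha' : ∀ v x, a v * f (app g x) (app g v) = f x v := fun v x => by
        have := LinearMap.congr_fun (ha v) (app g x)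
        rw [LinearMap.smul_apply, LinearMap.comp_apply, LinearEquiv.coe_coe, app_inv_app,
          flin_apply, flin_apply] at this
        exact this
      have heq : ∀ u w, f u w ≠ 0 → a u = a w := fun u w hne => by
        have h1 := ha' u w
        have h2 := ha' w u
        rw [hf.skew (app g w) (app g u), hf.skew w u, mul_neg, neg_inj] at h1
        have h3 : f (app g u) (app g w) ≠ 0 := fun h0 => hne (by rw [← h2, h0, mul_zero])
        exact mul_right_cancel₀ h3 (by rw [h1, h2])
      haveI : Nonempty ι := Fintype.card_pos_iff.1 (by omega)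
      obtain ⟨v0, hv0⟩ := exists_ne (0 : ι → F)
      have hconst : ∀ u, u ≠ 0 → a u = a v0 := fun u hu => by
        obtain ⟨z, h1, h2⟩ := exists_nonorth hf hu hv0
        rw [heq u z h1, heq z v0 h2]
      have ha0 : a v0 ≠ 0 := by
        intro h0
        obtain ⟨⟨x, hx⟩, -⟩ := hf.nondegenerate v0 hv0
        exact hx (by rw [← ha' v0 x, h0, zero_mul])
      refine hgH ⟨⟨(Units.mk0 _ ha0)⁻¹, fun x y => ?_⟩, hMK hgM⟩
      rw [← app_apply, ← app_apply, Units.val_inv_eq_inv_val, Units.val_mk0]
      rcases eq_or_ne y 0 with rfl | hy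
      · have h0 : ∀ z, f z 0 = 0 := fun z => by
          rw [← flin_apply hf.bilinear 0 z, map_zero, LinearMap.zero_apply]
        simp [h0]
      · rw [← ha' y x, hconst y hy, ← mul_assoc, inv_mul_cancel₀ ha0, one_mul]
    set w := app g v with hw_def
    have hφ0 : (L v) ∘ₗ (app g⁻¹).toLinearMap ∈ axes M w := axes_conj hgM (hM v)
    set φ := (L v) ∘ₗ (app g⁻¹).toLinearMap
    have hw : w ≠ 0 := by
      intro h0
      have hv0 : v = 0 := (app g).injective (by rw [← hw_def, h0, map_zero])
      apply hv
      have : φ = 0 := by simp [φ, hv0]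
      rw [this]; exact zero_mem _
    -- step: if u ⊥ w and some axis does not kill u then L u is an axis
    have step : ∀ (u : ι → F) (ψ : (ι → F) →ₗ[F] F), f w u = 0 → ψ ∈ axes M w → ψ u ≠ 0 →
        L u ∈ axes M w := by
      intro u ψ hwu hψ hψu
      have h1 := axes_conj ((hM u).2 1) hψ
      have e1 : app (tv u ((1 : F) • L u)) w = w := by
        rw [tv_apply (by simp [L, hf.alternating])]; simp [L, hwu]
      rw [e1] at h1
      have e2 : ψ ∘ₗ (app (tv u ((1 : F) • L u))⁻¹).toLinearMap = ψ - (ψ u) • L u := by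
        rw [tv_inv (by simp [L, hf.alternating])]
        refine LinearMap.ext fun x => ?_
        simp only [LinearMap.comp_apply, LinearEquiv.coe_coe]
        rw [tv_apply (by simp [L, hf.alternating]), map_add, map_smul]
        simp only [one_smul, LinearMap.neg_apply, LinearMap.sub_apply, LinearMap.smul_apply,
          smul_eq_mul]
        ring
      rw [e2] at h1
      have h2 := (axes M w).smul_mem (ψ u)⁻¹ ((axes M w).sub_mem hψ h1)
      rwa [sub_sub_cancel, smul_smul, inv_mul_cancel₀ hψu, one_smul] at h2
    obtain ⟨y0, hy0, hφy0⟩ : ∃ y0, f y0 w = 0 ∧ φ y0 ≠ 0 := by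
      by_contra h
      push Not at h
      apply hv
      obtain ⟨⟨z, hz⟩, -⟩ := hf.nondegenerate w hw
      refine Submodule.mem_span_singleton.2 ⟨φ z / f z w, LinearMap.ext fun x => ?_⟩
      have h1 := h (x - (f x w / f z w) • z) (by
        rw [← flin_apply hf.bilinear w, map_sub, map_smul]
        simp [div_mul_cancel₀ _ hz])
      rw [map_sub, map_smul, sub_eq_zero, smul_eq_mul] at h1
      show (φ z / f z w) * f x w = φ x
      rw [h1]; ring
    have perp : ∀ y, f w y = 0 ↔ f y w = 0 := fun y => by rw [hf.skew w y, neg_eq_zero]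
    have hU0 : L y0 ∈ axes M w := step y0 φ ((perp _).2 hy0) hφ0 hφy0
    have hfull : IsFull M w := by
      intro ψ hψ
      obtain ⟨y, hy⟩ := flin_surjective hf.bilinear hf.nondegenerate ψ
      subst hy
      have hy : f w y = 0 := hψ
      by_cases h : φ y = 0
      · have hs : L (y + y0) ∈ axes M w :=
          step (y + y0) φ (by rw [hf.bilinear.add_right, hy, (perp _).2 hy0, add_zero]) hφ0
            (by simpa [h] using hφy0)
        have := (axes M w).sub_mem hs hU0
        rwa [map_add, add_sub_cancel_right] at this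
      · exact step y φ hy hφ0 h
    exact sl_le_of_isFull M fun u hu =>
      symp_transitive hf hM (IsFull M) (fun g hg v h => h.conj hg) hw hu hfull

end Cfsg.Agent.Transvect
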