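/-
Overgroups in symplectic groups through transvection centres.
Main results: `isometry_mem_of_centres` (Sp is generated by transvections), `sympForm_isSymplectic`,
`centres`, `centres_conj`, `pr` (projection to a nondegenerate subspace), `move_component`,
`exists_isometry` (nondegenerate alternating spaces of equal dimension are isometric).
-/
import Cfsg.Agent.Lib.Transvect.SympForm

set_option autoImplicit false
set_option linter.unusedSectionVars false

namespace Cfsg.Agent.Transvect

open Matrix
open scoped MatrixGroups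

variable {ι : Type} [Fintype ι] [DecidableEq ι] {F : Type*} [Field F]
  {f : (ι → F) → (ι → F) → F}

/-- g is an isometry of f. -/
def IsIsom (f : (ι → F) → (ι → F) → F) (g : GL ι F) : Prop := ∀ x y, f (app g x) (app g y) = f x y

lemma IsIsom.inv {g : GL ι F} (h : IsIsom f g) : IsIsom f g⁻¹ := fun x y => by
  have := h (app g⁻¹ x) (app g⁻¹ y)
  rw [app_app_inv, app_app_inv] at this
  exact this.symm

lemma IsIsom.mul {g k : GL ι F} (h : IsIsom f g) (h' : IsIsom f k) : IsIsom f (g * k) := fun x y => by
  rw [map_mul, LinearEquiv.mul_apply, LinearEquiv.mul_apply, h, h']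

lemma mem_spGL_iff {m : ℕ} {g : GL (Fin m ⊕ Fin m) F} :
    g ∈ Cfsg.spGL m F ↔ IsIsom (Cfsg.sympForm m F) g := Iff.rfl

/-- The symplectic transvection x ↦ x + c f(x, v) v. -/
noncomputable def st (hf : Cfsg.Geo.IsSymplecticForm f) (v : ι → F) (c : F) : GL ι F :=
  tv v (c • flin hf.bilinear v)

lemma st_apply (hf : Cfsg.Geo.IsSymplecticForm f) (v : ι → F) (c : F) (x : ι → F) :
    app (st hf v c) x = x + (c * f x v) • v := by
  rw [st, tv_apply (by simp [hf.alternating])]; simp

lemma st_isIsom (hf : Cfsg.Geo.IsSymplecticForm f) (v : ι → F) (c : F) : IsIsom f (st hf v c) :=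
  symm_tv_isometry hf v c

/-- Centres v whose whole symplectic transvection group lies in M. -/
def centres (hf : Cfsg.Geo.IsSymplecticForm f) (M : Subgroup (GL ι F)) : Set (ι → F) :=
  {v | ∀ c, st hf v c ∈ M}

lemma centres_smul (hf : Cfsg.Geo.IsSymplecticForm f) {M : Subgroup (GL ι F)} {v : ι → F}
    (hv : v ∈ centres hf M) (a : F) : a • v ∈ centres hf M := fun c => by
  convert hv (c * a * a) using 1
  refine gl_ext fun x => ?_
  rw [st_apply, st_apply, hf.bilinear.smul_right, smul_smul]; congr 1; ring_nf

lemma zero_mem_centres (hf : Cfsg.Geo.IsSymplecticForm f) (M : Subgroup (GL ι F)) :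
    (0 : ι → F) ∈ centres hf M := fun c => by
  have : st hf 0 c = 1 := gl_ext fun x => by rw [st_apply]; simp
  rw [this]; exact one_mem _

lemma st_conj (hf : Cfsg.Geo.IsSymplecticForm f) {g : GL ι F} (hg : IsIsom f g) (v : ι → F) (c : F) :
    g * st hf v c * g⁻¹ = st hf (app g v) c := by
  rw [st, tv_conj (by simp [hf.alternating]), st, LinearMap.smul_comp]
  congr 2
  refine LinearMap.ext fun x => ?_
  rw [LinearMap.comp_apply, LinearEquiv.coe_coe, flin_apply, flin_apply, ← hg _ v, app_app_inv]

lemma centres_conj (hf : Cfsg.Geo.IsSymplecticForm f) {M : Subgroup (GL ι F)} {g : GL ι F}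
    (hgM : g ∈ M) (hg : IsIsom f g) {v : ι → F} (hv : v ∈ centres hf M) :
    app g v ∈ centres hf M := fun c => by
  rw [← st_conj hf hg]; exact mul_mem (mul_mem hgM (hv c)) (inv_mem hgM)

/-- If u is a centre and v is one, so is the image v + c f(v,u) u. -/
lemma centres_step (hf : Cfsg.Geo.IsSymplecticForm f) {M : Subgroup (GL ι F)} {u v : ι → F}
    (hu : u ∈ centres hf M) (hv : v ∈ centres hf M) (c : F) :
    v + (c * f v u) • u ∈ centres hf M := by
  rw [← st_apply hf u c v]; exact centres_conj hf (hu c) (st_isIsom hf u c) hv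

lemma centres_step' (hf : Cfsg.Geo.IsSymplecticForm f) {M : Subgroup (GL ι F)} {u v : ι → F}
    (hu : u ∈ centres hf M) (hv : v ∈ centres hf M) (h : f v u ≠ 0) (a : F) :
    v + a • u ∈ centres hf M := by
  simpa [div_mul_cancel₀ a h] using centres_step hf hu hv (a / f v u)

/-- The symplectic group is generated by its transvections. -/
theorem isometry_mem_of_centres (hf : Cfsg.Geo.IsSymplecticForm f) (M : Subgroup (GL ι F))
    (hM : ∀ v, v ∈ centres hf M) {g : GL ι F} (hg : IsIsom f g) : g ∈ M := by
  classical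
  suffices ∀ (k : ℕ) (g : GL ι F), IsIsom f g →
      Fintype.card ι - Module.finrank F (LinearMap.ker ((app g).toLinearMap - LinearMap.id)) ≤ k →
      g ∈ M from this _ g hg le_rfl
  have memK : ∀ (g : GL ι F) (x : ι → F),
      x ∈ LinearMap.ker ((app g).toLinearMap - LinearMap.id) ↔ app g x = x := fun g x => by
    rw [LinearMap.mem_ker, LinearMap.sub_apply, sub_eq_zero, LinearMap.id_apply, LinearEquiv.coe_coe]
  intro k
  induction k with
  | zero =>
    intro g _ h0
    have htop : LinearMap.ker ((app g).toLinearMap - LinearMap.id) = ⊤ := by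
      apply Submodule.eq_top_of_finrank_eq
      have := Submodule.finrank_le (LinearMap.ker ((app g).toLinearMap - LinearMap.id))
      rw [Module.finrank_fintype_fun_eq_card] at this ⊢
      omega
    have : g = 1 := gl_ext fun x => by
      rw [map_one, (memK g x).1 (htop ▸ Submodule.mem_top)]; rfl
    rw [this]; exact one_mem _
  | succ k ih =>
    -- if u is moved and f(u, g u) ≠ 0 then one transvection enlarges the fixed space
    have case1 : ∀ g, IsIsom f g →
        Fintype.card ι - Module.finrank F (LinearMap.ker ((app g).toLinearMap - LinearMap.id)) ≤ k + 1 →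
        ∀ u, f u (app g u) ≠ 0 → g ∈ M := by
      intro g hg hk u hu
      let t := st hf (app g u - u) (-(f u (app g u))⁻¹)
      have ht : IsIsom f t := st_isIsom hf _ _
      have h1 : f (app g u) (app g u - u) = f u (app g u) := by
        rw [← flin_apply hf.bilinear (app g u - u) (app g u), map_sub]
        simp only [LinearMap.sub_apply, flin_apply, hf.alternating, hf.skew (app g u) u,
          zero_sub, neg_neg]
      have hu' : app (t * g) u = u := by
        rw [map_mul, LinearEquiv.mul_apply, st_apply, h1, neg_mul, inv_mul_cancel₀ hu,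
          neg_smul, one_smul]
        abel
      have hle : LinearMap.ker ((app g).toLinearMap - LinearMap.id) <
          LinearMap.ker ((app (t * g)).toLinearMap - LinearMap.id) := by
        refine lt_of_le_of_ne (fun x hx => ?_) ?_
        · rw [memK] at hx ⊢
          have h2 : f x (app g u - u) = 0 := by
            rw [← flin_apply hf.bilinear (app g u - u) x, map_sub]
            simp only [LinearMap.sub_apply, flin_apply]
            rw [sub_eq_zero]
            conv_lhs => rw [← hx, hg]
          rw [map_mul, LinearEquiv.mul_apply, hx, st_apply, h2, mul_zero, zero_smul, add_zero]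
        · intro he
          have h3 : app g u = u := (memK g u).1 (he ▸ (memK _ u).2 hu')
          exact hu (by rw [h3, hf.alternating])
      have := Submodule.finrank_lt_finrank_of_lt hle
      have h4 : t * g ∈ M := ih _ (ht.mul hg) (by omega)
      simpa [t] using mul_mem (inv_mem (hM (app g u - u) (-(f u (app g u))⁻¹))) h4
    intro g hg hk
    by_cases hall : ∀ u, f u (app g u) = 0
    · by_cases h1 : ∀ u, app g u = u
      · have : g = 1 := gl_ext fun x => by rw [map_one, h1]; rfl
        rw [this]; exact one_mem _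
      push Not at h1
      obtain ⟨u, hu⟩ := h1
      have hne : app g u - u ≠ 0 := sub_ne_zero.2 hu
      obtain ⟨⟨w, hw⟩, -⟩ := hf.nondegenerate _ hne
      let z := app g w - w
      have hpol : ∀ x y, f x (app g y) + f y (app g x) = 0 := fun x y => by
        have := hall (x + y)
        rw [map_add, hf.bilinear.add_left, hf.bilinear.add_right, hf.bilinear.add_right, hall, hall,
          zero_add, add_zero] at this
        exact this
      have hz1 : f u z = f u (app g w) - f u w := by
        rw [← flin_apply hf.bilinear z u, map_sub]; simp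
      have hz2 : f (app g u) z = - f u z := by
        rw [hz1, ← flin_apply hf.bilinear z (app g u), map_sub]
        simp only [LinearMap.sub_apply, flin_apply]
        rw [hg u w, hf.skew (app g u) w]
        have := hpol u w
        linear_combination this
      have hz : f u z ≠ 0 := by
        intro h0
        apply hw
        rw [← flin_apply hf.bilinear (app g u - u) w, map_sub]
        simp only [LinearMap.sub_apply, flin_apply]
        have := hpol u w
        rw [hf.skew w u]
        linear_combination this - (hz1.symm.trans h0)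
      let t := st hf z 1
      have ht : IsIsom f t := st_isIsom hf _ _
      have hle : LinearMap.ker ((app g).toLinearMap - LinearMap.id) ≤
          LinearMap.ker ((app (t * g)).toLinearMap - LinearMap.id) := fun x hx => by
        rw [memK] at hx ⊢
        have h2 : f x z = 0 := by
          rw [← flin_apply hf.bilinear z x, map_sub]
          simp only [LinearMap.sub_apply, flin_apply]
          rw [sub_eq_zero]
          conv_lhs => rw [← hx, hg]
        rw [map_mul, LinearEquiv.mul_apply, hx, st_apply, h2, mul_zero, zero_smul, add_zero]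
      have h5 : f u (app (t * g) u) ≠ 0 := by
        rw [map_mul, LinearEquiv.mul_apply, st_apply, hf.bilinear.add_right, hall, zero_add,
          hf.bilinear.smul_right, hz2, one_mul]
        exact mul_ne_zero (neg_ne_zero.2 hz) hz
      have hfin := Submodule.finrank_mono hle
      have h4 : t * g ∈ M := case1 _ (ht.mul hg) (by omega) u h5
      simpa [t] using mul_mem (inv_mem (hM z 1)) h4
    · push Not at hall
      obtain ⟨u, hu⟩ := hall
      exact case1 g hg hk u hu

/-- The perp of a subspace. -/
def perp (hf : Cfsg.Geo.IsBilinearForm f) (U : Submodule F (ι → F)) : Submodule F (ι → F) where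
  carrier := {v | ∀ w ∈ U, f w v = 0}
  zero_mem' := fun w _ => by rw [← flin_apply hf 0 w, map_zero]; rfl
  add_mem' := fun ha hb w hw => by rw [hf.add_right, ha w hw, hb w hw, add_zero]
  smul_mem' := fun c a ha w hw => by rw [hf.smul_right, ha w hw, mul_zero]

lemma mem_perp (hf : Cfsg.Geo.IsBilinearForm f) {U : Submodule F (ι → F)} {v : ι → F} :
    v ∈ perp hf U ↔ ∀ w ∈ U, f w v = 0 := Iff.rfl

/-- Existence of the orthogonal projection to a nondegenerate subspace. -/
lemma exists_pr (hf : Cfsg.Geo.IsBilinearForm f) {U : Submodule F (ι → F)}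
    (hU : Cfsg.Geo.IsNondegenerateOn f U) :
    ∃ p : (ι → F) →ₗ[F] (ι → F), (∀ x, p x ∈ U) ∧ (∀ u ∈ U, p u = u) ∧
      ∀ x, ∀ u ∈ U, f u (p x) = f u x := by
  let R : (ι → F) →ₗ[F] Module.Dual F U :=
    { toFun := fun v => (flin hf v) ∘ₗ U.subtype
      map_add' := fun v w => by rw [map_add, LinearMap.add_comp]
      map_smul' := fun c v => by rw [map_smul, LinearMap.smul_comp]; rfl }
  let R' : U →ₗ[F] Module.Dual F U := R ∘ₗ U.subtype
  have hinj : Function.Injective R' := by
    rw [← LinearMap.ker_eq_bot, LinearMap.ker_eq_bot']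
    intro a ha
    by_contra h0
    obtain ⟨⟨x, hx, hx'⟩, -⟩ := hU a a.2 (fun h => h0 (Subtype.ext h))
    exact hx' (LinearMap.congr_fun ha ⟨x, hx⟩)
  let eR := LinearMap.linearEquivOfInjective R' hinj Subspace.dual_finrank_eq.symm
  refine ⟨U.subtype ∘ₗ eR.symm.toLinearMap ∘ₗ R, fun x => Submodule.coe_mem _, fun u hu => ?_,
    fun x u hu => ?_⟩
  · have : eR ⟨u, hu⟩ = R u := LinearMap.linearEquivOfInjective_apply _ _ _
    show ((eR.symm (R u) : U) : ι → F) = u
    rw [← this, LinearEquiv.symm_apply_apply]
  · have h1 : R' (eR.symm (R x)) = R x := by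
      conv_rhs => rw [← eR.apply_symm_apply (R x)]
      exact (LinearMap.linearEquivOfInjective_apply _ _ _).symm
    exact LinearMap.congr_fun h1 ⟨u, hu⟩

/-- Nondegenerate alternating spaces of equal dimension are isometric. -/
theorem exists_isometry (hf : Cfsg.Geo.IsSymplecticForm f) :
    ∀ (d : ℕ) (U U' : Submodule F (ι → F)), Module.finrank F U = d → Module.finrank F U' = d →
      Cfsg.Geo.IsNondegenerateOn f U → Cfsg.Geo.IsNondegenerateOn f U' →
      ∃ φ : (ι → F) →ₗ[F] (ι → F), (∀ x ∈ U, φ x ∈ U') ∧
        ∀ x ∈ U, ∀ y ∈ U, f (φ x) (φ y) = f x y := by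
  intro d
  induction d using Nat.strong_induction_on with
  | _ d ih =>
    intro U U' hd hd' hU hU'
    rcases Nat.eq_zero_or_pos d with rfl | hpos
    · refine ⟨0, fun x _ => zero_mem _, fun x hx y _ => ?_⟩
      have : x = 0 := by
        rw [Submodule.finrank_eq_zero] at hd
        rw [hd] at hx; simpa using hx
      subst this
      rw [map_zero, ← flin_apply hf.bilinear y 0, map_zero, LinearMap.zero_apply,
        ← flin_apply hf.bilinear, map_zero]
    -- hyperbolic pairs
    have pair : ∀ U : Submodule F (ι → F), Module.finrank F U = d →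
        Cfsg.Geo.IsNondegenerateOn f U → ∃ e ∈ U, ∃ e' ∈ U, f e e' = 1 := by
      intro U hd hU
      obtain ⟨e, he, he0⟩ := Submodule.exists_mem_ne_zero_of_ne_bot (p := U) (by
        rintro rfl; simp at hd; omega)
      obtain ⟨-, x, hx, hx'⟩ := hU e he he0
      exact ⟨e, he, (f e x)⁻¹ • x, U.smul_mem _ hx, by
        rw [hf.bilinear.smul_right, inv_mul_cancel₀ hx']⟩
    obtain ⟨e, he, e', he', hee⟩ := pair U hd hU
    obtain ⟨a, ha, a', ha', haa⟩ := pair U' hd' hU'
    -- the complements of the two pairs
    have comp : ∀ (U : Submodule F (ι → F)) (e e' : ι → F), e ∈ U → e' ∈ U → f e e' = 1 →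
        Cfsg.Geo.IsNondegenerateOn f U →
        let q : (ι → F) →ₗ[F] (ι → F) := LinearMap.id - (flin hf.bilinear e').smulRight e
          + (flin hf.bilinear e).smulRight e'
        ∃ U₁ : Submodule F (ι → F), Module.finrank F U₁ + 2 = Module.finrank F U ∧ U₁ ≤ U ∧
          (∀ x ∈ U₁, f x e = 0 ∧ f x e' = 0) ∧ Cfsg.Geo.IsNondegenerateOn f U₁ ∧
          ∀ x ∈ U, q x ∈ U₁ := by
      intro U e e' he he' hee hU q
      have hqa : ∀ x, q x = x - f x e' • e + f x e • e' := fun x => rfl
      have he'e : f e' e = -1 := by rw [hf.skew, hee]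
      have hq : ∀ x, f (q x) e = 0 ∧ f (q x) e' = 0 := fun x => by
        rw [hqa, sub_eq_add_neg, ← neg_smul]
        simp only [hf.bilinear.add_left, hf.bilinear.smul_left, hf.alternating, hee, he'e]
        exact ⟨by ring, by ring⟩
      let L : U →ₗ[F] F × F :=
        ((flin hf.bilinear e).prod (flin hf.bilinear e')) ∘ₗ U.subtype
      have hL : Function.Surjective L := fun p =>
        ⟨⟨p.2 • e - p.1 • e', U.sub_mem (U.smul_mem _ he) (U.smul_mem _ he')⟩, by
          simp [L, sub_eq_add_neg, ← neg_smul, hf.bilinear.add_left, hf.bilinear.smul_left,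
            hf.alternating, hee, he'e]⟩
      refine ⟨(LinearMap.ker L).map U.subtype, ?_, Submodule.map_subtype_le _ _, ?_, ?_, ?_⟩
      · rw [Submodule.finrank_map_subtype_eq, ← LinearMap.finrank_range_add_finrank_ker L,
          LinearMap.range_eq_top.2 hL, finrank_top, Module.finrank_prod, Module.finrank_self]
        ring
      · rintro _ ⟨x, hx, rfl⟩
        exact Prod.ext_iff.1 hx
      · rintro _ ⟨x, hx, rfl⟩ hx0
        obtain ⟨hxe, hxe'⟩ : f x e = 0 ∧ f x e' = 0 := Prod.ext_iff.1 hx
        obtain ⟨-, y, hy, hy'⟩ := hU x x.2 hx0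
        have hmem : q y ∈ (LinearMap.ker L).map U.subtype :=
          ⟨⟨q y, by rw [hqa]; exact U.add_mem (U.sub_mem hy (U.smul_mem _ he)) (U.smul_mem _ he')⟩,
            Prod.ext (hq y).1 (hq y).2, rfl⟩
        have h1 : f x (q y) = f x y := by
          rw [hqa, sub_eq_add_neg, ← neg_smul]
          simp only [hf.bilinear.add_right, hf.bilinear.smul_right]
          rw [hxe, hxe']
          ring
        refine ⟨⟨q y, hmem, ?_⟩, ⟨q y, hmem, ?_⟩⟩
        · rw [hf.skew]; simpa [h1] using hy'
        · simpa [h1] using hy'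
      · intro x hx
        exact ⟨⟨q x, by rw [hqa]; exact U.add_mem (U.sub_mem hx (U.smul_mem _ he)) (U.smul_mem _ he')⟩,
          Prod.ext (hq x).1 (hq x).2, rfl⟩
    obtain ⟨U₁, hd₁, -, hperp, hn₁, hq⟩ := comp U e e' he he' hee hU
    obtain ⟨U₁', hd₁', hle', hperp', hn₁', -⟩ := comp U' a a' ha ha' haa hU'
    obtain ⟨φ₁, hφmem, hφ⟩ := ih (d - 2) (by omega) U₁ U₁' (by omega) (by omega) hn₁ hn₁'
    set q : (ι → F) →ₗ[F] (ι → F) := LinearMap.id - (flin hf.bilinear e').smulRight e
      + (flin hf.bilinear e).smulRight e' with hq_def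
    refine ⟨(flin hf.bilinear e').smulRight a - (flin hf.bilinear e).smulRight a' + φ₁ ∘ₗ q,
      fun x hx => ?_, fun x hx y hy => ?_⟩
    · exact U'.add_mem (U'.sub_mem (U'.smul_mem _ ha) (U'.smul_mem _ ha')) (hle' (hφmem _ (hq x hx)))
    · have hqa : ∀ z, z = q z + f z e' • e - f z e • e' := fun z => by
        simp [hq_def]; abel
      have expand : ∀ (U : Submodule F (ι → F)) (e e' : ι → F) (_ : f e e' = 1)
          (hp : ∀ z ∈ U, f z e = 0 ∧ f z e' = 0) (p p' : ι → F) (_ : p ∈ U) (_ : p' ∈ U)
          (r s r' s' : F),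
          f (p + r • e - s • e') (p' + r' • e - s' • e') = f p p' - r * s' + s * r' := by
        intro U e e' h1 hp p p' hp1 hp2 r s r' s'
        have h1' : f e' e = -1 := by rw [hf.skew, h1]
        rw [sub_eq_add_neg, sub_eq_add_neg, ← neg_smul, ← neg_smul]
        simp only [hf.bilinear.add_left, hf.bilinear.add_right, hf.bilinear.smul_left,
          hf.bilinear.smul_right, hf.alternating, h1, h1', (hp p hp1).1, (hp p hp1).2,
          hf.skew e p', hf.skew e' p', (hp p' hp2).1, (hp p' hp2).2]
        ring
      conv_rhs => rw [hqa x, hqa y]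
      rw [expand U₁ e e' hee hperp (q x) (q y) (hq x hx) (hq y hy), ← hφ _ (hq x hx) _ (hq y hy),
        ← expand U₁' a a' haa hperp' (φ₁ (q x)) (φ₁ (q y)) (hφmem _ (hq x hx)) (hφmem _ (hq y hy))]
      simp only [LinearMap.add_apply, LinearMap.sub_apply, LinearMap.smulRight_apply,
        LinearMap.comp_apply, flin_apply]
      congr 1 <;> abel

/-- Moving the component of a centre inside a nondegenerate subspace of centres. -/
lemma move_component (hf : Cfsg.Geo.IsSymplecticForm f) {M : Subgroup (GL ι F)}
    {U : Submodule F (ι → F)} (hU : Cfsg.Geo.IsNondegenerateOn f U)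
    (hUc : ∀ u ∈ U, u ∈ centres hf M) {a a' b : ι → F} (ha : a ∈ U) (ha' : a' ∈ U)
    (ha0 : a ≠ 0) (ha0' : a' ≠ 0) (hb : ∀ u ∈ U, f b u = 0) (h : a + b ∈ centres hf M) :
    a' + b ∈ centres hf M := by
  have step : ∀ a a', a ∈ U → a' ∈ U → f a a' ≠ 0 → a + b ∈ centres hf M →
      a' + b ∈ centres hf M := by
    intro a a' ha ha' hne h
    have hm : a' - a ∈ U := U.sub_mem ha' ha
    have h1 : f (a + b) (a' - a) = f a a' := by
      rw [hf.bilinear.add_left, hb _ hm, add_zero, ← flin_apply hf.bilinear (a' - a) a, map_sub]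
      simp [hf.alternating]
    have := centres_step' hf (hUc _ hm) h (h1.symm ▸ hne) 1
    rwa [one_smul, add_right_comm, add_sub_cancel] at this
  obtain ⟨-, x, hx, hx'⟩ := hU a ha ha0
  obtain ⟨⟨y, hy, hy'⟩, -⟩ := hU a' ha' ha0'
  obtain ⟨z, hz, h1, h2⟩ : ∃ z ∈ U, f a z ≠ 0 ∧ f z a' ≠ 0 := by
    by_cases e1 : f x a' = 0
    · by_cases e2 : f a y = 0
      · exact ⟨x + y, U.add_mem hx hy, by rw [hf.bilinear.add_right, e2, add_zero]; exact hx',
          by rw [hf.bilinear.add_left, e1, zero_add]; exact hy'⟩
      · exact ⟨y, hy, e2, hy'⟩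
    · exact ⟨x, hx, hx', e1⟩
  exact step z a' hz ha' h2 (step a z ha hz h1 h)

theorem sympForm_isSymplectic (m : ℕ) : Cfsg.Geo.IsSymplecticForm (Cfsg.sympForm m F) := by
  have expl : ∀ u v : Fin m ⊕ Fin m → F, Cfsg.sympForm m F u v =
      ∑ i, (u (.inr i) * v (.inl i) - u (.inl i) * v (.inr i)) := fun u v => by
    simp only [Cfsg.sympForm, Matrix.J, dotProduct, Fintype.sum_sum_type, Matrix.mulVec,
      Matrix.fromBlocks_apply₁₁, Matrix.fromBlocks_apply₁₂, Matrix.fromBlocks_apply₂₁,
      Matrix.fromBlocks_apply₂₂, Matrix.zero_apply, Matrix.neg_apply, Matrix.one_apply]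
    simp [Finset.sum_sub_distrib, Finset.sum_neg_distrib, Finset.sum_add_distrib, sub_eq_neg_add]
  refine ⟨⟨fun x y v => ?_, fun c x v => ?_, fun v x y => ?_, fun c v x => ?_⟩,
    fun v w => ?_, fun v => ?_, fun v hv => ?_⟩
  · simp only [expl, Pi.add_apply, ← Finset.sum_add_distrib]
    exact Finset.sum_congr rfl fun i _ => by ring
  · simp only [expl, Pi.smul_apply, smul_eq_mul, Finset.mul_sum]
    exact Finset.sum_congr rfl fun i _ => by ring
  · simp only [expl, Pi.add_apply, ← Finset.sum_add_distrib]
    exact Finset.sum_congr rfl fun i _ => by ring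
  · simp only [expl, Pi.smul_apply, smul_eq_mul, Finset.mul_sum]
    exact Finset.sum_congr rfl fun i _ => by ring
  · simp only [expl, ← Finset.sum_neg_distrib]
    exact Finset.sum_congr rfl fun i _ => by ring
  · rw [expl]; exact Finset.sum_eq_zero fun i _ => by ring
  · obtain ⟨i, hi⟩ := Function.ne_iff.1 hv
    rw [Pi.zero_apply] at hi
    rcases i with i | i
    · refine ⟨⟨Pi.single (.inr i) 1, ?_⟩, ⟨Pi.single (.inr i) 1, ?_⟩⟩ <;>
        simp [expl, Pi.single_apply, hi]
    · refine ⟨⟨Pi.single (.inl i) 1, ?_⟩, ⟨Pi.single (.inl i) 1, ?_⟩⟩ <;>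
        simp [expl, Pi.single_apply, hi]

/-- A subgroup of Sp_2m containing every transvection is everything. -/
theorem spGL_le_of_centres {m : ℕ} (M : Subgroup (GL (Fin m ⊕ Fin m) F))
    (hM : ∀ v, v ∈ centres (sympForm_isSymplectic m) M) : Cfsg.spGL m F ≤ M :=
  fun _ hg => isometry_mem_of_centres _ M hM (mem_spGL_iff.1 hg)

end Cfsg.Agent.Transvect
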