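/-
Unitary forms given as functions (Cfsg.Geo.IsUnitaryForm): semilinear functional `ufl`, unitary transvections,
existence of isotropic vectors, and `unitarySimilarity_maximal`: similarities of a unitary form are maximal in SL.
-/
import Cfsg.Agent.Lib.Transvect.Basic
import Cfsg.Agent.Lib.Unitary.Field

set_option autoImplicit false
set_option linter.unusedSectionVars false

namespace Cfsg.Agent.Transvect

open Matrix
open scoped MatrixGroups

variable {ι : Type} [Fintype ι] [DecidableEq ι] {F : Type*} [Field F] [Fintype F]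
  {σ : F ≃+* F} {f : (ι → F) → (ι → F) → F}

/-- For an involutory automorphism of a finite field: |F| = q² and norms hit every fixed element. -/
theorem norm_surjective (h1 : σ ≠ RingEquiv.refl F) (h2 : ∀ a, σ (σ a) = a) {c : F} (hc : σ c = c) :
    ∃ x, x * σ x = c := by
  classical
  obtain ⟨b, hb⟩ : ∃ b, σ b ≠ b := by
    by_contra h; push Not at h; exact h1 (RingEquiv.ext h)
  let K := {x : F // σ x = x}
  have hne : b - σ b ≠ 0 := sub_ne_zero.2 (Ne.symm hb)
  have hbij : Function.Bijective (fun p : K × K => (p.1 : F) + p.2 * b) := by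
    constructor
    · rintro ⟨⟨u, hu⟩, ⟨v, hv⟩⟩ ⟨⟨u', hu'⟩, ⟨v', hv'⟩⟩ he
      have he' : u + v * b = u' + v' * b := he
      have he2 := congrArg σ he'
      simp only [map_add, map_mul, hu, hv, hu', hv'] at he2
      have h3 : v = v' := mul_right_cancel₀ hne (by linear_combination he' - he2)
      subst h3
      have : u = u' := by linear_combination he'
      subst this; rfl
    · intro x
      have hv : σ ((x - σ x) / (b - σ b)) = (x - σ x) / (b - σ b) := by
        rw [map_div₀, map_sub, map_sub, h2, h2, ← neg_sub x, ← neg_sub b, neg_div_neg_eq]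
      refine ⟨(⟨x - (x - σ x) / (b - σ b) * b, ?_⟩, ⟨_, hv⟩), by ring_nf⟩
      rw [map_sub, map_mul, hv]
      field_simp
      ring
  have hcard : Fintype.card F = Fintype.card K ^ 2 := by
    rw [← Fintype.card_of_bijective hbij, Fintype.card_prod, sq]
  set q := Fintype.card K with hq
  have hfix : ∀ x, σ x = x ↔ x ^ q = x := by
    let S : Subfield F :=
      { carrier := {x | σ x = x}
        mul_mem' := fun ha hb' => by simp only [Set.mem_ofPred_eq, Set.mem_setOf_eq] at *; rw [map_mul, ha, hb']
        one_mem' := map_one σ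
        add_mem' := fun ha hb' => by simp only [Set.mem_ofPred_eq, Set.mem_setOf_eq] at *; rw [map_add, ha, hb']
        zero_mem' := map_zero σ
        neg_mem' := fun {a} ha => by simp only [Set.mem_ofPred_eq, Set.mem_setOf_eq] at *; rw [map_neg, ha]
        inv_mem' := fun a ha => by simp only [Set.mem_ofPred_eq, Set.mem_setOf_eq] at *; rw [map_inv₀, ha] }
    have hSK : Fintype.card S = q := Fintype.card_congr (Equiv.subtypeEquivRight fun _ => Iff.rfl)
    intro x
    constructor
    · intro hx
      have := FiniteField.pow_card (⟨x, hx⟩ : S)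
      rw [hSK] at this
      exact congrArg Subtype.val this
    · intro hx
      have hcnt : Nat.card {x : F // x ^ q = x} = q := Cfsg.Agent.Unitary.card_fixed hcard
      by_contra hne'
      have hlt : Fintype.card K < Fintype.card {x : F // x ^ q = x} := by
        refine Fintype.card_lt_of_injective_of_notMem
          (fun a : K => (⟨a.1, congrArg Subtype.val (show (⟨a.1, a.2⟩ : S) ^ q = ⟨a.1, a.2⟩ by
            rw [← hSK]; exact FiniteField.pow_card _)⟩ : {x : F // x ^ q = x}))
          (fun a a' h => Subtype.ext (congrArg Subtype.val h :)) (b := ⟨x, hx⟩) ?_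
        rintro ⟨a, ha⟩
        have : a.1 = x := congrArg Subtype.val ha
        exact hne' (this ▸ a.2)
      rw [← Nat.card_eq_fintype_card (α := {x : F // x ^ q = x}), hcnt] at hlt
      omega
  have hσ : ∀ x, σ x = x ^ q := by
    intro x
    have hmul : σ (x * σ x) = x * σ x := by rw [map_mul, h2, mul_comm]
    have hadd : σ (x + σ x) = x + σ x := by rw [map_add, h2, add_comm]
    have hroot : (x ^ q - x) * (x ^ q - σ x) = 0 := by
      have e1 : (x + σ x) ^ q = x + σ x := (hfix _).1 hadd
      have e2 : (x * σ x) ^ q = x * σ x := (hfix _).1 hmul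
      rw [Cfsg.Agent.Unitary.add_pow_q hcard] at e1
      rw [mul_pow] at e2
      linear_combination x ^ q * e1 - e2
    rcases mul_eq_zero.1 hroot with h | h
    · rw [sub_eq_zero] at h; rw [h, (hfix x).2 h]
    · exact (sub_eq_zero.1 h).symm
  obtain ⟨x, hx⟩ := Cfsg.Agent.Unitary.exists_norm_eq hcard (show c ^ q = c from (hfix c).1 hc)
  refine ⟨x, ?_⟩
  rw [hσ, ← hx]; ring

variable (hf : Cfsg.Geo.IsUnitaryForm σ f)
include hf

lemma uf_add_right (x y v : ι → F) : f v (x + y) = f v x + f v y := by
  rw [hf.herm, hf.add_left, map_add, ← hf.herm, ← hf.herm]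

lemma uf_smul_right (c : F) (x v : ι → F) : f v (c • x) = σ c * f v x := by
  rw [hf.herm, hf.smul_left, map_mul, ← hf.herm]

omit hf in
/-- The linear functional x ↦ f(x, v) of a unitary form. -/
def ufl (hf : Cfsg.Geo.IsUnitaryForm σ f) (v : ι → F) : (ι → F) →ₗ[F] F where
  toFun x := f x v
  map_add' x y := hf.add_left x y v
  map_smul' c x := hf.smul_left c x v

omit hf in
@[simp] lemma ufl_apply (hf : Cfsg.Geo.IsUnitaryForm σ f) (v x : ι → F) : ufl hf v x = f x v := rfl

lemma ufl_add (v w : ι → F) : ufl hf (v + w) = ufl hf v + ufl hf w :=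
  LinearMap.ext fun x => uf_add_right hf v w x

lemma ufl_smul (c : F) (v : ι → F) : ufl hf (c • v) = σ c • ufl hf v :=
  LinearMap.ext fun x => uf_smul_right hf c v x

lemma uf_zero_left (v : ι → F) : f 0 v = 0 := map_zero (ufl hf v)

lemma uf_zero_right (v : ι → F) : f v 0 = 0 := by rw [hf.herm, uf_zero_left hf, map_zero]

lemma uf_symm {u v : ι → F} (h : f u v = 0) : f v u = 0 := by rw [hf.herm, h, map_zero]

lemma ufl_surjective : Function.Surjective (ufl hf) := by
  classical
  have hinj : Function.Injective (ufl hf) := by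
    intro v w h
    by_contra hne
    obtain ⟨⟨x, hx⟩, -⟩ := hf.nondegenerate _ (sub_ne_zero.2 hne)
    apply hx
    have h1 : f x v = f x w := LinearMap.congr_fun h x
    rw [sub_eq_add_neg, ← neg_one_smul F w, uf_add_right hf, uf_smul_right hf, h1, map_neg, map_one]
    ring
  haveI : Finite ((ι → F) →ₗ[F] F) :=
    Finite.of_injective (fun φ : (ι → F) →ₗ[F] F => (φ : (ι → F) → F)) DFunLike.coe_injective
  refine ((Nat.bijective_iff_injective_and_card _).2 ⟨hinj, ?_⟩).2
  rw [Module.natCard_eq_pow_finrank (K := F) (V := ι → F),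
    Module.natCard_eq_pow_finrank (K := F) (V := (ι → F) →ₗ[F] F)]
  congr 1
  exact Subspace.dual_finrank_eq.symm

lemma exists_skew' : ∃ d : F, d ≠ 0 ∧ σ d = -d := by
  obtain ⟨b, hb⟩ : ∃ b, σ b ≠ b := by
    by_contra h; push Not at h; exact hf.ne_refl (RingEquiv.ext h)
  exact ⟨b - σ b, sub_ne_zero.2 (Ne.symm hb), by rw [map_sub, hf.involutive]; ring⟩

lemma exists_trace : ∃ t : F, t + σ t = 1 := by
  obtain ⟨b, hb⟩ : ∃ b, b + σ b ≠ 0 := by
    by_contra h
    push Not at h
    obtain ⟨b, hb⟩ : ∃ b, σ b ≠ b := by
      by_contra h'; push Not at h'; exact hf.ne_refl (RingEquiv.ext h')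
    have h1 := h 1
    rw [map_one] at h1
    exact hb (by linear_combination h b - b * h1)
  refine ⟨b / (b + σ b), ?_⟩
  rw [map_div₀, map_add, hf.involutive, add_comm (σ b) b, ← add_div, div_self hb]

/-- A vector orthogonal to three given vectors, the first of which is not orthogonal to all of
them, with prescribed fixed norm. -/
lemma exists_norm_perp (hn : 5 ≤ Fintype.card ι) (a b c : ι → F)
    (hnd : f a a * f b b - f a b * f b a ≠ 0 ∨ b = c) {k : F} (hk : σ k = k) :
    ∃ r, f r r = k ∧ f r a = 0 ∧ f r b = 0 ∧ f r c = 0 := by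
  obtain ⟨w, hw, h1, h2, h3⟩ : ∃ w, f w w ≠ 0 ∧ f w a = 0 ∧ f w b = 0 ∧ f w c = 0 := by
    by_contra h
    push Not at h
    let L : (ι → F) →ₗ[F] F × F × F := (ufl hf a).prod ((ufl hf b).prod (ufl hf c))
    have hQ : ∀ x ∈ LinearMap.ker L, f x x = 0 := fun x hx => by
      have hx' : f x a = 0 ∧ f x b = 0 ∧ f x c = 0 := by
        simpa [L, Prod.ext_iff] using hx
      obtain ⟨e1, e2, e3⟩ := hx'
      by_contra h0
      exact h x h0 e1 e2 e3
    have hts : ∀ x ∈ LinearMap.ker L, ∀ y ∈ LinearMap.ker L, f x y = 0 := fun x hx y hy => by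
      by_contra hne
      obtain ⟨t, ht⟩ := exists_trace hf
      have key := hQ ((t / f x y) • x + y) ((LinearMap.ker L).add_mem
        ((LinearMap.ker L).smul_mem _ hx) hy)
      rw [hf.add_left, uf_add_right hf, uf_add_right hf, hf.smul_left, hf.smul_left,
        uf_smul_right hf, uf_smul_right hf, hQ x hx, hQ y hy, hf.herm y x] at key
      rw [← map_mul, div_mul_cancel₀ t hne] at key
      simp only [mul_zero, zero_add, add_zero] at key
      exact one_ne_zero (ht.symm.trans key)
    have hdim : Fintype.card ι ≤ Module.finrank F (LinearMap.ker L) + 3 := by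
      have h1 := LinearMap.finrank_range_add_finrank_ker L
      have h2 : Module.finrank F (LinearMap.range L) ≤ 3 :=
        le_trans (Submodule.finrank_le _) (by simp)
      rw [Module.finrank_fintype_fun_eq_card] at h1
      omega
    -- the functionals f(·, y), y in the kernel, lie in the annihilator
    set U := LinearMap.ker L
    obtain ⟨bs⟩ : Nonempty (Module.Basis (Fin (Module.finrank F U)) F U) :=
      ⟨Module.finBasis F U⟩
    have hli : LinearIndependent F (fun i => ufl hf (bs i : ι → F)) := by
      rw [Fintype.linearIndependent_iff]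
      intro g hg i
      have hzero : ∑ j, σ (g j) • (bs j : ι → F) = 0 := by
        by_contra hne
        obtain ⟨⟨x, hx⟩, -⟩ := hf.nondegenerate _ hne
        apply hx
        rw [hf.herm, ← ufl_apply hf x (∑ j, σ (g j) • (bs j : ι → F)), map_sum,
          map_sum]
        have := LinearMap.congr_fun hg x
        simp only [LinearMap.sum_apply, LinearMap.smul_apply, ufl_apply, LinearMap.zero_apply,
          smul_eq_mul] at this
        rw [← this]
        refine Finset.sum_congr rfl fun j _ => ?_
        rw [ufl_apply, hf.smul_left, map_mul, hf.involutive, ← hf.herm]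
      have hz2 : ∑ j, σ (g j) • bs j = 0 := Subtype.ext (by simpa using hzero)
      have := Fintype.linearIndependent_iff.1 bs.linearIndependent _ hz2 i
      simpa using congrArg σ this
    have hle : Submodule.span F (Set.range fun i => ufl hf (bs i : ι → F)) ≤ U.dualAnnihilator := by
      rw [Submodule.span_le]
      rintro _ ⟨i, rfl⟩
      rw [SetLike.mem_coe, Submodule.mem_dualAnnihilator]
      exact fun x hx => hts x hx _ (bs i).2
    have h1 := Submodule.finrank_mono hle
    have h2 := Subspace.finrank_add_finrank_dualAnnihilator_eq U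
    have h3 := finrank_span_eq_card hli
    rw [Fintype.card_fin] at h3
    have h4 := (Nat.add_le_add_left h1 (Module.finrank F U)).trans_eq h2
    rw [Module.finrank_fintype_fun_eq_card, h3] at h4
    have hUa : ∀ x ∈ U, f x a = 0 ∧ f x b = 0 ∧ f x c = 0 := fun x hx => by
      have hx' : L x = 0 := hx
      simpa [L, Prod.ext_iff] using hx'
    rcases hnd with hab | hbc
    · -- the functionals at a, b enlarge the annihilator of the kernel by two dimensions
      have hli2 : LinearIndependent F (Sum.elim (fun i => ufl hf (bs i : ι → F))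
          ![ufl hf a, ufl hf b]) := by
        rw [Fintype.linearIndependent_iff]
        intro g hg
        simp only [Fintype.sum_sum_type, Sum.elim_inl, Sum.elim_inr, Fin.sum_univ_two,
          Matrix.cons_val_zero, Matrix.cons_val_one] at hg
        have hev : ∀ x, (∀ y ∈ U, f x y = 0) → g (Sum.inr 0) * f x a + g (Sum.inr 1) * f x b = 0 := by
          intro x hx
          have h := LinearMap.congr_fun hg x
          simp only [LinearMap.add_apply, LinearMap.sum_apply, LinearMap.smul_apply, ufl_apply,
            smul_eq_mul, LinearMap.zero_apply] at h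
          rwa [Finset.sum_eq_zero fun i _ => by rw [hx _ (bs i).2, mul_zero], zero_add] at h
        have ea := hev a fun y hy => uf_symm hf (hUa y hy).1
        have eb := hev b fun y hy => uf_symm hf (hUa y hy).2.1
        have g0 : g (Sum.inr 0) = 0 := (mul_eq_zero.1 (show g (Sum.inr 0) *
          (f a a * f b b - f a b * f b a) = 0 by
            linear_combination f b b * ea - f a b * eb)).resolve_right hab
        have g1 : g (Sum.inr 1) = 0 := (mul_eq_zero.1 (show g (Sum.inr 1) *
          (f a a * f b b - f a b * f b a) = 0 by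
            linear_combination f a a * eb - f b a * ea)).resolve_right hab
        rw [g0, g1, zero_smul, zero_smul, add_zero, add_zero] at hg
        rintro (i | i)
        · exact Fintype.linearIndependent_iff.1 hli (fun i => g (Sum.inl i)) hg i
        · fin_cases i
          · exact g0
          · exact g1
      have hle2 : Submodule.span F (Set.range (Sum.elim (fun i => ufl hf (bs i : ι → F))
          ![ufl hf a, ufl hf b])) ≤ U.dualAnnihilator := by
        rw [Submodule.span_le]
        rintro _ ⟨i | i, rfl⟩
        · exact hle (Submodule.subset_span ⟨i, rfl⟩)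
        · fin_cases i <;> rw [SetLike.mem_coe, Submodule.mem_dualAnnihilator]
          · exact fun x hx => (hUa x hx).1
          · exact fun x hx => (hUa x hx).2.1
      have h5 := (Nat.add_le_add_left (Submodule.finrank_mono hle2) (Module.finrank F U)).trans_eq h2
      rw [finrank_span_eq_card hli2, Fintype.card_sum, Fintype.card_fin, Fintype.card_fin,
        Module.finrank_fintype_fun_eq_card] at h5
      omega
    · subst hbc
      let L' : (ι → F) →ₗ[F] F × F := (ufl hf a).prod (ufl hf b)
      have hker : LinearMap.ker L' ≤ U := fun x hx => by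
        have hx' : f x a = 0 ∧ f x b = 0 := by simpa [L', Prod.ext_iff] using hx
        simp [U, L, Prod.ext_iff, hx'.1, hx'.2]
      have h6 := LinearMap.finrank_range_add_finrank_ker L'
      have h7 : Module.finrank F (LinearMap.range L') ≤ 2 :=
        le_trans (Submodule.finrank_le _) (by simp)
      have h8 := Submodule.finrank_mono hker
      rw [Module.finrank_fintype_fun_eq_card] at h6 h2
      omega
  have hk' : σ (k / f w w) = k / f w w := by rw [map_div₀, hk, ← hf.herm]
  obtain ⟨x, hx⟩ := norm_surjective hf.ne_refl hf.involutive hk'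
  refine ⟨x • w, ?_, ?_, ?_, ?_⟩
  · rw [hf.smul_left, uf_smul_right hf, ← mul_assoc, hx, div_mul_cancel₀ _ hw]
  all_goals simp [hf.smul_left, h1, h2, h3]

/-- An isotropic vector with prescribed values against three vectors, one solution given. -/
lemma exists_isotropic_shift (hn : 5 ≤ Fintype.card ι) (y a b : ι → F)
    (hnd : f y y * f a a - f y a * f a y ≠ 0 ∨ a = b) :
    ∃ u, f u u = 0 ∧ f u a = f y a ∧ f u b = f y b := by
  by_cases hy : f y y = 0
  · exact ⟨y, hy, rfl, rfl⟩
  obtain ⟨r, hr, hry, hra, hrb⟩ := exists_norm_perp hf hn y a b hnd (k := -f y y)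
    (by rw [map_neg, ← hf.herm])
  refine ⟨y + r, ?_, ?_, ?_⟩
  · rw [hf.add_left, uf_add_right hf, uf_add_right hf, uf_symm hf hry, hry, hr]; ring
  · rw [hf.add_left, hra, add_zero]
  · rw [hf.add_left, hrb, add_zero]

lemma exists_nonorth_u {a b : ι → F} (ha : a ≠ 0) (hb : b ≠ 0) : ∃ z, f z a ≠ 0 ∧ f z b ≠ 0 := by
  obtain ⟨⟨x, hx⟩, -⟩ := hf.nondegenerate a ha
  obtain ⟨⟨y, hy⟩, -⟩ := hf.nondegenerate b hb
  by_cases h1 : f x b = 0
  · by_cases h2 : f y a = 0
    · exact ⟨x + y, by rw [hf.add_left, h2, add_zero]; exact hx,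
        by rw [hf.add_left, h1, zero_add]; exact hy⟩
    · exact ⟨y, h2, hy⟩
  · exact ⟨x, hx, h1⟩

/-- A submodule containing every isotropic vector not orthogonal to u contains everything. -/
lemma eq_top_of_isotropic {u : ι → F} (hu0 : u ≠ 0) (hu : f u u = 0) (Φ : Submodule F (ι → F))
    (huΦ : u ∈ Φ) (h : ∀ x, f x x = 0 → f x u ≠ 0 → x ∈ Φ) : Φ = ⊤ := by
  obtain ⟨t, ht⟩ := exists_trace hf
  have hmem : ∀ x, f x u ≠ 0 → x ∈ Φ := fun x hx => by
    set lam := - σ t * f x x / f u x with hl
    have hux : f u x ≠ 0 := fun h0 => hx (uf_symm hf h0)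
    have hiso : f (x + lam • u) (x + lam • u) = 0 := by
      rw [hf.add_left, uf_add_right hf, uf_add_right hf, hf.smul_left, hf.smul_left,
        uf_smul_right hf, uf_smul_right hf, hu, hl, map_div₀, map_mul, map_neg, hf.involutive,
        ← hf.herm, ← hf.herm x u]
      field_simp
      linear_combination -(f x x * f x u * f u x) * ht
    have h1 : x + lam • u ∈ Φ := h _ hiso (by
      rw [hf.add_left, hf.smul_left, hu, mul_zero, add_zero]; exact hx)
    simpa using Φ.sub_mem h1 (Φ.smul_mem lam huΦ)
  obtain ⟨⟨x0, hx0⟩, -⟩ := hf.nondegenerate u hu0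
  rw [Submodule.eq_top_iff']
  intro x
  by_cases hx : f x u = 0
  · simpa using Φ.sub_mem (hmem (x + x0) (by rw [hf.add_left, hx, zero_add]; exact hx0)) (hmem x0 hx0)
  · exact hmem x hx

omit hf in
/-- The unitary transvection x ↦ x + a f(x, u) u. -/
noncomputable def ut (hf : Cfsg.Geo.IsUnitaryForm σ f) (u : ι → F) (a : F) : GL ι F :=
  tv u (a • ufl hf u)

lemma ut_apply {u : ι → F} (hu : f u u = 0) (a : F) (x : ι → F) :
    app (ut hf u a) x = x + (a * f x u) • u := by
  rw [ut, tv_apply (by simp [hu])]; simp

lemma ut_isometry {u : ι → F} (hu : f u u = 0) {a : F} (ha : σ a = -a) (x y : ι → F) :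
    f (app (ut hf u a) x) (app (ut hf u a) y) = f x y := by
  rw [ut_apply hf hu, ut_apply hf hu]
  simp only [hf.add_left, uf_add_right hf, hf.smul_left, uf_smul_right hf, hu, map_mul, ha]
  rw [← hf.herm u y]; ring

theorem unitarySimilarity_maximal (hn : 5 ≤ Fintype.card ι) :
    Cfsg.Geo.IsMaximalIn (Cfsg.Geo.specialLinear ι F)
      (Cfsg.Geo.similarityGroup f ⊓ Cfsg.Geo.specialLinear ι F) := by
  classical
  obtain ⟨d, hd0, hd⟩ := exists_skew' hf
  obtain ⟨t, ht⟩ := exists_trace hf
  haveI : Nonempty ι := Fintype.card_pos_iff.1 (by omega)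
  obtain ⟨v0, hv0⟩ := exists_ne (0 : ι → F)
  -- a non-zero isotropic vector
  obtain ⟨e, he, he0⟩ : ∃ e, f e e = 0 ∧ e ≠ 0 := by
    obtain ⟨⟨x, hx⟩, -⟩ := hf.nondegenerate v0 hv0
    obtain ⟨u, hu, hux, -⟩ := exists_isotropic_shift hf hn x v0 v0 (Or.inr rfl)
    exact ⟨u, hu, fun h => hx (by rw [← hux, h, uf_zero_left hf])⟩
  refine isMaximalIn_of_forall inf_le_right ?_ ?_
  · -- properness
    obtain ⟨x0, hx0e, hx0n⟩ : ∃ x0, f x0 e = 0 ∧ x0 ∉ Submodule.span F {e} := by
      obtain ⟨⟨z, hz⟩, -⟩ := hf.nondegenerate e he0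
      obtain ⟨r, hr, hre, -, -⟩ :=
        exists_norm_perp hf hn e z z (Or.inr rfl) (k := 1) (map_one σ)
      refine ⟨r, hre, fun h => ?_⟩
      obtain ⟨c, rfl⟩ := Submodule.mem_span_singleton.1 h
      rw [hf.smul_left, uf_smul_right hf, he, mul_zero, mul_zero] at hr
      exact zero_ne_one hr
    obtain ⟨φ, hφ, hφx⟩ := exists_dual_eq_one (W := Submodule.span F {e}) hx0n
    have hφe : φ e = 0 := hφ e (Submodule.mem_span_singleton_self e)
    refine ⟨tv e φ, tv_mem_sl _ _, ?_⟩
    rintro ⟨⟨c, hc⟩, -⟩
    have key : ∀ x y, f x y + φ x * f e y + σ (φ y) * f x e = (c : F) * f x y := fun x y => by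
      have := hc x y
      rw [← app_apply, ← app_apply, tv_apply hφe, tv_apply hφe] at this
      rw [← this, hf.add_left, uf_add_right hf, uf_add_right hf, hf.smul_left, hf.smul_left,
        uf_smul_right hf, uf_smul_right hf, he]
      ring
    obtain ⟨-, y, hy⟩ := hf.nondegenerate e he0
    have hc1 : (c : F) = 1 := by
      have := key e y
      rw [hφe, he, zero_mul, mul_zero, add_zero, add_zero] at this
      exact mul_right_cancel₀ hy (by rw [one_mul, ← this])
    have := key x0 y
    rw [hφx, one_mul, hx0e, mul_zero, add_zero, hc1, one_mul, add_eq_left] at this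
    exact hy this
  · intro M hHM hMK g hgM hgH
    have hut : ∀ {u}, f u u = 0 → ∀ {a}, σ a = -a → ut hf u a ∈ M := fun hu _ ha =>
      hHM ⟨⟨1, fun x y => by
        rw [Units.val_one, one_mul, ← app_apply, ← app_apply, ut_isometry hf hu ha]⟩, tv_mem_sl _ _⟩
    -- an isotropic vector whose transvection moves to a non-unitary axis
    obtain ⟨v, hviso, hv⟩ : ∃ v, f v v = 0 ∧
        (ufl hf v) ∘ₗ (app g⁻¹).toLinearMap ∉ Submodule.span F {ufl hf (app g v)} := by
      by_contra h
      push Not at h
      have h' : ∀ v, f v v = 0 → ∃ a, ∀ x, a * f (app g x) (app g v) = f x v := fun v hv => by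
        obtain ⟨a, ha⟩ := Submodule.mem_span_singleton.1 (h v hv)
        refine ⟨a, fun x => ?_⟩
        have := LinearMap.congr_fun ha (app g x)
        rw [LinearMap.smul_apply, LinearMap.comp_apply, LinearEquiv.coe_coe, app_inv_app,
          ufl_apply, ufl_apply] at this
        exact this
      choose! a ha using h'
      have ha0 : ∀ v, f v v = 0 → v ≠ 0 → a v ≠ 0 := fun v hv hv0' h0 => by
        obtain ⟨⟨x, hx⟩, -⟩ := hf.nondegenerate v hv0'
        exact hx (by rw [← ha v hv x, h0, zero_mul])
      have hgiso : ∀ v, f v v = 0 → f (app g v) (app g v) = 0 := fun v hv => by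
        rcases eq_or_ne v 0 with rfl | hv0'
        · rw [map_zero, uf_zero_left hf]
        · have := ha v hv v
          rw [hv] at this
          exact (mul_eq_zero.1 this).resolve_left (ha0 v hv hv0')
      have heq : ∀ u w, f u u = 0 → f w w = 0 → f u w ≠ 0 → a u = a w ∧ σ (a u) = a u := by
        intro u w hu hw hne
        set s := f u w with hs
        set lam := d / σ s with hlam
        have hσs : σ s ≠ 0 := by simpa using hne
        have hl0 : lam ≠ 0 := div_ne_zero hd0 hσs
        have hsl : σ lam * s = -d := by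
          rw [hlam, map_div₀, hd, hf.involutive, div_mul_cancel₀ _ hne]
        have hls : lam * σ s = d := div_mul_cancel₀ _ hσs
        have hiso : f (u + lam • w) (u + lam • w) = 0 := by
          rw [hf.add_left, uf_add_right hf, uf_add_right hf, hf.smul_left, hf.smul_left,
            uf_smul_right hf, uf_smul_right hf, hu, hw, hf.herm w u, ← hs, hls, hsl]
          ring
        have h1 := ha _ hiso u
        have h2 := ha w hw u
        have h3 := ha _ hiso w
        have h4 := ha u hu w
        rw [map_add, map_smul, uf_add_right hf, uf_smul_right hf, hgiso u hu, zero_add,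
          uf_add_right hf, uf_smul_right hf, hu, zero_add, ← h2] at h1
        have h1' : a (u + lam • w) = a w := by
          have hne' : σ lam * f (app g u) (app g w) ≠ 0 := by
            refine mul_ne_zero (by simpa using hl0) fun h0 => hne ?_
            rw [hs, ← h2, h0, mul_zero]
          exact mul_right_cancel₀ hne' (by linear_combination h1)
        rw [map_add, map_smul, uf_add_right hf, uf_smul_right hf, hgiso w hw, mul_zero, add_zero,
          uf_add_right hf, uf_smul_right hf, hw, mul_zero, add_zero, ← h4] at h3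
        have hne2 : f (app g w) (app g u) ≠ 0 := fun h0 => hne (by
          rw [hs, ← h2, uf_symm hf h0, mul_zero])
        have hau : a u = a w := by rw [← h1', mul_right_cancel₀ hne2 h3]
        refine ⟨hau, ?_⟩
        have h5 := congrArg σ h4
        rw [map_mul, ← hf.herm, ← hf.herm, ← h2, ← hau] at h5
        exact mul_right_cancel₀ (fun h0 => hne (by rw [hs, ← h2, h0, mul_zero])) h5
      have hconst : ∀ u, f u u = 0 → u ≠ 0 → a u = a e := by
        intro u hu hu0
        obtain ⟨z, h1, h2⟩ := exists_nonorth_u hf hu0 he0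
        obtain ⟨w, hw, hw1, hw2⟩ := exists_isotropic_shift hf hn z u e
          (Or.inl (by rw [hu, mul_zero, zero_sub, neg_ne_zero]
                      exact mul_ne_zero h1 fun h => h1 (uf_symm hf h)))
        rw [← (heq w u hw hu (hw1 ▸ h1)).1, (heq w e hw he (hw2 ▸ h2)).1]
      let Φ : Submodule F (ι → F) :=
        { carrier := {y | ∀ x, a e * f (app g x) (app g y) = f x y}
          zero_mem' := fun x => by rw [map_zero, uf_zero_right hf, uf_zero_right hf, mul_zero]
          add_mem' := fun {p q} hp hq x => by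
            rw [map_add, uf_add_right hf, uf_add_right hf, mul_add, hp x, hq x]
          smul_mem' := fun c p hp x => by
            rw [map_smul, uf_smul_right hf, uf_smul_right hf, ← hp x]; ring }
      have hΦ : Φ = ⊤ := eq_top_of_isotropic hf he0 he Φ (ha e he) fun x hx hxe => by
        intro y
        rw [← hconst x hx (fun h => hxe (by rw [h, uf_zero_left hf]))]
        exact ha x hx y
      have hae : a e ≠ 0 := ha0 e he he0
      refine hgH ⟨⟨(Units.mk0 _ hae)⁻¹, fun x y => ?_⟩, hMK hgM⟩
      have hy : y ∈ Φ := hΦ ▸ Submodule.mem_top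
      rw [← app_apply, ← app_apply, Units.val_inv_eq_inv_val, Units.val_mk0, ← hy x, ← mul_assoc,
        inv_mul_cancel₀ hae, one_mul]
    set w := app g v with hw
    set φ := d • ((ufl hf v) ∘ₗ (app g⁻¹).toLinearMap) with hφdef
    have hφw : φ w = 0 := by
      rw [hφdef, hw, LinearMap.smul_apply, LinearMap.comp_apply, LinearEquiv.coe_coe, app_inv_app,
        ufl_apply, hviso, smul_zero]
    have hφM : tv w φ ∈ M := by
      rw [hφdef, hw, ← LinearMap.smul_comp, ← tv_conj (by simp [hviso]) g]
      exact mul_mem (mul_mem hgM (hut hviso hd)) (inv_mem hgM)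
    have hwne : w ≠ 0 := fun h => by
      have : v = 0 := (app g).injective (by rw [← hw, h, map_zero])
      apply hv
      rw [this]
      have h0 : (ufl hf (0 : ι → F)) ∘ₗ (app g⁻¹).toLinearMap = 0 :=
        LinearMap.ext fun x => uf_zero_right hf _
      rw [h0]; exact zero_mem _
    -- the additive group of axes at w
    have step : ∀ ψ : (ι → F) →ₗ[F] F, ψ w = 0 → tv w ψ ∈ M → ∀ u, f u u = 0 → f w u = 0 →
        ∀ b, σ b = -b → tv w ((b * ψ u) • ufl hf u) ∈ M := by
      intro ψ hψ hψM u hu hwu b hb
      have hk := hut hu hb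
      have e1 : app (ut hf u b) w = w := by rw [ut_apply hf hu, hwu, mul_zero, zero_smul, add_zero]
      have h1 : ut hf u b * tv w ψ * (ut hf u b)⁻¹ ∈ M := mul_mem (mul_mem hk hψM) (inv_mem hk)
      rw [tv_conj hψ, e1] at h1
      have e2 : ψ ∘ₗ (app (ut hf u b)⁻¹).toLinearMap = ψ - (b * ψ u) • ufl hf u := by
        rw [ut, tv_inv (by simp [hu])]
        refine LinearMap.ext fun x => ?_
        simp only [LinearMap.comp_apply, LinearEquiv.coe_coe]
        rw [tv_apply (by simp [hu]), map_add, map_smul]
        simp only [LinearMap.neg_apply, LinearMap.sub_apply, LinearMap.smul_apply, smul_eq_mul,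
          ufl_apply]
        ring
      rw [e2] at h1
      have h2 := mul_mem hψM (inv_mem h1)
      rw [tv_inv (by simp [hψ, hwu]), ← tv_add hψ (by simp [hψ, hwu])] at h2
      convert h2 using 2
      abel
    -- an isotropic u orthogonal to w seen by φ
    obtain ⟨y0, hy0w, hy0⟩ : ∃ y0, f y0 w = 0 ∧ φ y0 ≠ 0 := by
      by_contra h
      push Not at h
      apply hv
      obtain ⟨⟨z, hz⟩, -⟩ := hf.nondegenerate w hwne
      refine Submodule.mem_span_singleton.2 ⟨φ z / f z w / d, LinearMap.ext fun x => ?_⟩
      have h1 := h (x - (f x w / f z w) • z) (by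
        rw [← ufl_apply hf w (x - _), map_sub, map_smul]; simp [div_mul_cancel₀ _ hz])
      rw [map_sub, map_smul, sub_eq_zero, smul_eq_mul] at h1
      rw [LinearMap.smul_apply, ufl_apply, smul_eq_mul]
      have h2 : φ x = d * ((ufl hf v) ∘ₗ (app g⁻¹).toLinearMap) x := rfl
      apply mul_left_cancel₀ hd0
      rw [← h2, h1]; field_simp
    obtain ⟨u, hu, huw, hφu⟩ : ∃ u, f u u = 0 ∧ f u w = 0 ∧ φ u ≠ 0 := by
      by_cases hyy : f y0 y0 = 0
      · exact ⟨y0, hyy, hy0w, hy0⟩
      obtain ⟨r, hr, hry, hrw, -⟩ := exists_norm_perp hf hn y0 w w (Or.inr rfl) (k := -f y0 y0)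
        (by rw [map_neg, ← hf.herm])
      obtain ⟨b, hb⟩ : ∃ b, σ b ≠ b := by
        by_contra h
        push Not at h
        exact hf.ne_refl (RingEquiv.ext h)
      have hb0 : b ≠ 0 := fun h => hb (by rw [h, map_zero])
      have hiso : ∀ ζ, ζ * σ ζ = 1 → f (y0 + ζ • r) (y0 + ζ • r) = 0 ∧ f (y0 + ζ • r) w = 0 :=
        fun ζ hζ => by
          constructor
          · rw [hf.add_left, uf_add_right hf, uf_add_right hf, hf.smul_left, hf.smul_left,
              uf_smul_right hf, uf_smul_right hf, uf_symm hf hry, hry, hr]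
            linear_combination -(f y0 y0) * hζ
          · rw [hf.add_left, hf.smul_left, hy0w, hrw, mul_zero, add_zero]
      by_cases h1 : φ (y0 + (1 : F) • r) = 0
      · obtain ⟨h2, h3⟩ := hiso (σ b / b) (by
          rw [map_div₀, hf.involutive]
          have : σ b ≠ 0 := by simpa using hb0
          field_simp)
        refine ⟨_, h2, h3, fun h => ?_⟩
        rw [map_add, map_smul, smul_eq_mul] at h h1
        rw [one_mul] at h1
        have h4 : (σ b / b - 1) * φ r = 0 := by linear_combination h - h1
        have h5 := (mul_eq_zero.1 h4).resolve_left (sub_ne_zero.2 fun e => hb ((div_eq_one_iff_eq hb0).1 e))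
        rw [h5, add_zero] at h1
        exact hy0 h1
      · obtain ⟨h2, h3⟩ := hiso 1 (by rw [map_one, mul_one])
        exact ⟨_, h2, h3, h1⟩
    have hwu : f w u = 0 := uf_symm hf huw
    -- a triangle
    obtain ⟨p, hp1, hp2⟩ : ∃ p, f p u = 1 ∧ f p w = 0 := by
      obtain ⟨x, hx, hxw⟩ : ∃ x, f x u ≠ 0 ∧ f x w = 0 := by
        by_contra h
        push Not at h
        obtain ⟨⟨z, hz⟩, -⟩ := hf.nondegenerate w hwne
        have hprop : ∀ x, f x u = (f z u / f z w) * f x w := fun x => by
          have h0 : f (x - (f x w / f z w) • z) u = 0 := by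
            by_contra hne
            exact h _ hne (by rw [← ufl_apply hf w (x - _), map_sub, map_smul]; simp [div_mul_cancel₀ _ hz])
          rw [← ufl_apply hf u (x - _), map_sub, map_smul, sub_eq_zero, ufl_apply, ufl_apply,
            smul_eq_mul] at h0
          rw [h0]; ring
        apply hφu
        -- u is then proportional to w, so φ u = 0
        set κ := σ (f z u / f z w)
        have hz' : u - κ • w = 0 := by
          by_contra hne
          obtain ⟨⟨x, hx⟩, -⟩ := hf.nondegenerate _ hne
          apply hx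
          rw [sub_eq_add_neg, ← neg_smul, uf_add_right hf, uf_smul_right hf, hprop x, map_neg,
            hf.involutive]
          ring
        rw [sub_eq_zero.1 hz', map_smul, hφw, smul_zero]
      exact ⟨(f x u)⁻¹ • x, by rw [hf.smul_left, inv_mul_cancel₀ hx],
        by rw [hf.smul_left, hxw, mul_zero]⟩
    obtain ⟨y, hy, hyu, hyw⟩ := exists_isotropic_shift hf hn p u w
      (Or.inl (by rw [hu, mul_zero, zero_sub, neg_ne_zero, hp1, one_mul]
                  exact fun h => one_ne_zero (hp1.symm.trans (uf_symm hf h))))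
    rw [hp1] at hyu; rw [hp2] at hyw
    have huy : f u y = 1 := by rw [hf.herm, hyu, map_one]
    have hwy : f w y = 0 := uf_symm hf hyw
    obtain ⟨r, hr, hru, hry, hrw⟩ := exists_norm_perp hf hn u y w
      (Or.inl (by rw [hu, hy, huy, hyu]; simp)) (k := -1) (by simp)
    set z := t • u + y + r with hz
    have hzu : f z u = 1 := by
      simp only [hz, hf.add_left, hf.smul_left, hu, hyu, hru]; ring
    have hzy : f z y = t := by
      simp only [hz, hf.add_left, hf.smul_left, huy, hy, hry]; ring
    have hzz : f z z = 0 := by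
      simp only [hz, hf.add_left, uf_add_right hf, hf.smul_left, uf_smul_right hf, hu, hy, huy, hyu,
        uf_symm hf hru, uf_symm hf hry, hru, hry, hr]
      linear_combination ht
    have hwz : f w z = 0 := uf_symm hf (by
      simp only [hz, hf.add_left, hf.smul_left, huw, hyw, hrw]; ring)
    have huz' : f u z = 1 := by rw [hf.herm, hzu, map_one]
    -- the coefficients at u: k c and k t' c for every fixed k
    have hC1 : ∀ b, σ b = -b → tv w ((b * φ u) • ufl hf u) ∈ M := fun b hb =>
      step φ hφw hφM u hu hwu b hb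
    have hz0' : ∀ (c : F) (p : ι → F), f w p = 0 → (c • ufl hf p) w = 0 := fun c p hp => by simp [hp]
    have hC2 : ∀ b₁ b₂ b₃ b₄ : F, σ b₁ = -b₁ → σ b₂ = -b₂ → σ b₃ = -b₃ → σ b₄ = -b₄ →
        tv w ((b₁ * b₂ * b₃ * b₄ * σ t * φ u) • ufl hf u) ∈ M := by
      intro b₁ b₂ b₃ b₄ h1 h2 h3 h4
      have s1 := step _ (hz0' _ u hwu) (hC1 b₁ h1) z hzz hwz b₂ h2
      have s2 := step _ (hz0' _ z hwz) s1 y hy hwy b₃ h3
      have hyz : f y z = σ t := by rw [hf.herm, hzy]
      have s3 := step _ (hz0' _ y hwy) s2 u hu hwu b₄ h4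
      convert s3 using 3
      simp only [LinearMap.smul_apply, ufl_apply, smul_eq_mul, hzu, huy, hyz]
      ring
    -- C = {coefficients} contains dK and d⁴ (K t') for t' = σ t, hence everything
    have hC : ∀ c : F, tv w (c • ufl hf u) ∈ M := by
      intro c
      -- write c / φ u = b + d^4 t' k with b skew, k fixed
      set x := c / φ u with hx
      set kk := (x + σ x) / (d * d * d * d) with hkk
      have hkfix : σ kk = kk := by
        rw [hkk, map_div₀, map_add, hf.involutive, map_mul, map_mul, map_mul, hd]
        ring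
      have h1 : σ (x - d * d * d * d * σ t * kk) = -(x - d * d * d * d * σ t * kk) := by
        have hd4 : d * d * d * d * kk = x + σ x := by
          rw [hkk]; field_simp
        rw [map_sub, map_mul, map_mul, map_mul, map_mul, map_mul, hd, hkfix, hf.involutive]
        linear_combination (-(σ t) - t) * hd4 - (x + σ x) * ht
      have h2 : σ (kk * d) = -(kk * d) := by rw [map_mul, hkfix, hd]; ring
      have := mul_mem (hC1 _ h1) (hC2 _ d d d h2 hd hd hd)
      rw [← tv_add (hz0' _ u hwu) (hz0' _ u hwu), ← add_smul] at this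
      convert this using 3
      rw [hx]; field_simp; ring
    have hU : ufl hf u ∈ axes M w := ⟨by simpa using hwu, fun c => hC c⟩
    have hprop : ∀ y, f y y = 0 → f w y = 0 → f y u ≠ 0 → ufl hf y ∈ axes M w := by
      intro y hy hwy hyu
      refine ⟨by simpa using hwy, fun c => ?_⟩
      have := step ((c / (d * f y u)) • ufl hf u) (hz0' _ u hwu) (hC _) y hy hwy d hd
      convert this using 3
      simp only [LinearMap.smul_apply, ufl_apply, smul_eq_mul]
      field_simp
    have hfull : IsFull M w := by
      intro ψ hψ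
      obtain ⟨x, rfl⟩ := ufl_surjective hf ψ
      have hwx : f w x = 0 := hψ
      have hgen : ∀ x, f w x = 0 → f x u ≠ 0 → ufl hf x ∈ axes M w := by
        intro x hwx hxu
        set lam := - σ t * f x x / f u x with hl
        have hux : f u x ≠ 0 := fun h0 => hxu (uf_symm hf h0)
        have hiso : f (x + lam • u) (x + lam • u) = 0 := by
          rw [hf.add_left, uf_add_right hf, uf_add_right hf, hf.smul_left, hf.smul_left,
            uf_smul_right hf, uf_smul_right hf, hu, hl, map_div₀, map_mul, map_neg, hf.involutive,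
            ← hf.herm, ← hf.herm x u]
          field_simp
          linear_combination -(f x x * f x u * f u x) * ht
        have h1 := hprop _ hiso (by rw [uf_add_right hf, uf_smul_right hf, hwx, hwu, mul_zero, add_zero])
          (by rw [hf.add_left, hf.smul_left, hu, mul_zero, add_zero]; exact hxu)
        rw [ufl_add hf, ufl_smul hf] at h1
        simpa using (axes M w).sub_mem h1 ((axes M w).smul_mem (σ lam) hU)
      by_cases hxu : f x u = 0
      · have h1 := hgen (x + y) (by rw [uf_add_right hf, hwx, hwy, add_zero])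
          (by rw [hf.add_left, hxu, hyu, zero_add]; exact one_ne_zero)
        have h2 := (axes M w).sub_mem h1 (hgen y hwy (by rw [hyu]; exact one_ne_zero))
        rwa [ufl_add hf, add_sub_cancel_right] at h2
      · exact hgen x hwx hxu
    -- the vectors all of whose axes occur form a submodule
    let Φ : Submodule F (ι → F) :=
      { carrier := {x | x = 0 ∨ IsFull M x}
        zero_mem' := Or.inl rfl
        add_mem' := fun {p q} hp hq => by
          rcases eq_or_ne p 0 with rfl | hp0
          · rwa [zero_add]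
          rcases eq_or_ne q 0 with rfl | hq0
          · rwa [add_zero]
          have hp' := hp.resolve_left hp0
          have hq' := hq.resolve_left hq0
          by_cases hsp : p ∈ Submodule.span F {q}
          · obtain ⟨c, rfl⟩ := Submodule.mem_span_singleton.1 hsp
            rw [show c • q + q = (c + 1) • q by rw [add_smul, one_smul]]
            by_cases hc : c + 1 = 0
            · exact Or.inl (by rw [hc, zero_smul])
            · exact Or.inr (hq'.smul hc)
          · obtain ⟨θ, hθ, hθp⟩ := exists_dual_eq_one hsp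
            have hθq : θ q = 0 := hθ q (Submodule.mem_span_singleton_self q)
            have h1 := hp'.conj ((hq' θ hθq).2 1)
            rw [one_smul, tv_apply hθq, hθp, one_smul] at h1
            exact Or.inr h1
        smul_mem' := fun c p hp => by
          rcases eq_or_ne c 0 with rfl | hc
          · exact Or.inl (zero_smul _ _)
          rcases hp with rfl | hp'
          · exact Or.inl (smul_zero c)
          · exact Or.inr (hp'.smul hc) }
    have hinv : ∀ {k}, k ∈ M → ∀ {x}, x ∈ Φ → app k x ∈ Φ := fun hk _ hx => by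
      rcases hx with rfl | hx
      · exact Or.inl (map_zero _)
      · exact Or.inr (hx.conj hk)
    have hwΦ : w ∈ Φ := Or.inr hfull
    have hiso_mem : ∀ {x0}, x0 ∈ Φ → ∀ x, f x x = 0 → f x0 x ≠ 0 → x ∈ Φ := by
      intro x0 hx0 x hx hne
      have h1 := hinv (hut hx hd) hx0
      rw [ut_apply hf hx, Submodule.add_mem_iff_right Φ hx0] at h1
      have h2 := Φ.smul_mem (d * f x0 x)⁻¹ h1
      rwa [smul_smul, inv_mul_cancel₀ (mul_ne_zero hd0 hne), one_smul] at h2
    obtain ⟨⟨x, hx⟩, -⟩ := hf.nondegenerate w hwne
    obtain ⟨u0, hu0, hu0w, -⟩ := exists_isotropic_shift hf hn x w w (Or.inr rfl)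
    have hu0Φ : u0 ∈ Φ := hiso_mem hwΦ u0 hu0 (fun h0 => hx (by rw [← hu0w, uf_symm hf h0]))
    have hu00 : u0 ≠ 0 := fun h0 => hx (by rw [← hu0w, h0, uf_zero_left hf])
    have htop : Φ = ⊤ := eq_top_of_isotropic hf hu00 hu0 Φ hu0Φ fun x hx hne =>
      hiso_mem hu0Φ x hx (fun h0 => hne (uf_symm hf h0))
    refine sl_le_of_isFull M fun x hx => ?_
    have : x ∈ Φ := htop ▸ Submodule.mem_top
    exact this.resolve_left hx

end Cfsg.Agent.Transvect
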