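/-
Overgroups of the stabiliser of a decomposition into equal-dimensional blocks (dimension ≥ 2).
Main results: `pr`, `sum_pr`, `BlockMap`, `IsBlk`, `axes_comm`, `exists_blockPerm`, `sl_le_of_not_block`.
-/
import Cfsg.Agent.Lib.Transvect.Monomial

set_option autoImplicit false
set_option linter.unusedSectionVars false

namespace Cfsg.Agent.Transvect

open Matrix
open scoped MatrixGroups

variable {ι : Type} [Fintype ι] [DecidableEq ι] {F : Type*} [Field F]

/-! ### General facts -/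

lemma axes_add {M : Subgroup (GL ι F)} {v w : ι → F} {φ : (ι → F) →ₗ[F] F} (hv : φ ∈ axes M v)
    (hw : φ ∈ axes M w) : φ ∈ axes M (v + w) := by
  refine ⟨by rw [map_add, hv.1, hw.1, add_zero], fun c => ?_⟩
  have h : tv (v + w) (c • φ) = tv v (c • φ) * tv w (c • φ) := gl_ext fun x => by
    rw [tv_apply (by simp [hv.1, hw.1]), map_mul, LinearEquiv.mul_apply, tv_apply (by simp [hv.1]),
      tv_apply (by simp [hw.1]), map_add, map_smul, smul_add]
    simp [hw.1, add_assoc, add_comm ((c * φ x) • v)]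
  rw [h]; exact mul_mem (hv.2 c) (hw.2 c)

/-- The commutator of two transvections: moves the axis φ to the centre w. -/
lemma axes_comm {M : Subgroup (GL ι F)} {v w : ι → F} {φ ψ : (ι → F) →ₗ[F] F} (hφ : φ ∈ axes M v)
    (hψ : ψ ∈ axes M w) (h1 : φ w = 0) (h2 : ψ v ≠ 0) : φ ∈ axes M w := by
  have hmem : tv w ψ ∈ M := by simpa using hψ.2 1
  have h := axes_conj hmem hφ
  have he : φ ∘ₗ (app (tv w ψ)⁻¹).toLinearMap = φ := LinearMap.ext fun x => by
    rw [LinearMap.comp_apply, LinearEquiv.coe_coe, tv_inv hψ.1, tv_apply (by simp [hψ.1]), map_add,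
      map_smul, h1, smul_zero, add_zero]
  rw [he, tv_apply hψ.1] at h
  have h3 := axes_smul (axes_add h (axes_smul hφ (-1))) (ψ v)⁻¹
  rwa [neg_one_smul, ← sub_eq_add_neg, add_sub_cancel_left, smul_smul, inv_mul_cancel₀ h2,
    one_smul] at h3

lemma det_tmat_eq (v : ι → F) (φ : (ι → F) →ₗ[F] F) : (tmat v φ).det = 1 + φ v := by
  have hx : (fun j => φ (Pi.single j 1)) ⬝ᵥ v = φ v := by
    conv_rhs => rw [pi_eq_sum_univ' v, map_sum]
    simp [dotProduct, mul_comm]
  rw [tmat, Matrix.vecMulVec_eq Unit, Matrix.det_one_add_replicateCol_mul_replicateRow, hx]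

/-- The dilation x ↦ x + φ(x) v, where 1 + φ(v) is non-zero. -/
noncomputable def dil (v : ι → F) (φ : (ι → F) →ₗ[F] F) (h : 1 + φ v ≠ 0) : GL ι F :=
  Matrix.GeneralLinearGroup.mkOfDetNeZero (tmat v φ) (by rw [det_tmat_eq]; exact h)

lemma dil_apply {v : ι → F} {φ : (ι → F) →ₗ[F] F} (h : 1 + φ v ≠ 0) (x : ι → F) :
    app (dil v φ h) x = x + φ x • v := by
  rw [app_apply]
  exact tmat_mulVec v φ x

lemma det_dil {v : ι → F} {φ : (ι → F) →ₗ[F] F} (h : 1 + φ v ≠ 0) :
    (dil v φ h : Matrix ι ι F).det = 1 + φ v :=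
  det_tmat_eq v φ

lemma exists_app_eq (f : (ι → F) →ₗ[F] (ι → F)) (hf : Function.Injective f) :
    ∃ g : GL ι F, ∀ x, app g x = f x := by
  have hd : (LinearMap.toMatrix' f).det ≠ 0 := by
    rw [LinearMap.det_toMatrix']
    exact (LinearEquiv.isUnit_det' (LinearEquiv.ofInjectiveEndo f hf)).ne_zero
  refine ⟨Matrix.GeneralLinearGroup.mkOfDetNeZero _ hd, fun x => ?_⟩
  rw [app_apply]
  exact LinearMap.toMatrix'_mulVec f x

/-! ### Decompositions -/

variable {t m : ℕ} {D : Fin t → Submodule F (ι → F)}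

/-- g maps the i-th block into the σ i-th block. -/
def BlockMap (D : Fin t → Submodule F (ι → F)) (g : GL ι F) (σ : Equiv.Perm (Fin t)) : Prop :=
  ∀ i, ∀ x ∈ D i, app g x ∈ D (σ i)

/-- The functional vanishes outside the j-th block. -/
def IsBlk (D : Fin t → Submodule F (ι → F)) (θ : (ι → F) →ₗ[F] F) (j : Fin t) : Prop :=
  ∀ i, i ≠ j → ∀ x ∈ D i, θ x = 0

/-- A pair joining two different blocks. -/
def Link (D : Fin t → Submodule F (ι → F)) (M : Subgroup (GL ι F)) : Prop :=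
  ∃ j l, j ≠ l ∧ ∃ a ∈ D j, a ≠ 0 ∧ ∃ θ, IsBlk D θ l ∧ θ ≠ 0 ∧ θ ∈ axes M a

variable (hD : Cfsg.Geo.IsMDecomposition m D)
include hD

lemma BlockMap.map_eq {g : GL ι F} {σ : Equiv.Perm (Fin t)} (h : BlockMap D g σ) (i : Fin t) :
    (D i).map (app g).toLinearMap = D (σ i) := by
  refine Submodule.eq_of_le_of_finrank_eq ?_ ?_
  · rintro _ ⟨x, hx, rfl⟩; exact h i x hx
  · rw [LinearEquiv.finrank_map_eq, hD.finrank_eq, hD.finrank_eq]

lemma BlockMap.mem {g : GL ι F} {σ : Equiv.Perm (Fin t)} (h : BlockMap D g σ) :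
    g ∈ Cfsg.Geo.decompositionStabilizer D :=
  ⟨σ, fun i => h.map_eq hD i⟩

lemma BlockMap.inv {g : GL ι F} {σ : Equiv.Perm (Fin t)} (h : BlockMap D g σ) :
    BlockMap D g⁻¹ σ⁻¹ := fun i x hx => by
  have hx' : x ∈ (D (σ⁻¹ i)).map (app g).toLinearMap := by
    rw [h.map_eq hD]; simpa using hx
  obtain ⟨y, hy, rfl⟩ := hx'
  rw [LinearEquiv.coe_coe, app_inv_app]; exact hy

omit hD in
lemma exists_blockMap {g : GL ι F} (hg : g ∈ Cfsg.Geo.decompositionStabilizer D) :
    ∃ σ, BlockMap D g σ := by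
  obtain ⟨σ, hσ⟩ := hg
  exact ⟨σ, fun i x hx => hσ i ▸ Submodule.mem_map_of_mem hx⟩

lemma isCompl_block (i : Fin t) : IsCompl (D i) (⨆ j ≠ i, D j) := by
  refine ⟨hD.indep i, codisjoint_iff_le_sup.2 ?_⟩
  rw [← hD.iSup_eq_top]
  refine iSup_le fun j => ?_
  by_cases h : j = i
  · exact h ▸ le_sup_left
  · exact le_sup_of_le_right (le_iSup₂ (f := fun j (_ : j ≠ i) => D j) j h)

/-- The projection onto the i-th block. -/
noncomputable def pr (i : Fin t) : (ι → F) →ₗ[F] (ι → F) :=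
  Submodule.projection _ _ (isCompl_block hD i)

lemma pr_mem (i : Fin t) (x : ι → F) : pr hD i x ∈ D i :=
  Submodule.projection_apply_mem (isCompl_block hD i) x

lemma pr_of_mem {i : Fin t} {x : ι → F} (hx : x ∈ D i) : pr hD i x = x :=
  Submodule.projection_apply_left (isCompl_block hD i) ⟨x, hx⟩

lemma pr_of_mem_ne {i j : Fin t} (h : j ≠ i) {x : ι → F} (hx : x ∈ D j) : pr hD i x = 0 :=
  (Submodule.projection_apply_eq_zero_iff (isCompl_block hD i)).2
    (le_iSup₂ (f := fun j (_ : j ≠ i) => D j) j h hx)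

lemma ext_blocks {N : Type*} [AddCommGroup N] [Module F N] {f g : (ι → F) →ₗ[F] N}
    (h : ∀ i, ∀ x ∈ D i, f x = g x) : f = g :=
  LinearMap.ext fun x => by
    have : iSup D ≤ LinearMap.eqLocus f g := iSup_le fun i x hx => h i x hx
    rw [hD.iSup_eq_top] at this
    exact this Submodule.mem_top

lemma sum_pr (x : ι → F) : ∑ i, pr hD i x = x := by
  have h : ∑ i, pr hD i = LinearMap.id := ext_blocks hD fun j y hy => by
    rw [LinearMap.sum_apply, Finset.sum_eq_single j (fun i _ hi => pr_of_mem_ne hD (Ne.symm hi) hy)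
      (fun h => absurd (Finset.mem_univ j) h), pr_of_mem hD hy, LinearMap.id_apply]
  simpa using LinearMap.congr_fun h x

lemma card_le_mul : Fintype.card ι ≤ t * m := by
  let f : (ι → F) →ₗ[F] (∀ i, D i) :=
    LinearMap.pi fun i => (pr hD i).codRestrict (D i) (pr_mem hD i)
  have hf : Function.Injective f := fun x y h => by
    rw [← sum_pr hD x, ← sum_pr hD y]
    exact Finset.sum_congr rfl fun i _ => congrArg Subtype.val (congrFun h i)
  have := LinearMap.finrank_le_finrank_of_injective hf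
  rw [Module.finrank_pi, Module.finrank_pi_fintype] at this
  simpa [hD.finrank_eq] using this

lemma exists_notMem {i : Fin t} {W : Submodule F (ι → F)} (h : Module.finrank F W < m) :
    ∃ a ∈ D i, a ∉ W := by
  by_contra hc
  push Not at hc
  have := Submodule.finrank_mono (show D i ≤ W from hc)
  rw [hD.finrank_eq] at this
  omega

lemma IsBlk.eval {θ : (ι → F) →ₗ[F] F} {j : Fin t} (h : IsBlk D θ j) (x : ι → F) :
    θ (pr hD j x) = θ x := by
  conv_rhs => rw [← sum_pr hD x, map_sum]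
  rw [Finset.sum_eq_single j (fun i _ hi => h i hi _ (pr_mem hD i x))
    (fun h => absurd (Finset.mem_univ j) h)]

lemma isBlk_comp_pr (φ : (ι → F) →ₗ[F] F) (j : Fin t) : IsBlk D (φ ∘ₗ pr hD j) j :=
  fun i hi x hx => by rw [LinearMap.comp_apply, pr_of_mem_ne hD hi hx, map_zero]

lemma exists_blk_dual {j : Fin t} {u : ι → F} (hu : u ∈ D j) {W : Submodule F (ι → F)}
    (hW : u ∉ W) : ∃ θ, IsBlk D θ j ∧ θ u = 1 ∧ ∀ w ∈ D j, w ∈ W → θ w = 0 := by
  obtain ⟨φ, hφ, hφu⟩ := exists_dual_eq_one hW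
  refine ⟨φ ∘ₗ pr hD j, isBlk_comp_pr hD φ j, ?_, fun w hw hwW => ?_⟩
  · rw [LinearMap.comp_apply, pr_of_mem hD hu, hφu]
  · rw [LinearMap.comp_apply, pr_of_mem hD hw, hφ w hwW]

lemma blockMap_of_blk {a : ι → F} {θ : (ι → F) →ₗ[F] F} {j : Fin t} (ha : a ∈ D j)
    (hθ : IsBlk D θ j) {g : GL ι F} (hg : ∀ x, app g x = x + θ x • a) : BlockMap D g 1 := by
  intro i x hx
  rw [hg, Equiv.Perm.one_apply]
  by_cases hi : i = j
  · subst hi; exact add_mem hx (Submodule.smul_mem _ _ ha)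
  · rw [hθ i hi x hx, zero_smul, add_zero]; exact hx

lemma exists_blockPerm (σ : Equiv.Perm (Fin t)) :
    ∃ h : GL ι F, h ∈ Cfsg.Geo.specialLinear ι F ∧ BlockMap D h σ := by
  classical
  have e : ∀ i, D i ≃ₗ[F] D (σ i) := fun i =>
    LinearEquiv.ofFinrankEq _ _ (by rw [hD.finrank_eq, hD.finrank_eq])
  let f : (ι → F) →ₗ[F] (ι → F) :=
    ∑ i, (D (σ i)).subtype ∘ₗ (e i).toLinearMap ∘ₗ (pr hD i).codRestrict (D i) (pr_mem hD i)
  have hf : ∀ x, f x = ∑ i, ((e i) ⟨pr hD i x, pr_mem hD i x⟩ : ι → F) := fun x => by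
    simp [f, LinearMap.sum_apply]; rfl
  have hinj : Function.Injective f := by
    rw [← LinearMap.ker_eq_bot, LinearMap.ker_eq_bot']
    intro x hx
    rw [← sum_pr hD x]
    refine Finset.sum_eq_zero fun i _ => ?_
    have h1 := congrArg (pr hD (σ i)) hx
    rw [hf, map_sum, map_zero, Finset.sum_eq_single i
      (fun k _ hk => pr_of_mem_ne hD (fun h => hk (σ.injective h)) (Subtype.mem _))
      (fun h => absurd (Finset.mem_univ i) h), pr_of_mem hD (Subtype.mem _)] at h1
    simpa using (e i).map_eq_zero_iff.1 (Subtype.ext h1)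
  obtain ⟨g, hg⟩ := exists_app_eq f hinj
  have hbm : BlockMap D g σ := fun i x hx => by
    rw [hg, hf, Finset.sum_eq_single i
      (fun k _ hk => by simp [pr_of_mem_ne hD (Ne.symm hk) hx])
      (fun h => absurd (Finset.mem_univ i) h)]
    exact Subtype.mem _
  have ht : 0 < t := by have := hD.two_le; omega
  obtain ⟨u, hu, hu0⟩ := exists_notMem hD (i := ⟨0, ht⟩) (W := ⊥)
    (by rw [finrank_bot]; exact hD.pos)
  obtain ⟨θ, hθ, hθu, -⟩ := exists_blk_dual hD hu hu0
  have hd : (g : Matrix ι ι F).det ≠ 0 := g.det_ne_zero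
  set d := (g : Matrix ι ι F).det with hdd
  have hne : 1 + ((d⁻¹ - 1) • θ) u ≠ 0 := by simp [hθu, hd]
  refine ⟨dil u ((d⁻¹ - 1) • θ) hne * g, ?_, fun i x hx => ?_⟩
  · rw [mem_sl_iff, Units.val_mul, Matrix.det_mul, det_dil, ← hdd]
    simp [hθu, hd]
  · rw [map_mul, LinearEquiv.mul_apply]
    have hb := blockMap_of_blk hD hu (θ := (d⁻¹ - 1) • θ)
      (fun i hi x hx => by simp [hθ i hi x hx]) (fun x => dil_apply hne x)
    simpa using hb (σ i) _ (hbm i x hx)

/-! ### Overgroups -/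

variable {M : Subgroup (GL ι F)}
  (hH : Cfsg.Geo.decompositionStabilizer D ⊓ Cfsg.Geo.specialLinear ι F ≤ M)
include hH

lemma blk_axes {a : ι → F} {θ : (ι → F) →ₗ[F] F} {j : Fin t} (ha : a ∈ D j) (hθ : IsBlk D θ j)
    (h0 : θ a = 0) : θ ∈ axes M a := by
  refine ⟨h0, fun c => hH ⟨(blockMap_of_blk hD ha (θ := c • θ)
    (fun i hi x hx => by simp [hθ i hi x hx]) fun x => tv_apply (by simp [h0]) x).mem hD,
    tv_mem_sl _ _⟩⟩

lemma link_of (hm : 2 ≤ m) {w : ι → F} {ψ : (ι → F) →ₗ[F] F} (hψ : ψ ∈ axes M w) {j l : Fin t}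
    (hjl : l ≠ j) {a b : ι → F} (ha : a ∈ D j) (haw : a ∉ Submodule.span F {pr hD j w})
    (hψa : ψ a = 0) (hwj : pr hD j w ≠ 0) (hb : b ∈ D l) (hψb : ψ b ≠ 0) : Link D M := by
  have hwa : pr hD j w ∉ Submodule.span F {a} := by
    intro h
    obtain ⟨c, hc⟩ := Submodule.mem_span_singleton.1 h
    apply haw
    have hc0 : c ≠ 0 := by rintro rfl; exact hwj (by rw [← hc, zero_smul])
    exact Submodule.mem_span_singleton.2 ⟨c⁻¹, by rw [← hc, smul_smul, inv_mul_cancel₀ hc0, one_smul]⟩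
  obtain ⟨θ, hθ, hθw, hθ0⟩ := exists_blk_dual hD (pr_mem hD j w) hwa
  have hθa : θ a = 0 := hθ0 a ha (Submodule.mem_span_singleton_self a)
  have h1 : ψ ∈ axes M a := axes_comm hψ (blk_axes hD hH ha hθ hθa) hψa
    (by rw [← hθ.eval hD w, hθw]; exact one_ne_zero)
  obtain ⟨b', hb', hbb⟩ := exists_notMem hD (i := l) (W := Submodule.span F {b})
    (lt_of_le_of_lt ((finrank_span_le_card _).trans (by simp)) hm)
  obtain ⟨θ', hθ', hθb', hθb⟩ := exists_blk_dual hD hb' hbb
  refine ⟨j, l, hjl.symm, a, ha, fun h => haw (h ▸ zero_mem _), θ', hθ', ?_, ?_⟩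
  · rintro rfl; simp at hθb'
  · exact axes_comm (blk_axes hD hH hb hθ' (hθb b hb (Submodule.mem_span_singleton_self b))) h1
      (hθ' j hjl.symm a ha) hψb

lemma link_of_vanish (hm : 2 ≤ m) {w : ι → F} {ψ : (ι → F) →ₗ[F] F} (hψ : ψ ∈ axes M w)
    (hψ0 : ψ ≠ 0) {j : Fin t} (hwj : pr hD j w ≠ 0) (hv : ∀ x ∈ D j, ψ x = 0) : Link D M := by
  obtain ⟨a, ha, haw⟩ := exists_notMem hD (i := j) (W := Submodule.span F {pr hD j w})
    (lt_of_le_of_lt ((finrank_span_le_card _).trans (by simp)) hm)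
  obtain ⟨l, b, hb, hψb⟩ : ∃ l, ∃ b ∈ D l, ψ b ≠ 0 := by
    by_contra h
    push Not at h
    exact hψ0 (ext_blocks hD fun i x hx => by rw [h i x hx, LinearMap.zero_apply])
  have hlj : l ≠ j := by rintro rfl; exact hψb (hv b hb)
  exact link_of hD hH hm hψ hlj ha haw (hv a ha) hwj hb hψb

variable [Fintype F]

lemma exists_link (hm : 2 ≤ m) (hn : 5 ≤ Fintype.card ι) (hex : ¬ (m = 2 ∧ Fintype.card F = 2))
    {g : GL ι F} (hg : g ∈ M) (hgH : g ∉ Cfsg.Geo.decompositionStabilizer D) : Link D M := by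
  classical
  -- a vector of some block whose image meets two blocks
  obtain ⟨i, u, hu, j, k, hjk, hwj, hwk⟩ : ∃ i, ∃ u ∈ D i, ∃ j k, j ≠ k ∧
      pr hD j (app g u) ≠ 0 ∧ pr hD k (app g u) ≠ 0 := by
    by_contra hno
    push Not at hno
    have one : ∀ i, ∀ u ∈ D i, ∀ j, pr hD j (app g u) ≠ 0 → app g u ∈ D j := fun i u hu j hj => by
      have : app g u = pr hD j (app g u) := by
        conv_lhs => rw [← sum_pr hD (app g u)]
        exact Finset.sum_eq_single j (fun k _ hk => hno i u hu j k (Ne.symm hk) hj)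
          (fun h => absurd (Finset.mem_univ j) h)
      rw [this]; exact pr_mem hD j _
    have blk : ∀ i, ∃ j, ∀ u ∈ D i, app g u ∈ D j := fun i => by
      obtain ⟨u, hu, hu0⟩ := exists_notMem hD (i := i) (W := ⊥) (by rw [finrank_bot]; exact hD.pos)
      obtain ⟨j, hj⟩ : ∃ j, pr hD j (app g u) ≠ 0 := by
        by_contra h
        push Not at h
        apply hu0
        have h1 := sum_pr hD (app g u)
        rw [Finset.sum_eq_zero (fun j _ => h j)] at h1
        simpa using (app g).map_eq_zero_iff.1 h1.symm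
      refine ⟨j, fun v hv => ?_⟩
      by_contra hvj
      have h0 : pr hD j (app g v) = 0 := by
        by_contra h
        exact hvj (one i v hv j h)
      have hj' : pr hD j (app g (u + v)) ≠ 0 := by rw [map_add, map_add, h0, add_zero]; exact hj
      have h2 := sub_mem (one i (u + v) (add_mem hu hv) j hj') (one i u hu j hj)
      rw [map_add, add_sub_cancel_left] at h2
      exact hvj h2
    choose s hs using blk
    have hinj : Function.Injective s := fun i i' h => by
      by_contra hne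
      have hmap : ∀ i, (D i).map (app g).toLinearMap = D (s i) := fun i => by
        refine Submodule.eq_of_le_of_finrank_eq ?_ ?_
        · rintro _ ⟨x, hx, rfl⟩; exact hs i x hx
        · rw [LinearEquiv.finrank_map_eq, hD.finrank_eq, hD.finrank_eq]
      have he := Submodule.map_injective_of_injective (f := (app g).toLinearMap) (app g).injective
        ((hmap i).trans (h ▸ (hmap i').symm))
      obtain ⟨u, hu, hu0⟩ := exists_notMem hD (i := i) (W := ⊥) (by rw [finrank_bot]; exact hD.pos)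
      have h1 := pr_of_mem_ne hD (i := i) (Ne.symm hne) (he ▸ hu : u ∈ D i')
      rw [pr_of_mem hD hu] at h1
      exact hu0 (by simp [h1])
    exact hgH (BlockMap.mem hD (σ := Equiv.ofBijective s (Finite.injective_iff_bijective.1 hinj))
      fun i x hx => hs i x hx)
  set w := app g u with hw
  -- a transvection with centre w
  obtain ⟨b, hb, hbu⟩ := exists_notMem hD (i := i) (W := Submodule.span F {u})
    (lt_of_le_of_lt ((finrank_span_le_card _).trans (by simp)) hm)
  obtain ⟨θ, hθ, hθb, hθu⟩ := exists_blk_dual hD hb hbu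
  obtain ⟨ψ, hψ, hψ0⟩ : ∃ ψ, ψ ∈ axes M w ∧ ψ ≠ 0 := by
    refine ⟨_, axes_conj hg (blk_axes hD hH hu hθ (hθu u hu (Submodule.mem_span_singleton_self u))),
      fun h => ?_⟩
    have h1 := LinearMap.congr_fun h (app g b)
    rw [LinearMap.comp_apply, LinearEquiv.coe_coe, app_inv_app, hθb, LinearMap.zero_apply] at h1
    exact one_ne_zero h1
  by_cases hA : ∃ p, pr hD p w ≠ 0 ∧ ∀ x ∈ D p, ψ x = 0
  · obtain ⟨p, hp, hp'⟩ := hA
    exact link_of_vanish hD hH hm hψ hψ0 hp hp'
  push Not at hA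
  obtain ⟨bk, hbk, hψk⟩ := hA k hwk
  by_cases hB : ∃ a ∈ D j, ψ a = 0 ∧ a ∉ Submodule.span F {pr hD j w}
  · obtain ⟨a, ha, hψa, haw⟩ := hB
    exact link_of hD hH hm hψ hjk.symm ha haw hψa hwj hbk hψk
  push Not at hB
  -- now m = 2 and the field is bigger than F_2
  obtain ⟨a1, ha1, ha1w⟩ := exists_notMem hD (i := j) (W := Submodule.span F {pr hD j w})
    (lt_of_le_of_lt ((finrank_span_le_card _).trans (by simp)) hm)
  have hψwj : ψ (pr hD j w) = 0 := by
    by_contra h
    apply ha1w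
    have := hB (a1 - (ψ a1 / ψ (pr hD j w)) • pr hD j w)
      (sub_mem ha1 (Submodule.smul_mem _ _ (pr_mem hD j w))) (by simp [h])
    simpa using add_mem this
      (Submodule.smul_mem _ (ψ a1 / ψ (pr hD j w)) (Submodule.mem_span_singleton_self (pr hD j w)))
  have hψa1 : ψ a1 ≠ 0 := fun h => ha1w (hB a1 ha1 h)
  have hm2 : m = 2 := by
    by_contra hne
    obtain ⟨a2, ha2, ha2w⟩ := exists_notMem hD (i := j)
      (W := Submodule.span F (↑({pr hD j w, a1} : Finset (ι → F)) : Set (ι → F)))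
      (lt_of_le_of_lt ((finrank_span_finset_le_card _).trans Finset.card_le_two) (by omega))
    apply ha2w
    have h3 := hB (a2 - (ψ a2 / ψ a1) • a1) (sub_mem ha2 (Submodule.smul_mem _ _ ha1))
      (by simp [hψa1])
    obtain ⟨c, hc⟩ := Submodule.mem_span_singleton.1 h3
    rw [Finset.coe_insert, Finset.coe_singleton, Submodule.mem_span_pair]
    exact ⟨c, ψ a2 / ψ a1, by rw [hc, sub_add_cancel]⟩
  have hq : 2 < Fintype.card F := by
    have := Fintype.one_lt_card (α := F)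
    omega
  obtain ⟨lam, hlam⟩ : ∃ lam : F, lam ∉ ({0, 1} : Finset F) :=
    exists_notMem_of_card_lt (lt_of_le_of_lt Finset.card_le_two hq)
  simp only [Finset.mem_insert, Finset.mem_singleton, not_or] at hlam
  have ht : 3 ≤ t := by
    have := card_le_mul hD
    rw [hm2] at this
    omega
  obtain ⟨l, hl⟩ := exists_notMem_of_card_lt (s := ({j, k} : Finset (Fin t)))
    (lt_of_le_of_lt Finset.card_le_two (by rw [Fintype.card_fin]; omega))
  simp only [Finset.mem_insert, Finset.mem_singleton, not_or] at hl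
  obtain ⟨bl, hbl, hblw⟩ := exists_notMem hD (i := l) (W := Submodule.span F {pr hD l w})
    (lt_of_le_of_lt ((finrank_span_le_card _).trans (by simp)) hm)
  obtain ⟨θj, hθj, hθja, hθjw⟩ := exists_blk_dual hD ha1 ha1w
  obtain ⟨θl, hθl, hθlb, hθlw⟩ := exists_blk_dual hD hbl hblw
  have hθj0 : θj w = 0 := by
    rw [← hθj.eval hD w]; exact hθjw _ (pr_mem hD j w) (Submodule.mem_span_singleton_self _)
  have hθl0 : θl w = 0 := by
    rw [← hθl.eval hD w]; exact hθlw _ (pr_mem hD l w) (Submodule.mem_span_singleton_self _)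
  have h1 : 1 + ((lam - 1) • θj) a1 ≠ 0 := by simp [hθja, hlam.1]
  have h2 : 1 + ((lam⁻¹ - 1) • θl) bl ≠ 0 := by simp [hθlb, hlam.1]
  set h := dil a1 ((lam - 1) • θj) h1 * dil bl ((lam⁻¹ - 1) • θl) h2 with hh
  have happ : ∀ x, app h x = x + ((lam⁻¹ - 1) * θl x) • bl + ((lam - 1) * θj x) • a1 := fun x => by
    rw [hh, map_mul, LinearEquiv.mul_apply, dil_apply, dil_apply]
    simp [hθj l hl.1 bl hbl]
  have hhM : h ∈ M := hH ⟨mul_mem
      ((blockMap_of_blk hD ha1 (θ := (lam - 1) • θj) (fun i hi x hx => by simp [hθj i hi x hx])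
        fun x => dil_apply h1 x).mem hD)
      ((blockMap_of_blk hD hbl (θ := (lam⁻¹ - 1) • θl) (fun i hi x hx => by simp [hθl i hi x hx])
        fun x => dil_apply h2 x).mem hD), by
    show h ∈ Cfsg.Geo.specialLinear ι F
    rw [mem_sl_iff, hh, Units.val_mul, Matrix.det_mul, det_dil, det_dil]
    simp [hθja, hθlb, hlam.1]⟩
  have hhw : app h w = w := by rw [happ, hθj0, hθl0]; simp
  have hc := axes_conj (inv_mem hhM) hψ
  have hhw' : app h⁻¹ w = w := by
    conv_lhs => rw [← hhw]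
    exact app_inv_app h w
  rw [inv_inv, hhw'] at hc
  refine link_of_vanish hD hH hm (sub_mem hc hψ) (fun h0 => ?_) hwk (fun x hx => ?_)
  · have h3 := LinearMap.congr_fun h0 a1
    rw [LinearMap.sub_apply, LinearMap.comp_apply, LinearEquiv.coe_coe, happ, hθja,
      hθl j (Ne.symm hl.1) a1 ha1] at h3
    simp at h3
    rcases h3 with h3 | h3
    · exact hlam.2 (sub_eq_zero.1 h3)
    · exact hψa1 h3
  · rw [LinearMap.sub_apply, LinearMap.comp_apply, LinearEquiv.coe_coe, happ, hθj k hjk.symm x hx,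
      hθl k (Ne.symm hl.2) x hx]
    simp

omit [Fintype F] in
lemma axes_of_link {j l : Fin t} (hjl : j ≠ l) {a : ι → F} (ha : a ∈ D j) (ha0 : a ≠ 0)
    {θ₀ : (ι → F) →ₗ[F] F} (hθ₀ : IsBlk D θ₀ l) (h0 : θ₀ ≠ 0) (hax : θ₀ ∈ axes M a)
    {a' : ι → F} (ha' : a' ∈ D j) {θ : (ι → F) →ₗ[F] F} (hθ : IsBlk D θ l) : θ ∈ axes M a' := by
  have step : θ ∈ axes M a := by
    by_cases hex : ∃ b ∈ D l, θ b = 0 ∧ θ₀ b ≠ 0
    · obtain ⟨b, hb, hθb, hb0⟩ := hex
      exact axes_comm (blk_axes hD hH hb hθ hθb) hax (hθ j hjl a ha) hb0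
    · push Not at hex
      by_cases hz : ∀ x ∈ D l, θ x = 0
      · have : θ = 0 := ext_blocks hD fun i x hx => by
          by_cases hi : i = l
          · subst hi; exact hz x hx
          · exact hθ i hi x hx
        rw [this]; exact zero_mem _
      push Not at hz
      obtain ⟨c, hc, hθc⟩ := hz
      have he : θ₀ = (θ₀ c / θ c) • θ := ext_blocks hD fun i x hx => by
        by_cases hi : i = l
        · subst hi
          have := hex (x - (θ x / θ c) • c) (sub_mem hx (Submodule.smul_mem _ _ hc)) (by simp [hθc])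
          rw [map_sub, map_smul, smul_eq_mul, sub_eq_zero] at this
          rw [this, LinearMap.smul_apply, smul_eq_mul]; ring
        · rw [LinearMap.smul_apply, hθ i hi x hx, hθ₀ i hi x hx, smul_zero]
      generalize θ₀ c / θ c = r at he
      have hr : r ≠ 0 := by
        rintro rfl
        exact h0 (by rw [he, zero_smul])
      have h := (axes M a).smul_mem r⁻¹ hax
      rwa [he, smul_smul, inv_mul_cancel₀ hr, one_smul] at h
  by_cases hs : a' ∈ Submodule.span F {a}
  · obtain ⟨c, rfl⟩ := Submodule.mem_span_singleton.1 hs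
    exact axes_smul step c
  · have hs' : a ∉ Submodule.span F {a'} := by
      intro h
      obtain ⟨c, hc⟩ := Submodule.mem_span_singleton.1 h
      have hc0 : c ≠ 0 := by rintro rfl; exact ha0 (by rw [← hc, zero_smul])
      exact hs (Submodule.mem_span_singleton.2
        ⟨c⁻¹, by rw [← hc, smul_smul, inv_mul_cancel₀ hc0, one_smul]⟩)
    obtain ⟨φ, hφ, hφa, hφa'⟩ := exists_blk_dual hD ha hs'
    exact axes_comm step (blk_axes hD hH ha' hφ (hφa' a' ha' (Submodule.mem_span_singleton_self a')))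
      (hθ j hjl a' ha') (by rw [hφa]; exact one_ne_zero)

omit [Fintype F] in
lemma axes_all (hL : Link D M) {j' l' : Fin t} (hjl' : j' ≠ l') {a' : ι → F} (ha' : a' ∈ D j')
    {θ : (ι → F) →ₗ[F] F} (hθ : IsBlk D θ l') : θ ∈ axes M a' := by
  classical
  obtain ⟨j, l, hjl, a, ha, ha0, θ₀, hθ₀, h0, hax⟩ := hL
  set σ : Equiv.Perm (Fin t) := Equiv.swap (Equiv.swap j' j l') l * Equiv.swap j' j with hσ
  have hj : σ j' = j := by
    rw [hσ, Equiv.Perm.mul_apply, Equiv.swap_apply_left]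
    refine Equiv.swap_apply_of_ne_of_ne (fun h => hjl' ?_) hjl
    exact (Equiv.swap j' j).injective (by rw [Equiv.swap_apply_left]; exact h)
  have hl : σ l' = l := by rw [hσ, Equiv.Perm.mul_apply, Equiv.swap_apply_left]
  obtain ⟨h, hhS, hhB⟩ := exists_blockPerm hD σ
  have hhM : h ∈ M := hH ⟨hhB.mem hD, hhS⟩
  have h1 := axes_of_link hD hH hjl ha ha0 hθ₀ h0 hax (a' := app h a') (hj ▸ hhB j' a' ha')
    (θ := θ ∘ₗ (app h⁻¹).toLinearMap) (fun i hi x hx => by
      refine hθ (σ⁻¹ i) (fun he => hi ?_) _ (hhB.inv hD i x hx)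
      rw [← hl, ← he]; simp)
  have h2 := axes_conj (inv_mem hhM) h1
  rw [app_inv_app] at h2
  convert h2 using 1
  refine LinearMap.ext fun x => ?_
  simp only [LinearMap.comp_apply, LinearEquiv.coe_coe, inv_inv, app_inv_app]

/-- The overgroup theorem for blocks of dimension at least 2. -/
theorem sl_le_of_not_block (hm : 2 ≤ m) (hn : 5 ≤ Fintype.card ι)
    (hex : ¬ (m = 2 ∧ Fintype.card F = 2)) {g : GL ι F} (hg : g ∈ M)
    (hgH : g ∉ Cfsg.Geo.decompositionStabilizer D) : Cfsg.Geo.specialLinear ι F ≤ M := by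
  have hL := exists_link hD hH hm hn hex hg hgH
  refine sl_le_of_fullSub M ?_
  rw [eq_top_iff, ← hD.iSup_eq_top]
  refine iSup_le fun j a ha => ?_
  by_cases ha0 : a = 0
  · exact Or.inl ha0
  refine Or.inr fun φ hφ => ?_
  have he : φ = ∑ i, φ ∘ₗ pr hD i := LinearMap.ext fun x => by
    simp [LinearMap.sum_apply, ← map_sum, sum_pr hD x]
  rw [he]
  refine sum_mem fun i _ => ?_
  by_cases hi : i = j
  · subst hi
    exact blk_axes hD hH ha (isBlk_comp_pr hD φ i)
      (by rw [LinearMap.comp_apply, pr_of_mem hD ha, hφ])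
  · exact axes_all hD hH hL (Ne.symm hi) ha (isBlk_comp_pr hD φ i)

end Cfsg.Agent.Transvect
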