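/-
Subgroups strictly between a decomposition stabiliser and a classical group.
Main results: `exists_between`, `fixer`, `nblocks` (number of non-zero components, in F),
`stab_le_fixer`, `exists_mix` (a linear map preserving `nblocks` which mixes four blocks),
`nblocks_id_line`, `nblocks_id_plane`.
-/
import Cfsg.Agent.Lib.Transvect.Block

set_option autoImplicit false
set_option linter.unusedSectionVars false

namespace Cfsg.Agent.Transvect

open Matrix
open scoped MatrixGroups

lemma exists_between {G : Type*} [Group G] {H A : Subgroup G} (S : Subgroup G) (hHS : H ≤ S)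
    (hHA : H ≤ A) (h1 : ∃ x ∈ S, x ∈ A ∧ x ∉ H) (h2 : ∃ x ∈ A, x ∉ S) :
    ∃ K : Subgroup G, H < K ∧ K < A := by
  obtain ⟨x, hxS, hxA, hx⟩ := h1
  obtain ⟨y, hyA, hy⟩ := h2
  refine ⟨S ⊓ A, lt_of_le_of_ne (le_inf hHS hHA) fun h => hx (h ▸ ⟨hxS, hxA⟩),
    lt_of_le_of_ne inf_le_right fun h => hy ?_⟩
  rw [← h] at hyA
  exact hyA.1

variable {ι : Type} [Fintype ι] [DecidableEq ι] {F : Type*} [Field F]

/-- The elements preserving a function. -/
def fixer {α : Type*} (N : (ι → F) → α) : Subgroup (GL ι F) where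
  carrier := {g | ∀ x, N (app g x) = N x}
  one_mem' := fun x => by rw [map_one]; rfl
  mul_mem' := fun {g h} hg hh x => by rw [map_mul, LinearEquiv.mul_apply, hg, hh]
  inv_mem' := fun {g} hg x => by
    have := hg (app g⁻¹ x)
    rw [app_app_inv] at this
    exact this.symm

variable {t m : ℕ} {D : Fin t → Submodule F (ι → F)} (hD : Cfsg.Geo.IsMDecomposition m D)

open Classical in
/-- The number of non-zero components, as an element of F. -/
noncomputable def nblocks (x : ι → F) : F := ∑ i, if pr hD i x = 0 then 0 else 1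

include hD

lemma pr_app {g : GL ι F} {σ : Equiv.Perm (Fin t)} (hσ : BlockMap D g σ) (i : Fin t) (x : ι → F) :
    pr hD (σ i) (app g x) = app g (pr hD i x) := by
  conv_lhs => rw [← sum_pr hD x, map_sum, map_sum]
  rw [Finset.sum_eq_single i
    (fun k _ hk => pr_of_mem_ne hD (fun h => hk (σ.injective h)) (hσ k _ (pr_mem hD k x)))
    (fun h => absurd (Finset.mem_univ i) h), pr_of_mem hD (hσ i _ (pr_mem hD i x))]

lemma stab_le_fixer : Cfsg.Geo.decompositionStabilizer D ≤ fixer (nblocks hD) := by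
  intro g hg x
  classical
  obtain ⟨σ, hσ⟩ := exists_blockMap hg
  rw [nblocks, nblocks, ← Equiv.sum_comp σ]
  refine Finset.sum_congr rfl fun i _ => ?_
  rw [pr_app hD hσ]
  by_cases h : pr hD i x = 0
  · simp [h]
  · rw [if_neg (fun h' => h ((app g).map_eq_zero_iff.1 h')), if_neg h]

lemma nblocks_of_mem {i : Fin t} {a : ι → F} (ha : a ∈ D i) (ha0 : a ≠ 0) : nblocks hD a = 1 := by
  classical
  rw [nblocks, Finset.sum_eq_single i
    (fun k _ hk => by rw [pr_of_mem_ne hD (Ne.symm hk) ha, if_pos rfl])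
    (fun h => absurd (Finset.mem_univ i) h), pr_of_mem hD ha, if_neg ha0]

lemma nblocks_add {i j : Fin t} (hij : i ≠ j) {a b : ι → F} (ha : a ∈ D i) (ha0 : a ≠ 0)
    (hb : b ∈ D j) (hb0 : b ≠ 0) : nblocks hD (a + b) = 2 := by
  classical
  rw [nblocks, Finset.sum_eq_add i j hij (fun k _ hk => by
    rw [map_add, pr_of_mem_ne hD (Ne.symm hk.1) ha, pr_of_mem_ne hD (Ne.symm hk.2) hb, add_zero,
      if_pos rfl]) (fun h => absurd (Finset.mem_univ i) h) (fun h => absurd (Finset.mem_univ j) h)]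
  rw [map_add, map_add, pr_of_mem hD ha, pr_of_mem_ne hD hij.symm hb, pr_of_mem hD hb,
    pr_of_mem_ne hD hij ha, add_zero, zero_add, if_neg ha0, if_neg hb0]
  norm_num

open Classical in
/-- A linear map preserving `nblocks` and mixing the blocks e 0, …, e 3. -/
lemma exists_mix {W : Type*} [AddCommGroup W] [Module F W] [Nontrivial W] (e : Fin 4 → Fin t)
    (he : Function.Injective e) (ψ : ∀ k, W ≃ₗ[F] D (e k)) (h5 : (5 : F) ≠ 0)
    (hid : ∀ c : Fin 4 → W, (∑ k, if c k + ∑ l, c l = 0 then (0 : F) else 1) =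
      ∑ k, if c k = 0 then (0 : F) else 1) :
    ∃ g : GL ι F, (∀ x, app g x =
        x + ∑ k, (ψ k (∑ l, (ψ l).symm ⟨pr hD (e l) x, pr_mem hD (e l) x⟩) : ι → F)) ∧
      g ∈ fixer (nblocks hD) ∧ g ∉ Cfsg.Geo.decompositionStabilizer D := by
  let s : (ι → F) →ₗ[F] W := ∑ l, (ψ l).symm.toLinearMap ∘ₗ (pr hD (e l)).codRestrict _ (pr_mem hD (e l))
  let f : (ι → F) →ₗ[F] (ι → F) :=
    LinearMap.id + ∑ k, (D (e k)).subtype ∘ₗ (ψ k).toLinearMap ∘ₗ s
  have hs : ∀ x, s x = ∑ l, (ψ l).symm ⟨pr hD (e l) x, pr_mem hD (e l) x⟩ := fun x => by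
    simp [s, LinearMap.sum_apply]; rfl
  have hf : ∀ x, f x = x + ∑ k, (ψ k (s x) : ι → F) := fun x => by
    simp [f, LinearMap.sum_apply]
  have hpk : ∀ (w : W) k l, pr hD (e l) (ψ k w : ι → F) = if k = l then (ψ k w : ι → F) else 0 := by
    intro w k l
    by_cases h : k = l
    · subst h; rw [if_pos rfl, pr_of_mem hD (Subtype.mem _)]
    · rw [if_neg h, pr_of_mem_ne hD (fun h' => h (he h')) (Subtype.mem _)]
  have hprf : ∀ x l, pr hD (e l) (f x) = pr hD (e l) x + (ψ l (s x) : ι → F) := fun x l => by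
    rw [hf, map_add, map_sum]
    simp only [hpk, Finset.sum_ite_eq', Finset.mem_univ, if_true]
  have hsf : ∀ x, s (f x) = (5 : F) • s x := fun x => by
    have h1 : ∀ l, (⟨pr hD (e l) (f x), pr_mem hD (e l) (f x)⟩ : D (e l)) =
        ⟨pr hD (e l) x, pr_mem hD (e l) x⟩ + ψ l (s x) := fun l => Subtype.ext (hprf x l)
    rw [hs (f x)]
    simp only [h1, map_add, LinearEquiv.symm_apply_apply, Finset.sum_add_distrib, ← hs x]
    rw [Finset.sum_const, Finset.card_univ, Fintype.card_fin, ← Nat.cast_smul_eq_nsmul F,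
      show (5 : F) = 1 + (4 : ℕ) by norm_num, add_smul, one_smul]
  have hinj : Function.Injective f := by
    rw [← LinearMap.ker_eq_bot, LinearMap.ker_eq_bot']
    intro x hx
    have h1 : (5 : F) • s x = 0 := by rw [← hsf, hx, map_zero]
    rw [hf, (smul_eq_zero.1 h1).resolve_left h5] at hx
    simpa using hx
  obtain ⟨g, hg⟩ := exists_app_eq f hinj
  refine ⟨g, fun x => by rw [hg, hf, hs], fun x => ?_, fun hst => ?_⟩
  · rw [hg]
    have hout : ∀ i, i ∉ Set.range e → pr hD i (f x) = pr hD i x := fun i hi => by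
      rw [hf, map_add, map_sum, Finset.sum_eq_zero fun k _ =>
        pr_of_mem_ne hD (fun h => hi ⟨k, h⟩) (Subtype.mem _), add_zero]
    have key : ∑ i, ((if pr hD i (f x) = 0 then (0 : F) else 1) -
        (if pr hD i x = 0 then (0 : F) else 1)) = 0 := by
      rw [← Fintype.sum_of_injective e he
        (fun l => (if pr hD (e l) (f x) = 0 then (0 : F) else 1) -
          (if pr hD (e l) x = 0 then (0 : F) else 1)) _
        (fun i hi => by rw [hout i hi, sub_self]) (fun l => rfl),
        Finset.sum_sub_distrib, sub_eq_zero]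
      let c : Fin 4 → W := fun l => (ψ l).symm ⟨pr hD (e l) x, pr_mem hD (e l) x⟩
      have e1 : ∀ l, (pr hD (e l) x = 0 ↔ c l = 0) := fun l => by
        simp [c, Subtype.ext_iff]
      have e2 : ∀ l, (pr hD (e l) (f x) = 0 ↔ c l + ∑ j, c j = 0) := fun l => by
        rw [hprf, ← (ψ l).map_eq_zero_iff, map_add, Subtype.ext_iff]
        simp [c, hs x]
      simp only [e1, e2]
      exact hid c
    rw [Finset.sum_sub_distrib, sub_eq_zero] at key
    exact key
  · obtain ⟨w, hw⟩ := exists_ne (0 : W)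
    obtain ⟨σ, hσ⟩ := exists_blockMap hst
    have h1 := hσ (e 0) _ (Subtype.mem (ψ 0 w))
    have hsx : s (ψ 0 w : ι → F) = w := by
      rw [hs, Finset.sum_eq_single 0 (fun l _ hl => by
        simp [hpk, Ne.symm hl]) (fun h => absurd (Finset.mem_univ _) h)]
      simp [hpk]
    have hne : ∀ l : Fin 4, l ≠ 0 → pr hD (e l) (app g (ψ 0 w : ι → F)) ≠ 0 := fun l hl => by
      rw [hg, hprf, hpk, if_neg (Ne.symm hl), zero_add, hsx]
      simpa using hw
    rcases eq_or_ne (σ (e 0)) (e 1) with h | h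
    · exact hne 2 (by decide) (pr_of_mem_ne hD (by rw [h]; exact fun h' => absurd (he h') (by decide)) h1)
    · exact hne 1 (by decide) (pr_of_mem_ne hD h h1)

lemma exists_det_fix (g : GL ι F) :
    ∃ h ∈ Cfsg.Geo.decompositionStabilizer D, h * g ∈ Cfsg.Geo.specialLinear ι F := by
  have ht : 0 < t := by have := hD.two_le; omega
  obtain ⟨u, hu, hu0⟩ := exists_notMem hD (i := ⟨0, ht⟩) (W := ⊥)
    (by rw [finrank_bot]; exact hD.pos)
  obtain ⟨θ, hθ, hθu, -⟩ := exists_blk_dual hD hu hu0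
  have hd : (g : Matrix ι ι F).det ≠ 0 := g.det_ne_zero
  set d := (g : Matrix ι ι F).det with hdd
  have hne : 1 + ((d⁻¹ - 1) • θ) u ≠ 0 := by simp [hθu, hd]
  refine ⟨dil u ((d⁻¹ - 1) • θ) hne, (blockMap_of_blk hD hu (θ := (d⁻¹ - 1) • θ)
    (fun i hi x hx => by simp [hθ i hi x hx]) (fun x => dil_apply hne x)).mem hD, ?_⟩
  rw [mem_sl_iff, Units.val_mul, Matrix.det_mul, det_dil, ← hdd]
  simp [hθu, hd]

omit hD
variable [Fintype F]

open Classical in
lemma nblocks_id_line (hq : Fintype.card F ≤ 4) (c : Fin 4 → F) :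
    (∑ k, if c k + ∑ l, c l = 0 then (0 : F) else 1) = ∑ k, if c k = 0 then (0 : F) else 1 := by
  have hpow : ∀ x : F, (if x = 0 then (0 : F) else 1) = x ^ (Fintype.card F - 1) := fun x => by
    have := Fintype.one_lt_card (α := F)
    by_cases hx : x = 0
    · rw [if_pos hx, hx, zero_pow (by omega)]
    · rw [if_neg hx, FiniteField.pow_card_sub_one_eq_one x hx]
  have hz := FiniteField.cast_card_eq_zero F
  simp only [hpow, Fin.sum_univ_four]
  have := Fintype.one_lt_card (α := F)
  obtain h | h | h : Fintype.card F = 2 ∨ Fintype.card F = 3 ∨ Fintype.card F = 4 := by omega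
  · rw [h] at hz ⊢
    push_cast at hz
    simp only [pow_one, Nat.add_one_sub_one]
    linear_combination (2 * (c 0 + c 1 + c 2 + c 3)) * hz
  · rw [h] at hz ⊢
    push_cast at hz
    simp only [Nat.add_one_sub_one]
    linear_combination (2 * (c 0 + c 1 + c 2 + c 3) ^ 2) * hz
  · rw [h] at hz ⊢
    push_cast at hz
    have h2 : (2 : F) = 0 := mul_self_eq_zero.1 (by linear_combination hz)
    simp only [Nat.add_one_sub_one]
    linear_combination (5 * (c 0 + c 1 + c 2 + c 3) ^ 3 - 3 * (c 0 + c 1 + c 2 + c 3) *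
      (c 0 * c 1 + c 0 * c 2 + c 0 * c 3 + c 1 * c 2 + c 1 * c 3 + c 2 * c 3)) * h2

omit [Fintype F] in
lemma five_ne_zero_of (h : (2 : F) = 0 ∨ (3 : F) = 0) : (5 : F) ≠ 0 := by
  intro h5
  rcases h with h | h
  · exact one_ne_zero (show (1 : F) = 0 by linear_combination h5 - 2 * h)
  · exact one_ne_zero (show (1 : F) = 0 by linear_combination 2 * h - h5)

lemma two_or_three_eq_zero (hq : Fintype.card F ≤ 4) : (2 : F) = 0 ∨ (3 : F) = 0 := by
  have hz := FiniteField.cast_card_eq_zero F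
  have := Fintype.one_lt_card (α := F)
  obtain h | h | h : Fintype.card F = 2 ∨ Fintype.card F = 3 ∨ Fintype.card F = 4 := by omega
  · rw [h] at hz; exact Or.inl (by simpa using hz)
  · rw [h] at hz; exact Or.inr (by simpa using hz)
  · rw [h] at hz
    push_cast at hz
    exact Or.inl (mul_self_eq_zero.1 (by linear_combination hz))

lemma zero_or_one (hq : Fintype.card F = 2) (x : F) : x = 0 ∨ x = 1 := by
  by_contra h
  push Not at h
  classical
  have := Finset.card_le_univ ({0, 1, x} : Finset F)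
  rw [Finset.card_eq_three.2 ⟨0, 1, x, zero_ne_one, Ne.symm h.1, Ne.symm h.2, rfl⟩] at this
  omega

open Classical in
lemma nblocks_id_plane (hq : Fintype.card F = 2) (c : Fin 4 → F × F) :
    (∑ k, if c k + ∑ l, c l = 0 then (0 : F) else 1) = ∑ k, if c k = 0 then (0 : F) else 1 := by
  have hz := FiniteField.cast_card_eq_zero F
  rw [hq] at hz
  push_cast at hz
  have hpow : ∀ w : F × F, (if w = 0 then (0 : F) else 1) = w.1 ^ 2 + w.1 * w.2 + w.2 ^ 2 := fun w => by
    obtain ⟨a, b⟩ := w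
    rcases zero_or_one hq a with rfl | rfl <;> rcases zero_or_one hq b with rfl | rfl <;>
      simp <;> first | linear_combination hz | linear_combination -hz | linear_combination (2 : F) * hz | linear_combination -(2 : F) * hz
  simp only [hpow, Fin.sum_univ_four, Prod.fst_add, Prod.snd_add]
  linear_combination (3 * ((c 0).1 + (c 1).1 + (c 2).1 + (c 3).1) ^ 2 +
    3 * ((c 0).1 + (c 1).1 + (c 2).1 + (c 3).1) * ((c 0).2 + (c 1).2 + (c 2).2 + (c 3).2) +
    3 * ((c 0).2 + (c 1).2 + (c 2).2 + (c 3).2) ^ 2) * hz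

end Cfsg.Agent.Transvect
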