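/-
Subgroups strictly between a tensor stabiliser with a monomial small factor and a classical group.
Main results: `tp` (pure tensors), `exists_app_tp`, `form_tp`, `exists_between_frame`.
-/
import Cfsg.Agent.Lib.Transvect.NonMax
import Cfsg.Agent.Lib.Aschbacher.Simple

set_option autoImplicit false
set_option linter.unusedSectionVars false

namespace Cfsg.Agent.Transvect

open Matrix
open scoped MatrixGroups Kronecker

variable {ι : Type} [Fintype ι] [DecidableEq ι] {F : Type*} [Field F]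

/-- The pure tensor a ⊗ w in the coordinates given by e and P. -/
def tp {n₁ n₂ : ℕ} (e : ι ≃ Fin n₁ × Fin n₂) (P : GL ι F) :
    (Fin n₁ → F) →ₗ[F] (Fin n₂ → F) →ₗ[F] (ι → F) :=
  LinearMap.mk₂ F (fun a w => app P (fun i => a (e i).1 * w (e i).2))
    (fun a a' w => by rw [← map_add]; congr 1; funext i; simp [add_mul])
    (fun c a w => by rw [← map_smul]; congr 1; funext i; simp [mul_assoc])
    (fun a w w' => by rw [← map_add]; congr 1; funext i; simp [mul_add])
    (fun c a w => by rw [← map_smul]; congr 1; funext i; simp [mul_left_comm])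

lemma tp_apply {n₁ n₂ : ℕ} (e : ι ≃ Fin n₁ × Fin n₂) (P : GL ι F) (a : Fin n₁ → F) (w : Fin n₂ → F) :
    tp e P a w = app P (fun i => a (e i).1 * w (e i).2) := rfl

lemma exists_app_tp {n₁ n₂ : ℕ} {e : ι ≃ Fin n₁ × Fin n₂} {P T : GL ι F}
    (hT : T ∈ Cfsg.Geo.tensorProductSubgroup n₁ n₂ e P) :
    ∃ (A : GL (Fin n₁) F) (B : GL (Fin n₂) F),
      ∀ a w, app T (tp e P a w) = tp e P (app A a) (app B w) := by
  obtain ⟨A, B, h⟩ := (Aschbacher.mem_tensorProductSubgroup_iff e P T).1 hT
  refine ⟨A, B, fun a w => ?_⟩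
  rw [tp_apply, tp_apply, app_apply T, h]
  show ((P : Matrix ι ι F) * Aschbacher.tens e (A : Matrix _ _ F) (B : Matrix _ _ F) *
    ((P⁻¹ : GL ι F) : Matrix ι ι F)) *ᵥ ((P : Matrix ι ι F) *ᵥ _) = _
  rw [Matrix.mulVec_mulVec, Matrix.mul_assoc, Units.inv_mul, Matrix.mul_one, ← Matrix.mulVec_mulVec,
    app_apply P]
  congr 1
  funext i
  simp only [Matrix.mulVec, dotProduct, Aschbacher.tens_apply, app_apply]
  rw [← e.symm.sum_comp, Fintype.sum_prod_type, Finset.sum_mul_sum]
  simp only [Equiv.apply_symm_apply]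
  refine Finset.sum_congr rfl fun j _ => Finset.sum_congr rfl fun k _ => ?_
  ring

lemma form_tp {n₁ n₂ : ℕ} {e : ι ≃ Fin n₁ × Fin n₂} {P : GL ι F} {σ : F → F}
    (hσ : ∀ x y, σ (x * y) = σ x * σ y) {f : (ι → F) → (ι → F) → F}
    {f₁ : (Fin n₁ → F) → (Fin n₁ → F) → F} {f₂ : (Fin n₂ → F) → (Fin n₂ → F) → F}
    (h₁ : ∀ x y, Cfsg.Geo.formOfGram σ (Cfsg.Geo.gramMatrix f₁) x y = f₁ x y)
    (h₂ : ∀ x y, Cfsg.Geo.formOfGram σ (Cfsg.Geo.gramMatrix f₂) x y = f₂ x y)
    (hT : Cfsg.Geo.IsTensorFormStructure σ f f₁ f₂ e P) :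
    ∃ c : F, c ≠ 0 ∧ ∀ a w a' w', f (tp e P a w) (tp e P a' w') = c * (f₁ a a' * f₂ w w') := by
  obtain ⟨c, hc, h⟩ := hT
  refine ⟨c, hc, fun a w a' w' => ?_⟩
  have h' := h (fun p => a p.1 * w p.2) (fun p => a' p.1 * w' p.2)
  refine Eq.trans ?_ (h'.trans ?_)
  · rfl
  · congr 1
    rw [← h₁, ← h₂]
    simp only [Cfsg.Geo.formOfGram, Fintype.sum_prod_type, hσ, Matrix.kroneckerMap_apply]
    rw [Finset.sum_mul_sum]
    refine Finset.sum_congr rfl fun i _ => Finset.sum_congr rfl fun j _ => ?_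
    rw [Finset.sum_mul_sum]
    refine Finset.sum_congr rfl fun k _ => Finset.sum_congr rfl fun l _ => ?_
    ring

/-- A group mapping the images of an orthogonal frame of copies of W to one another, with a common
linear part, is not maximal. -/
theorem exists_between_frame {f : (ι → F) → (ι → F) → F} {W : Type*} [AddCommGroup W] [Module F W]
    {r : ℕ} (hr : 2 ≤ r) {J : Fin r → (W →ₗ[F] (ι → F))} {φ : W → W → F} (φa : W →ₗ[F] F) {w : W}
    (hflin : ∀ z, ∃ L : (ι → F) →ₗ[F] F, ∀ x, L x = f x z)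
    (hfadd : ∀ x y z, f x (y + z) = f x y + f x z)
    (hJ : ∀ k l u v, f (J k u) (J l v) = if k = l then φ u v else 0)
    (hφ : ∀ u, φ u w = φa u) (hww : φ w w = 0) {w' : W} (hw' : φ w' w = 1)
    (hw'' : φ w w' ≠ 0)
    {A H : Subgroup (GL ι F)} (hHA : H ≤ A)
    (hA : ∀ z, f z z = 0 → ∀ φz : (ι → F) →ₗ[F] F, (∀ x, φz x = f x z) → tv z φz ∈ A)
    (hH : ∀ T ∈ H, ∃ (σ : Fin r → Fin r) (c : Fin r → F) (B : W → W),
      ∀ k u, app T (J k u) = c k • J (σ k) (B u)) :
    ∃ K : Subgroup (GL ι F), H < K ∧ K < A := by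
  classical
  set X : (ι → F) → Prop := fun x => ∃ k, x ∈ LinearMap.range (J k) with hX
  let i0 : Fin r := ⟨0, by omega⟩
  let i1 : Fin r := ⟨1, by omega⟩
  have h01 : i0 ≠ i1 := by simp [i0, i1, Fin.ext_iff]
  have hHX : ∀ T ∈ H, ∀ x, X x → X (app T x) := by
    rintro T hT x ⟨k, u, rfl⟩
    obtain ⟨σ, c, B, hB⟩ := hH T hT
    exact ⟨σ k, c k • B u, by rw [map_smul, hB]⟩
  set z := J i0 w with hz
  have hzz : f z z = 0 := by rw [hz, hJ, if_pos rfl, hww]
  obtain ⟨L, hL⟩ := hflin z
  have hLz : L z = 0 := by rw [hL, hzz]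
  set g := tv z L with hg
  have hgJ : ∀ k u, app g (J k u) = if k = i0 then J i0 (u + φa u • w) else J k u := fun k u => by
    rw [hg, tv_apply hLz, hL, hz, hJ]
    split_ifs with h
    · subst h; rw [hφ, map_add, map_smul]
    · rw [zero_smul, add_zero]
  have hgX : ∀ c : F, ∀ x, X x → X (x + c • L x • z) := by
    rintro c x ⟨k, u, rfl⟩
    rw [hL, hz, hJ]
    split_ifs with h
    · subst h; exact ⟨i0, u + c • φ u w • w, by rw [map_add, map_smul, map_smul]⟩
    · exact ⟨k, u, by rw [zero_smul, smul_zero, add_zero]⟩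
  refine exists_between (fixer X) ?_ hHA ⟨g, ?_, hA z hzz L hL, ?_⟩ ?_
  · intro T hT x
    refine propext ⟨fun h => ?_, hHX T hT x⟩
    have := hHX T⁻¹ (inv_mem hT) _ h
    rwa [app_inv_app] at this
  · intro x
    refine propext ⟨fun h => ?_, fun h => ?_⟩
    · have h1 := hgX (-1) _ h
      rwa [hg, tv_apply hLz, map_add, map_smul, hLz, smul_zero, add_zero, neg_one_smul,
        add_neg_cancel_right] at h1
    · have h1 := hgX 1 _ h
      rw [one_smul] at h1
      rwa [hg, tv_apply hLz]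
  · intro hgH
    obtain ⟨σ, c, B, hB⟩ := hH g hgH
    have hJ0 : J i0 w ≠ 0 := by
      intro h
      have h1 := hJ i0 i0 w' w
      rw [if_pos rfl, hw', h] at h1
      obtain ⟨L', hL'⟩ := hflin (0 : ι → F)
      have h3 : f (J i0 w') 0 = 0 := by
        have := hfadd (J i0 w') 0 0
        rw [add_zero] at this
        exact add_eq_left.1 this.symm
      exact zero_ne_one (h3.symm.trans h1)
    -- on the copy i1 the element is trivial, so B is a scalar on the pairing with w
    have e1 : ∀ u, c i1 * (if σ i1 = i1 then φ (B u) w else 0) = φ u w := fun u => by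
      have h1 := congrArg (fun x => f x (J i1 w)) (hB i1 u)
      simp only [hgJ, if_neg h01.symm] at h1
      obtain ⟨L', hL'⟩ := hflin (J i1 w)
      rw [hJ, if_pos rfl, ← hL' (c i1 • J (σ i1) (B u)), map_smul, hL', hJ, smul_eq_mul] at h1
      exact h1.symm
    have hσ1 : σ i1 = i1 := by
      by_contra h
      have := e1 w'
      rw [if_neg h, mul_zero, hw'] at this
      exact zero_ne_one this
    have hc : c i1 ≠ 0 := fun h => by
      have := e1 w'
      rw [h, zero_mul, hw'] at this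
      exact zero_ne_one this
    -- hence B is proportional to the identity as seen from the copy i1
    have e2 : ∀ u, J i1 (c i1 • B u) = J i1 u := fun u => by
      have h1 := hB i1 u
      rw [hgJ, if_neg h01.symm, hσ1] at h1
      rw [map_smul, ← h1]
    have e3 : ∀ u v, φ (c i1 • B u) v = φ u v := fun u v => by
      have h1 := congrArg (fun x => f x (J i1 v)) (e2 u)
      simpa only [hJ, if_true] using h1
    -- compare with the copy i0
    have e4 : ∀ u v, φ (u + φa u • w) v = c i0 / c i1 * (if σ i0 = i0 then φ u v else 0) := fun u v => by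
      have h1 := congrArg (fun x => f x (J i0 v)) (hB i0 u)
      simp only [hgJ, if_true] at h1
      obtain ⟨L', hL'⟩ := hflin (J i0 v)
      obtain ⟨L'', hL''⟩ := hflin (J i1 v)
      rw [hJ, if_pos rfl, ← hL' (c i0 • J (σ i0) (B u)), map_smul, hL', hJ, smul_eq_mul] at h1
      rw [h1, ← e3 u v]
      have h2 : φ (c i1 • B u) v = c i1 * φ (B u) v := by
        have a1 : f (J i1 (c i1 • B u)) (J i1 v) = φ (c i1 • B u) v := by rw [hJ, if_pos rfl]
        rw [← a1, map_smul, ← hL'', map_smul, hL'', hJ, if_pos rfl, smul_eq_mul]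
      rw [h2]
      split_ifs
      · field_simp
      · rw [mul_zero, mul_zero]
    have f1 := e4 w' w
    rw [hφ, map_add, map_smul, ← hφ, ← hφ, hww, hw', smul_zero, add_zero] at f1
    have hσ0 : σ i0 = i0 := by
      by_contra h
      rw [if_neg h, mul_zero] at f1
      exact one_ne_zero f1
    rw [if_pos hσ0, mul_one] at f1
    have h1 := e4 w' w'
    rw [if_pos hσ0, ← f1, one_mul] at h1
    obtain ⟨L', hL'⟩ := hflin (J i0 w')
    have a1 : ∀ a, f (J i0 a) (J i0 w') = φ a w' := fun a => by rw [hJ, if_pos rfl]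
    have h2 : φ (w' + φa w' • w) w' = φ w' w' + φa w' * φ w w' := by
      rw [← a1, ← a1, ← a1, ← hL', ← hL', ← hL', map_add, map_smul, map_add, map_smul, smul_eq_mul]
    rw [h2, ← hφ, hw', one_mul, add_eq_left] at h1
    exact hw'' h1
  · -- a transvection mixing two copies
    set z2 := J i0 w + J i1 w with hz2
    have hfa : ∀ a b y, f (a + b) y = f a y + f b y := fun a b y => by
      obtain ⟨L', hL'⟩ := hflin y
      rw [← hL', ← hL', ← hL', map_add]
    have hz2z : f z2 z2 = 0 := by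
      rw [hz2, hfa, hfadd, hfadd, hJ, hJ, hJ, hJ, if_pos rfl, if_pos rfl, if_neg h01, if_neg h01.symm,
        hww]
      simp
    obtain ⟨L2, hL2⟩ := hflin z2
    refine ⟨tv z2 L2, hA z2 hz2z L2 hL2, fun hc => ?_⟩
    have hXw : X (J i0 w') := ⟨i0, w', rfl⟩
    rw [← hc (J i0 w')] at hXw
    obtain ⟨k, u, hu⟩ := hXw
    have himg : app (tv z2 L2) (J i0 w') = J i0 (w' + w) + J i1 w := by
      rw [tv_apply (by rw [hL2, hz2z]), hL2, hz2, hfadd, hJ, hJ, if_pos rfl, if_neg h01, hw', add_zero,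
        one_smul, map_add, add_assoc]
    rw [himg] at hu
    have hk1 : k = i1 := by
      by_contra hne
      have h1 := congrArg (fun x => f x (J i1 w')) hu
      simp only [hfa, hJ, if_neg hne, if_neg h01, if_pos, zero_add] at h1
      exact hw'' h1.symm
    have hk0 : k = i0 := by
      by_contra hne
      have h1 := congrArg (fun x => f x (J i0 w)) hu
      simp only [hfa, hJ, if_neg hne, if_neg h01.symm, if_pos, add_zero] at h1
      rw [hφ, map_add, ← hφ, ← hφ, hw', hww, add_zero] at h1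
      exact one_ne_zero h1.symm
    exact h01 (hk0.symm.trans hk1)

end Cfsg.Agent.Transvect
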