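/-
Overgroups, inside a symplectic group in odd characteristic, of the stabiliser of a pair of complementary
totally singular subspaces of maximal dimension.
Main results: `et` (the pair elements), `exists_swap`, `isom_mem_of_not_pair`.
-/
import Cfsg.Agent.Lib.Transvect.Symp
import Cfsg.Agent.Lib.Transvect.Block

set_option autoImplicit false
set_option linter.unusedSectionVars false

namespace Cfsg.Agent.Transvect

open Matrix
open scoped MatrixGroups

variable {ι : Type} [Fintype ι] [DecidableEq ι] {F : Type*} [Field F]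
  {f : (ι → F) → (ι → F) → F} (hf : Cfsg.Geo.IsSymplecticForm f) (h2 : (2 : F) ≠ 0)

/-- The form as a bilinear map. -/
def bl : (ι → F) →ₗ[F] (ι → F) →ₗ[F] F :=
  LinearMap.mk₂ F f hf.bilinear.add_left hf.bilinear.smul_left hf.bilinear.add_right
    hf.bilinear.smul_right

lemma bl_apply (x y : ι → F) : bl hf x y = f x y := rfl

/-- The element x ↦ x + c (f(x,b) a + f(x,a) b), for orthogonal a and b. -/
noncomputable def et (a b : ι → F) (c : F) : GL ι F :=
  st hf (a + b) (c / 2) * st hf (a - b) (-(c / 2))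

lemma et_isIsom (a b : ι → F) (c : F) : IsIsom f (et hf a b c) :=
  (st_isIsom hf _ _).mul (st_isIsom hf _ _)

lemma et_conj {g : GL ι F} (hg : IsIsom f g) (a b : ι → F) (c : F) :
    g * et hf a b c * g⁻¹ = et hf (app g a) (app g b) c := by
  have h : g * et hf a b c * g⁻¹ =
      (g * st hf (a + b) (c / 2) * g⁻¹) * (g * st hf (a - b) (-(c / 2)) * g⁻¹) := by
    rw [et]; group
  rw [h, st_conj hf hg, st_conj hf hg, map_add, map_sub, et]

include h2 in
lemma et_apply {a b : ι → F} (h : f a b = 0) (c : F) (x : ι → F) :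
    app (et hf a b c) x = x + (c * f x b) • a + (c * f x a) • b := by
  have hba : f b a = 0 := by rw [hf.skew, h, neg_zero]
  have e : f (a - b) (a + b) = 0 := by
    rw [← bl_apply hf]
    simp [map_sub, map_add, bl_apply, hf.alternating, h, hba]
  have e' : ∀ s : F, f (x + s • (a - b)) (a + b) = f x (a + b) := fun s => by
    rw [hf.bilinear.add_left, hf.bilinear.smul_left, e, mul_zero, add_zero]
  have f1 : f x (a - b) = f x a - f x b := by rw [← bl_apply hf, map_sub]; rfl
  rw [et, map_mul, LinearEquiv.mul_apply, st_apply, st_apply, e', hf.bilinear.add_right, f1]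
  funext k
  simp only [Pi.add_apply, Pi.sub_apply, Pi.smul_apply, smul_eq_mul]
  field_simp
  ring

/-- The pairs (a, b) whose elements lie in M. -/
def IsPair (M : Subgroup (GL ι F)) (a b : ι → F) : Prop :=
  f a b = 0 ∧ ∀ c, et hf a b c ∈ M

variable {M : Subgroup (GL ι F)}

lemma IsPair.conj {a b : ι → F} (h : IsPair hf M a b) {g : GL ι F} (hgM : g ∈ M) (hg : IsIsom f g) :
    IsPair hf M (app g a) (app g b) := by
  refine ⟨by rw [hg]; exact h.1, fun c => ?_⟩
  rw [← et_conj hf hg]
  exact mul_mem (mul_mem hgM (h.2 c)) (inv_mem hgM)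

include h2 in
lemma IsPair.symm {a b : ι → F} (h : IsPair hf M a b) : IsPair hf M b a := by
  have hba : f b a = 0 := by rw [hf.skew, h.1, neg_zero]
  refine ⟨hba, fun c => ?_⟩
  convert h.2 c using 1
  refine gl_ext fun x => ?_
  rw [et_apply hf h2 hba, et_apply hf h2 h.1]
  abel

include h2 in
/-- Two pairs sharing b with non-orthogonal partners give a transvection centre b. -/
lemma centre_of_pairs {a a' b : ι → F} (h : IsPair hf M a b) (h' : IsPair hf M a' b)
    (hne : f a a' ≠ 0) : b ∈ centres hf M := by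
  intro s
  set d : F := s / (2 * f a a') with hd
  have hp := h.conj hf (h'.2 d) (et_isIsom hf a' b d)
  have ea : app (et hf a' b d) a = a + (d * f a a') • b := by
    rw [et_apply hf h2 h'.1, h.1]; simp
  have eb : app (et hf a' b d) b = b := by
    rw [et_apply hf h2 h'.1, hf.skew b a', h'.1, hf.alternating]; simp
  rw [ea, eb] at hp
  have key : et hf (a + (d * f a a') • b) b 1 = et hf a b 1 * st hf b s := gl_ext fun x => by
    rw [map_mul, LinearEquiv.mul_apply, et_apply hf h2 hp.1, et_apply hf h2 h.1, st_apply,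
      hf.bilinear.add_right, hf.bilinear.smul_right, hf.bilinear.add_left, hf.bilinear.add_left,
      hf.bilinear.smul_left, hf.bilinear.smul_left, hf.skew b a, h.1, hf.alternating, neg_zero,
      mul_zero, add_zero, add_zero]
    funext k
    simp only [Pi.add_apply, Pi.smul_apply, smul_eq_mul]
    rw [hd]
    field_simp
    ring
  have h3 := mul_mem (inv_mem (h.2 1)) (hp.2 1)
  rwa [key, inv_mul_cancel_left] at h3

/-! ### The two subspaces -/

variable {m : ℕ} {D : Fin 2 → Submodule F (ι → F)} (hD : Cfsg.Geo.IsMDecomposition m D)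
  (hts : ∀ i, Cfsg.Geo.IsTotallySingularFor f (D i))
include hD hts

lemma sum_pr_two {i j : Fin 2} (hij : i ≠ j) (x : ι → F) : pr hD i x + pr hD j x = x := by
  conv_rhs => rw [← sum_pr hD x, Fin.sum_univ_two]
  fin_cases i <;> fin_cases j <;> first | exact absurd rfl hij | rfl | exact add_comm _ _

include hf in
lemma form_left {i j : Fin 2} (hij : i ≠ j) {a : ι → F} (ha : a ∈ D i) (x : ι → F) :
    f a (pr hD j x) = f a x := by
  conv_rhs => rw [← sum_pr_two hD hts hij x, hf.bilinear.add_right, hts i a ha _ (pr_mem hD i x),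
    zero_add]

include hf in
lemma exists_partner {i j : Fin 2} (hij : i ≠ j) {W : Submodule F (ι → F)} {u : ι → F}
    (hu : u ∈ D i) (hW : u ∉ W) : ∃ b ∈ D j, f u b = 1 ∧ ∀ x ∈ D i, x ∈ W → f x b = 0 := by
  obtain ⟨θ, hθ, hθu⟩ := exists_dual_eq_one hW
  obtain ⟨z, rfl⟩ := flin_surjective hf.bilinear hf.nondegenerate θ
  refine ⟨pr hD j z, pr_mem hD j z, ?_, fun x hx hxW => ?_⟩
  · rw [form_left hf hD hts hij hu]; exact hθu
  · rw [form_left hf hD hts hij hx]; exact hθ x hxW

variable (hH : ∀ g : GL ι F, g ∈ Cfsg.Geo.decompositionStabilizer D → IsIsom f g → g ∈ M)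

include h2 hH in
lemma pair_mem {i j : Fin 2} (hij : i ≠ j) {a b : ι → F} (ha : a ∈ D i) (hb : b ∈ D j)
    (h : f a b = 0) : IsPair hf M a b := by
  refine ⟨h, fun c => hH _ (BlockMap.mem hD (σ := 1) fun k x hx => ?_) (et_isIsom hf a b c)⟩
  rw [et_apply hf h2 h, Equiv.Perm.one_apply]
  have hk : k = i ∨ k = j := by
    fin_cases i <;> fin_cases j <;> fin_cases k <;> simp at hij ⊢
  rcases hk with rfl | rfl
  · rw [hts _ x hx a ha, mul_zero, zero_smul, add_zero]
    exact add_mem hx (Submodule.smul_mem _ _ ha)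
  · rw [hts _ x hx b hb, mul_zero, zero_smul, add_zero]
    exact add_mem hx (Submodule.smul_mem _ _ hb)

include h2 hH in
/-- A suitable vector orthogonal to a pair gives a centre. -/
lemma centre_core {i j : Fin 2} (hij : i ≠ j) {w1 w2 : ι → F} (hp : IsPair hf M w1 w2)
    {a : ι → F} (ha : a ∈ D i) (ha0 : a ≠ 0) (ha1 : f a w1 = 0) (ha2 : f a w2 = 0)
    (n1 : pr hD i w1 ∉ Submodule.span F {a}) (n2 : pr hD i w2 ∉ Submodule.span F {a}) :
    ∃ a ∈ D i, a ≠ 0 ∧ a ∈ centres hf M := by
  classical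
  set u1 := pr hD i w1 with hu1
  set u2 := pr hD i w2 with hu2
  obtain ⟨b1, hb1, hb1u, hb1a⟩ := exists_partner hf hD hts hij (u := u1) (pr_mem hD i w1)
    n1
  obtain ⟨b2, hb2, hb2u, hb2a⟩ := exists_partner hf hD hts hij (u := u2) (pr_mem hD i w2)
    n2
  have hb1a' : f a b1 = 0 := hb1a a ha (Submodule.mem_span_singleton_self a)
  have hb2a' : f a b2 = 0 := hb2a a ha (Submodule.mem_span_singleton_self a)
  obtain ⟨b, hb, hab, hn1, hn2⟩ : ∃ b ∈ D j, f a b = 0 ∧ f u1 b ≠ 0 ∧ f u2 b ≠ 0 := by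
    by_cases e1 : f u1 b2 = 0
    · by_cases e2 : f u2 b1 = 0
      · refine ⟨b1 + b2, add_mem hb1 hb2, ?_, ?_, ?_⟩
        · rw [hf.bilinear.add_right, hb1a', hb2a', add_zero]
        · rw [hf.bilinear.add_right, hb1u, e1, add_zero]; exact one_ne_zero
        · rw [hf.bilinear.add_right, hb2u, e2, zero_add]; exact one_ne_zero
      · exact ⟨b1, hb1, hb1a', by rw [hb1u]; exact one_ne_zero, e2⟩
    · exact ⟨b2, hb2, hb2a', e1, by rw [hb2u]; exact one_ne_zero⟩
  have hbw : ∀ w, f b w = - f (pr hD i w) b := fun w => by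
    rw [← form_left hf hD hts hij.symm hb, hf.skew]
  have hpab := pair_mem hf h2 hD hts hH hij ha hb hab
  have hq := hpab.conj hf (hp.2 1) (et_isIsom hf w1 w2 1)
  have ea : app (et hf w1 w2 1) a = a := by rw [et_apply hf h2 hp.1, ha1, ha2]; simp
  have eb : f b (app (et hf w1 w2 1) b) = 2 * (f u1 b * f u2 b) := by
    rw [et_apply hf h2 hp.1, hf.bilinear.add_right, hf.bilinear.add_right, hf.bilinear.smul_right,
      hf.bilinear.smul_right, hf.alternating, hbw w1, hbw w2, ← hu1, ← hu2]
    ring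
  rw [ea] at hq
  refine ⟨a, ha, ha0,
    centre_of_pairs hf h2 (hpab.symm hf h2) (hq.symm hf h2) ?_⟩
  rw [eb]
  exact mul_ne_zero h2 (mul_ne_zero hn1 hn2)

include h2 hH in
/-- A pair with both components in the i-th subspace non-zero gives a centre there. -/
lemma exists_centre (hm : 3 ≤ m) {i j : Fin 2} (hij : i ≠ j) {w1 w2 : ι → F}
    (hp : IsPair hf M w1 w2) (hw1 : pr hD i w1 ≠ 0) (hw2 : pr hD i w2 ≠ 0) :
    ∃ a ∈ D i, a ≠ 0 ∧ a ∈ centres hf M := by
  classical
  let Φ : (ι → F) → (ι → F) → (D i →ₗ[F] F × F) := fun v w =>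
    ((flin hf.bilinear v).prod (flin hf.bilinear w)) ∘ₗ (D i).subtype
  have hΦ : ∀ v w (z : D i), Φ v w z = (f z.1 v, f z.1 w) := fun v w z => rfl
  have hker : ∀ v w (z : D i), z ∈ LinearMap.ker (Φ v w) ↔ f z.1 v = 0 ∧ f z.1 w = 0 := fun v w z => by
    rw [LinearMap.mem_ker, hΦ, Prod.mk_eq_zero]
  have hdim : ∀ v w, m ≤ Module.finrank F (LinearMap.ker (Φ v w)) + 2 := fun v w => by
    have h1 := LinearMap.finrank_range_add_finrank_ker (Φ v w)
    have h3 : Module.finrank F (LinearMap.range (Φ v w)) ≤ 2 :=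
      (Submodule.finrank_le _).trans (by simp)
    rw [hD.finrank_eq] at h1
    omega
  have hex : ∀ v w, ∃ a ∈ D i, a ≠ 0 ∧ f a v = 0 ∧ f a w = 0 := fun v w => by
    obtain ⟨z, hz, hz0⟩ := Submodule.exists_mem_ne_zero_of_ne_bot (p := LinearMap.ker (Φ v w))
      fun h => by
        have h1 := hdim v w
        rw [h, finrank_bot] at h1
        omega
    obtain ⟨h1, h2'⟩ := (hker v w z).1 hz
    exact ⟨z.1, z.2, fun h => hz0 (Subtype.ext h), h1, h2'⟩
  -- a component outside the kernel is off every kernel vector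
  have hoff : ∀ {v w u a : ι → F}, (f u v ≠ 0 ∨ f u w ≠ 0) → f a v = 0 → f a w = 0 →
      u ∉ Submodule.span F {a} := fun h e1 e2 hs => by
    obtain ⟨c, rfl⟩ := Submodule.mem_span_singleton.1 hs
    rw [hf.bilinear.smul_left, hf.bilinear.smul_left, e1, e2, mul_zero] at h
    simp at h
  have main : ∀ w1 w2 : ι → F, IsPair hf M w1 w2 → pr hD i w1 ≠ 0 → pr hD i w2 ≠ 0 →
      f (pr hD i w1) w1 = 0 → f (pr hD i w1) w2 = 0 →
      ∃ a ∈ D i, a ≠ 0 ∧ a ∈ centres hf M := by
    intro w1 w2 hp hw1 hw2 k1 k2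
    set u1 := pr hD i w1 with hu1
    set u2 := pr hD i w2 with hu2
    have hu1D : u1 ∈ D i := pr_mem hD i w1
    have hu2D : u2 ∈ D i := pr_mem hD i w2
    by_cases hA : f u2 w1 = 0 ∧ f u2 w2 = 0 ∧ u2 ∉ Submodule.span F {u1}
    · obtain ⟨a1, a2, hli⟩ := hA
      have hne : ∀ u ∈ ({u1, u2} : Set (ι → F)), u ∉ Submodule.span F {u1 + u2} := by
        intro u hu hs
        obtain ⟨c, hc⟩ := Submodule.mem_span_singleton.1 hs
        rcases hu with rfl | rfl
        · have h0 : c • u2 = (1 - c) • u1 := by linear_combination (norm := module) hc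
          rcases eq_or_ne c 0 with rfl | hc0
          · exact hw1 (by rw [← hc, zero_smul])
          · exact hli (Submodule.mem_span_singleton.2 ⟨c⁻¹ * (1 - c), by
              rw [mul_smul, ← h0, inv_smul_smul₀ hc0]⟩)
        · have h0 : (1 - c) • u2 = c • u1 := by linear_combination (norm := module) -hc
          rcases eq_or_ne c 1 with rfl | hc1
          · rw [sub_self, zero_smul, one_smul] at h0
            exact hw1 h0.symm
          · exact hli (Submodule.mem_span_singleton.2 ⟨(1 - c)⁻¹ * c, by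
              rw [mul_smul, ← h0, inv_smul_smul₀ (sub_ne_zero.2 (Ne.symm hc1))]⟩)
      refine centre_core hf h2 hD hts hH hij hp (add_mem hu1D hu2D) (fun h => ?_) ?_ ?_
        (hne u1 (Or.inl rfl)) (hne u2 (Or.inr rfl))
      · exact hli (Submodule.mem_span_singleton.2 ⟨-1, by
          rw [neg_one_smul]; exact neg_eq_of_add_eq_zero_right h⟩)
      · rw [hf.bilinear.add_left, k1, a1, add_zero]
      · rw [hf.bilinear.add_left, k2, a2, add_zero]
    -- now `u2` is a multiple of `u1` or is outside the kernel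
    by_cases hB : ∃ a ∈ D i, f a w1 = 0 ∧ f a w2 = 0 ∧ a ∉ Submodule.span F {u1}
    · obtain ⟨a, ha, ha1, ha2, han⟩ := hB
      have ha0 : a ≠ 0 := fun h => han (h ▸ zero_mem _)
      have n1 : u1 ∉ Submodule.span F {a} := fun hs => han (by
        obtain ⟨c, hc⟩ := Submodule.mem_span_singleton.1 hs
        have hc0 : c ≠ 0 := by rintro rfl; exact hw1 (by rw [← hc, zero_smul])
        exact Submodule.mem_span_singleton.2 ⟨c⁻¹, by rw [← hc, inv_smul_smul₀ hc0]⟩)
      refine centre_core hf h2 hD hts hH hij hp ha ha0 ha1 ha2 n1 fun hs => ?_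
      rw [← hu2] at hs
      by_cases hli : u2 ∈ Submodule.span F {u1}
      · obtain ⟨c, hc⟩ := Submodule.mem_span_singleton.1 hs
        have hc0 : c ≠ 0 := by rintro rfl; exact hw2 (show u2 = 0 by rw [← hc, zero_smul])
        refine han ?_
        rw [show a = c⁻¹ • u2 by rw [← hc, inv_smul_smul₀ hc0]]
        exact Submodule.smul_mem _ _ hli
      · refine hA ⟨?_, ?_, hli⟩ <;> obtain ⟨c, hc⟩ := Submodule.mem_span_singleton.1 hs <;>
          rw [← hc, hf.bilinear.smul_left] <;> simp [ha1, ha2]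
    -- the kernel is one line, hence every value is attained
    push Not at hB
    obtain ⟨x0, hx0, hx1, hx2⟩ : ∃ x ∈ D i, f x w1 = 1 ∧ f x w2 = 1 := by
      have hle : (LinearMap.ker (Φ w1 w2)).map (D i).subtype ≤ Submodule.span F {u1} := by
        rintro _ ⟨z, hz, rfl⟩
        obtain ⟨h1, h2'⟩ := (hker w1 w2 z).1 hz
        exact hB z.1 z.2 h1 h2'
      have h5 := (Submodule.finrank_mono hle).trans ((finrank_span_singleton hw1).le)
      rw [Submodule.finrank_map_subtype_eq] at h5
      have h1 := LinearMap.finrank_range_add_finrank_ker (Φ w1 w2)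
      rw [hD.finrank_eq] at h1
      have htop : LinearMap.range (Φ w1 w2) = ⊤ := by
        refine Submodule.eq_top_of_finrank_eq (le_antisymm (Submodule.finrank_le _) ?_)
        rw [Module.finrank_prod, Module.finrank_self]
        omega
      obtain ⟨z, hz⟩ := LinearMap.range_eq_top.1 htop (1, 1)
      rw [hΦ, Prod.mk.injEq] at hz
      exact ⟨z.1, z.2, hz⟩
    -- a partner of `u1`
    obtain ⟨y, hy, hy1, μ, hμ, hμc⟩ : ∃ y ∈ D j, f u1 y = 1 ∧ ∃ μ, f u2 y = μ ∧
        ((μ = 0 ∧ f u2 w2 ≠ 0) ∨ (μ ≠ 0 ∧ f u2 w2 = 0)) := by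
      by_cases hli : u2 ∈ Submodule.span F {u1}
      · obtain ⟨y, hy, hy1, -⟩ := exists_partner hf hD hts hij (W := ⊥) hu1D (by simpa using hw1)
        obtain ⟨c, hc⟩ := Submodule.mem_span_singleton.1 hli
        refine ⟨y, hy, hy1, c, by rw [← hc, hf.bilinear.smul_left, hy1, mul_one], Or.inr ⟨?_, ?_⟩⟩
        · rintro rfl; exact hw2 (show u2 = 0 by rw [← hc, zero_smul])
        · rw [← hc, hf.bilinear.smul_left, k2, mul_zero]
      · have hn : u1 ∉ Submodule.span F {u2} := fun hs => by
          obtain ⟨c, hc⟩ := Submodule.mem_span_singleton.1 hs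
          have hc0 : c ≠ 0 := by rintro rfl; exact hw1 (by rw [← hc, zero_smul])
          exact hli (Submodule.mem_span_singleton.2 ⟨c⁻¹, by rw [← hc, inv_smul_smul₀ hc0]⟩)
        obtain ⟨y, hy, hy1, hy2⟩ := exists_partner hf hD hts hij hu1D hn
        refine ⟨y, hy, hy1, 0, hy2 u2 hu2D (Submodule.mem_span_singleton_self u2),
          Or.inl ⟨rfl, fun h => hli (hB u2 hu2D ?_ h)⟩⟩
        -- `f u2 w1 = f u1 w2`
        have h12 := hp.1
        rw [← sum_pr_two hD hts hij w1, hf.bilinear.add_left, ← hu1, k2, zero_add] at h12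
        have h21 : f (pr hD j w1) w2 = f (pr hD j w1) u2 :=
          (form_left hf hD hts hij.symm (pr_mem hD j w1) w2).symm
        rw [h21, hf.skew, form_left hf hD hts hij hu2D, neg_eq_zero] at h12
        exact h12
    have ν0 : f u2 w1 = 0 := by
      have h12 := hp.1
      rw [← sum_pr_two hD hts hij w1, hf.bilinear.add_left, ← hu1, k2, zero_add] at h12
      have h21 : f (pr hD j w1) w2 = f (pr hD j w1) u2 :=
        (form_left hf hD hts hij.symm (pr_mem hD j w1) w2).symm
      rw [h21, hf.skew, form_left hf hD hts hij hu2D, neg_eq_zero] at h12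
      exact h12
    obtain ⟨x, hx⟩ : ∃ x, x = x0 - f x0 y • u1 := ⟨_, rfl⟩
    have hxD : x ∈ D i := hx ▸ sub_mem hx0 (Submodule.smul_mem _ _ hu1D)
    have fxy : f x y = 0 := by
      rw [hx, ← bl_apply hf, map_sub, map_smul, LinearMap.sub_apply, LinearMap.smul_apply, bl_apply,
        bl_apply, hy1, smul_eq_mul, mul_one, sub_self]
    have fx1 : f x w1 = 1 := by
      rw [hx, ← bl_apply hf, map_sub, map_smul, LinearMap.sub_apply, LinearMap.smul_apply, bl_apply,
        bl_apply, hx1, k1, smul_zero, sub_zero]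
    have fx2 : f x w2 = 1 := by
      rw [hx, ← bl_apply hf, map_sub, map_smul, LinearMap.sub_apply, LinearMap.smul_apply, bl_apply,
        bl_apply, hx2, k2, smul_zero, sub_zero]
    have fyw : ∀ w, f y w = - f (pr hD i w) y := fun w => by
      rw [← form_left hf hD hts hij.symm hy, hf.skew]
    obtain ⟨e, he⟩ : ∃ e, e = et hf w1 w2 1 := ⟨_, rfl⟩
    have hq : IsPair hf M (app e x) (app e y) :=
      (pair_mem hf h2 hD hts hH hij hxD hy fxy).conj hf (he ▸ hp.2 1) (he ▸ et_isIsom hf w1 w2 1)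
    have ex : app e x = x + w1 + w2 := by
      rw [he, et_apply hf h2 hp.1, fx1, fx2, mul_one, one_smul, one_smul]
    have ey : app e y = y + (-μ) • w1 + (-1 : F) • w2 := by
      rw [he, et_apply hf h2 hp.1, fyw w1, fyw w2, ← hu1, ← hu2, hy1, hμ, one_mul, one_mul]
    have pxi : pr hD i (app e x) = x + u1 + u2 := by
      rw [ex, map_add, map_add, pr_of_mem hD hxD]
    have pyi : pr hD i (app e y) = (-μ) • u1 + (-1 : F) • u2 := by
      rw [ey, map_add, map_add, map_smul, map_smul, pr_of_mem_ne hD hij.symm hy, zero_add]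
    have hji : ∀ z ∈ D i, ∀ z' ∈ D i, f z z' = 0 := fun z hz z' hz' => hts i z hz z' hz'
    have gx : f (pr hD i (app e x)) (app e x) ≠ 0 ∨ f (pr hD i (app e x)) (app e y) ≠ 0 := by
      rw [pxi, ex, ey]
      simp only [← bl_apply hf, map_add, map_smul, LinearMap.add_apply, LinearMap.smul_apply]
      simp only [bl_apply, hji x hxD x hxD, hji u1 hu1D x hxD, hji u2 hu2D x hxD, fx1, fx2, fxy, k1,
        k2, ν0, hy1, hμ, smul_eq_mul]
      by_contra hc
      push Not at hc
      exact h2 (by linear_combination hc.1 + hc.2)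
    have gy : f (pr hD i (app e y)) (app e x) ≠ 0 ∨ f (pr hD i (app e y)) (app e y) ≠ 0 := by
      rw [pyi, ex, ey]
      simp only [← bl_apply hf, map_add, map_smul, LinearMap.add_apply, LinearMap.smul_apply]
      simp only [bl_apply, hji u1 hu1D x hxD, hji u2 hu2D x hxD, k1,
        k2, ν0, hy1, hμ, smul_eq_mul]
      by_contra hc
      push Not at hc
      have hκ : f u2 w2 = 0 := by linear_combination -hc.1
      rcases hμc with ⟨-, h⟩ | ⟨h, -⟩
      · exact h hκ
      · exact mul_ne_zero h2 h (by linear_combination hκ - hc.2)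
    obtain ⟨a, ha, ha0, ha1, ha2⟩ := hex (app e x) (app e y)
    exact centre_core hf h2 hD hts hH hij hq ha ha0 ha1 ha2 (hoff gx ha1 ha2) (hoff gy ha1 ha2)
  by_cases h1 : f (pr hD i w1) w1 = 0 ∧ f (pr hD i w1) w2 = 0
  · exact main w1 w2 hp hw1 hw2 h1.1 h1.2
  by_cases h3 : f (pr hD i w2) w1 = 0 ∧ f (pr hD i w2) w2 = 0
  · exact main w2 w1 (hp.symm hf h2) hw2 hw1 h3.2 h3.1
  obtain ⟨a, ha, ha0, ha1, ha2⟩ := hex w1 w2
  exact centre_core hf h2 hD hts hH hij hp ha ha0 ha1 ha2
    (hoff (not_and_or.1 h1) ha1 ha2) (hoff (not_and_or.1 h3) ha1 ha2)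

include hf in
/-- An isometry interchanging the two subspaces. -/
lemma exists_swap {i j : Fin 2} (hij : i ≠ j) :
    ∃ s : GL ι F, IsIsom f s ∧ BlockMap D s (Equiv.swap i j) := by
  classical
  let R : D j →ₗ[F] Module.Dual F (D i) :=
    { toFun := fun y => (flin hf.bilinear y.1) ∘ₗ (D i).subtype
      map_add' := fun y z => by simp [map_add, LinearMap.add_comp]
      map_smul' := fun c y => by simp [map_smul, LinearMap.smul_comp] }
  have hR : Function.Injective R := by
    rw [← LinearMap.ker_eq_bot, LinearMap.ker_eq_bot']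
    intro y hy
    by_contra h0
    obtain ⟨⟨x, hx⟩, -⟩ := hf.nondegenerate y.1 (fun h => h0 (Subtype.ext h))
    apply hx
    rw [← sum_pr_two hD hts hij x, hf.bilinear.add_left, hts j _ (pr_mem hD j x) _ y.2, add_zero]
    exact LinearMap.congr_fun hy ⟨_, pr_mem hD i x⟩
  let R' := LinearEquiv.ofBijective R ⟨hR,
    (LinearMap.injective_iff_surjective_of_finrank_eq_finrank
      (by rw [Subspace.dual_finrank_eq, hD.finrank_eq, hD.finrank_eq])).1 hR⟩
  let B := Module.finBasis F (D i)
  let φ : D i ≃ₗ[F] D j := B.toDualEquiv ≪≫ₗ R'.symm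
  have hφ : ∀ x z : D i, f x.1 (φ z).1 = B.toDual z x := fun x z => by
    have h1 : R' (φ z) = B.toDualEquiv z := R'.apply_symm_apply _
    exact LinearMap.congr_fun h1 x
  have hsym : ∀ x z : D i, B.toDual z x = B.toDual x z := fun x z => by
    have : B.toDual = B.toDual.flip := B.ext fun k => B.ext fun l => by
      rw [LinearMap.flip_apply, Module.Basis.toDual_apply, Module.Basis.toDual_apply]
      simp only [eq_comm]
    conv_lhs => rw [this, LinearMap.flip_apply]
  let s0 : (ι → F) →ₗ[F] (ι → F) :=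
    (D j).subtype ∘ₗ φ.toLinearMap ∘ₗ (pr hD i).codRestrict (D i) (pr_mem hD i) -
      (D i).subtype ∘ₗ φ.symm.toLinearMap ∘ₗ (pr hD j).codRestrict (D j) (pr_mem hD j)
  let P : (ι → F) → D i := fun x => ⟨pr hD i x, pr_mem hD i x⟩
  let Q : (ι → F) → D j := fun x => ⟨pr hD j x, pr_mem hD j x⟩
  have hs0 : ∀ x, s0 x = (φ (P x)).1 - (φ.symm (Q x)).1 := fun x => rfl
  have hiso : ∀ x y, f (s0 x) (s0 y) = f x y := fun x y => by
    have e : ∀ u v, f (φ (P u)).1 (φ.symm (Q v)).1 = - f (P u).1 (Q v).1 := fun u v => by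
      rw [hf.skew, hφ, hsym, ← hφ, LinearEquiv.apply_symm_apply]
    conv_rhs => rw [← sum_pr_two hD hts hij x, ← sum_pr_two hD hts hij y]
    rw [hs0, hs0]
    simp only [← bl_apply hf, map_sub, LinearMap.sub_apply, map_add, LinearMap.add_apply]
    simp only [bl_apply, hts j _ (φ (P x)).2 _ (φ (P y)).2, hts i _ (φ.symm (Q x)).2 _ (φ.symm (Q y)).2,
      hts i _ (pr_mem hD i x) _ (pr_mem hD i y), hts j _ (pr_mem hD j x) _ (pr_mem hD j y), e,
      hf.skew (φ.symm (Q x)).1 (φ (P y)).1, hf.skew (pr hD j x) (pr hD i y)]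
    ring
  have hinj : Function.Injective s0 := by
    rw [← LinearMap.ker_eq_bot, LinearMap.ker_eq_bot']
    intro x hx
    by_contra h0
    obtain ⟨-, y, hy⟩ := hf.nondegenerate x h0
    exact hy (by rw [← hiso, hx, ← bl_apply hf, map_zero, LinearMap.zero_apply])
  obtain ⟨s, hs⟩ := exists_app_eq s0 hinj
  refine ⟨s, fun x y => by rw [hs, hs, hiso], fun k x hx => ?_⟩
  rw [hs, hs0]
  have hk : k = i ∨ k = j := by
    fin_cases i <;> fin_cases j <;> fin_cases k <;> simp at hij ⊢
  rcases hk with rfl | rfl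
  · rw [Equiv.swap_apply_left]
    have : Q x = 0 := Subtype.ext (pr_of_mem_ne hD hij hx)
    rw [this, map_zero, Submodule.coe_zero, sub_zero]
    exact Subtype.mem _
  · rw [Equiv.swap_apply_right]
    have : P x = 0 := Subtype.ext (pr_of_mem_ne hD hij.symm hx)
    rw [this, map_zero, Submodule.coe_zero, zero_sub]
    exact neg_mem (Subtype.mem _)

include h2 hH in
/-- The pair overgroup theorem. -/
theorem isom_mem_of_not_pair (hm : 3 ≤ m) {g : GL ι F} (hgM : g ∈ M) (hg : IsIsom f g)
    (hgH : g ∉ Cfsg.Geo.decompositionStabilizer D) : ∀ v, v ∈ centres hf M := by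
  classical
  obtain ⟨i, j, hij, w1, w2, hp, hw1, hw2⟩ : ∃ i j, i ≠ j ∧ ∃ w1 w2, IsPair hf M w1 w2 ∧
      pr hD i w1 ≠ 0 ∧ pr hD i w2 ≠ 0 := by
    by_contra hno
    push Not at hno
    -- every subspace is mapped into one of the two
    have hvec : ∀ i, ∀ a ∈ D i, app g a ∈ D 0 ∨ app g a ∈ D 1 := fun i a ha => by
      by_cases ha0 : a = 0
      · left; rw [ha0, map_zero]; exact zero_mem _
      obtain ⟨j, hij⟩ : ∃ j, i ≠ j := ⟨i + 1, by fin_cases i <;> simp⟩
      obtain ⟨a', ha', ha'a⟩ := exists_notMem hD (i := i) (W := Submodule.span F {a})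
        (lt_of_le_of_lt ((finrank_span_le_card _).trans (by simp)) (show 1 < m by omega))
      obtain ⟨b, hb, hb1, hb0⟩ := exists_partner hf hD hts hij ha' ha'a
      have hp := (pair_mem hf h2 hD hts hH hij ha hb
        (hb0 a ha (Submodule.mem_span_singleton_self a))).conj hf hgM hg
      have hgb : app g b ≠ 0 := fun h => by
        have hb' : b = 0 := (app g).map_eq_zero_iff.1 h
        rw [hb', ← bl_apply hf, map_zero] at hb1
        exact zero_ne_one hb1
      have hsum := sum_pr_two hD hts (zero_ne_one (α := Fin 2)) (app g a)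
      have hsumb := sum_pr_two hD hts (zero_ne_one (α := Fin 2)) (app g b)
      by_cases e0 : pr hD 0 (app g a) = 0
      · right; rw [← hsum, e0, zero_add]; exact pr_mem hD 1 _
      · left
        have f0 := hno 0 1 zero_ne_one _ _ hp e0
        rw [f0, zero_add] at hsumb
        have f1 : pr hD 1 (app g b) ≠ 0 := by rw [hsumb]; exact hgb
        have e1 : pr hD 1 (app g a) = 0 := by
          by_contra e1
          exact f1 (hno 1 0 one_ne_zero _ _ hp e1)
        rw [← hsum, e1, add_zero]; exact pr_mem hD 0 _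
    have hblk : ∀ i, ∃ k, ∀ a ∈ D i, app g a ∈ D k := fun i => by
      by_contra hc
      push Not at hc
      obtain ⟨a, ha, ha0⟩ := hc 0
      obtain ⟨b, hb, hb1⟩ := hc 1
      have hga := (hvec i a ha).resolve_left ha0
      have hgb := (hvec i b hb).resolve_right hb1
      rcases hvec i (a + b) (add_mem ha hb) with h | h <;> rw [map_add] at h
      · exact ha0 ((Submodule.add_mem_iff_left _ hgb).1 h)
      · exact hb1 ((Submodule.add_mem_iff_right _ hga).1 h)
    choose s hs using hblk
    have hinj : Function.Injective s := fun p q h => by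
      by_contra hne
      have hall : ∀ x, app g x ∈ D (s p) := fun x => by
        rw [← sum_pr_two hD hts hne x, map_add]
        exact add_mem (hs p _ (pr_mem hD p x)) (h ▸ hs q _ (pr_mem hD q x))
      obtain ⟨l, hl⟩ : ∃ l, s p ≠ l := ⟨s p + 1, by generalize s p = e; fin_cases e <;> simp⟩
      obtain ⟨y, hy, hy0⟩ := exists_notMem hD (i := l) (W := ⊥) (by rw [finrank_bot]; exact hD.pos)
      have := pr_of_mem_ne hD hl (by simpa using hall (app g⁻¹ y) : y ∈ D (s p))
      rw [pr_of_mem hD hy] at this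
      exact hy0 (by simp [this])
    exact hgH (BlockMap.mem hD (σ := Equiv.ofBijective s (Finite.injective_iff_bijective.1 hinj))
      fun i x hx => hs i x hx)
  obtain ⟨a, ha, ha0, hac⟩ := exists_centre hf h2 hD hts hH hm hij hp hw1 hw2
  -- every vector of the first subspace is a centre
  have hout : ∀ a' ∈ D i, a' ∉ Submodule.span F {a} → ∀ s : F, a + s • a' ∈ centres hf M := by
    intro a' ha' hna s
    have hsa : a ∉ Submodule.span F {a'} := by
      intro h
      obtain ⟨c, hc⟩ := Submodule.mem_span_singleton.1 h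
      have hc0 : c ≠ 0 := by rintro rfl; exact ha0 (by rw [← hc, zero_smul])
      exact hna (Submodule.mem_span_singleton.2
        ⟨c⁻¹, by rw [← hc, smul_smul, inv_mul_cancel₀ hc0, one_smul]⟩)
    obtain ⟨b, hb, hb1, hb0⟩ := exists_partner hf hD hts hij ha hsa
    have hab := hb0 a' ha' (Submodule.mem_span_singleton_self a')
    have h3 := centres_conj hf ((pair_mem hf h2 hD hts hH hij ha' hb hab).2 s) (et_isIsom hf a' b s) hac
    rwa [et_apply hf h2 hab, hb1, hts i a ha a' ha', mul_zero, zero_smul, add_zero, mul_one] at h3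
  have hi : ∀ x ∈ D i, x ∈ centres hf M := fun x hx => by
    by_cases hxa : x ∈ Submodule.span F {a}
    · obtain ⟨c, rfl⟩ := Submodule.mem_span_singleton.1 hxa
      exact centres_smul hf hac c
    · have h3 := hout (x - a) (sub_mem hx ha) (fun h => hxa (by
        simpa using add_mem h (Submodule.mem_span_singleton_self a))) 1
      rwa [one_smul, add_sub_cancel] at h3
  obtain ⟨s, hsiso, hsB⟩ := exists_swap hf hD hts hij
  have hsM : s ∈ M := hH s (hsB.mem hD) hsiso
  have hj : ∀ x ∈ D j, x ∈ centres hf M := fun x hx => by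
    have h3 := centres_conj hf hsM hsiso (hi _ (by
      have := hsB.inv hD j x hx
      rwa [Equiv.swap_inv, Equiv.swap_apply_right] at this))
    rwa [app_app_inv] at h3
  intro v
  rw [← sum_pr_two hD hts hij v]
  set l := pr hD i v
  set l' := pr hD j v
  have hl : l ∈ D i := pr_mem hD i v
  have hl' : l' ∈ D j := pr_mem hD j v
  rcases eq_or_ne l' 0 with h0 | h0
  · rw [h0, add_zero]; exact hi l hl
  by_cases hne : f l l' = 0
  · obtain ⟨⟨z, hz⟩, -⟩ := hf.nondegenerate l' h0
    set u := pr hD i z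
    have hu : f u l' ≠ 0 := by
      have : f u l' = f z l' := by
        conv_rhs => rw [← sum_pr_two hD hts hij z, hf.bilinear.add_left,
          hts j _ (pr_mem hD j z) _ hl', add_zero]
      rwa [this]
    have h4 : l' + (1 : F) • u ∈ centres hf M :=
      centres_step' hf (hi u (pr_mem hD i z)) (hj l' hl') (by rw [hf.skew]; simpa using hu) 1
    rw [one_smul] at h4
    have h5 := centres_step' hf (hi (l - u) (sub_mem hl (pr_mem hD i z))) h4 (by
      simp only [← bl_apply hf, map_add, map_sub, LinearMap.add_apply]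
      simp only [bl_apply, hf.skew l' l, hne, hts i u (pr_mem hD i z) l hl, hf.alternating,
        hf.skew l' u]
      simpa using hu) 1
    rw [one_smul] at h5
    convert h5 using 1
    abel
  · simpa using centres_step' hf (hj l' hl') (hi l hl) hne 1

end Cfsg.Agent.Transvect
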