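/-
Overgroups of the monomial subgroup of SL: an element of M fixing a coordinate line, but not monomial,
already gives a root group (`sl_le_of_fix`).  Borevich's pseudo-reflection argument.
-/
import Cfsg.Agent.Lib.Transvect.Monomial

set_option autoImplicit false
set_option linter.unusedSectionVars false

namespace Cfsg.Agent.Transvect

open Matrix
open scoped MatrixGroups

variable {ι : Type} [Fintype ι] [DecidableEq ι] {F : Type*} [Field F]

lemma dual_apply_sum (φ : (ι → F) →ₗ[F] F) (x : ι → F) : φ x = ∑ k, x k * φ (ee k) := by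
  conv_lhs => rw [pi_eq_sum_univ' x, map_sum]
  exact Finset.sum_congr rfl fun k _ => by rw [map_smul, smul_eq_mul]

lemma eq_single_of_off {t : ι} {x : ι → F} (h : ∀ k, k ≠ t → x k = 0) : x = x t • ee t := by
  funext k
  by_cases hk : k = t
  · subst hk; simp [ee]
  · simp [ee, hk, h k hk]

/-- z fixes the line e_t and acts as x ↦ x + r(x) v on the coordinates other than t. -/
def Pr (M : Subgroup (GL ι F)) (t : ι) (z : GL ι F) (v : ι → F) (r : (ι → F) →ₗ[F] F) (c : F) : Prop :=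
  z ∈ M ∧ r (ee t) = 0 ∧ c ≠ 0 ∧ app z (ee t) = c • ee t ∧
    ∀ x k, k ≠ t → app z x k = x k + r x * v k

variable {M : Subgroup (GL ι F)} {t : ι}

lemma Pr.apply_eq {z : GL ι F} {v : ι → F} {r : (ι → F) →ₗ[F] F} {c : F} (h : Pr M t z v r c)
    (x : ι → F) : ∃ τ : F, app z x = x + r x • v + τ • ee t := by
  refine ⟨(app z x - (x + r x • v)) t, ?_⟩
  rw [← eq_single_of_off (t := t) (fun k hk => ?_), add_sub_cancel]
  simp only [Pi.sub_apply, Pi.add_apply, Pi.smul_apply, smul_eq_mul, h.2.2.2.2 x k hk, sub_self]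

lemma Pr.r_apply {z : GL ι F} {v : ι → F} {r : (ι → F) →ₗ[F] F} {c : F} (h : Pr M t z v r c)
    {ψ : (ι → F) →ₗ[F] F} (hψ : ψ (ee t) = 0) (x : ι → F) : ψ (app z x) = ψ x + r x * ψ v := by
  obtain ⟨τ, hτ⟩ := h.apply_eq x
  rw [hτ, map_add, map_add, map_smul, map_smul, hψ, smul_zero, add_zero, smul_eq_mul]

lemma Pr.congr {z : GL ι F} {v v' : ι → F} {r : (ι → F) →ₗ[F] F} {c : F} (h : Pr M t z v r c)
    (hv : ∀ k, k ≠ t → v k = v' k) : Pr M t z v' r c :=
  ⟨h.1, h.2.1, h.2.2.1, h.2.2.2.1, fun x k hk => by rw [h.2.2.2.2 x k hk, hv k hk]⟩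

lemma Pr.smul_move {z : GL ι F} {v : ι → F} {r : (ι → F) →ₗ[F] F} {c κ : F}
    (h : Pr M t z (κ • v) r c) : Pr M t z v (κ • r) c :=
  ⟨h.1, by simp [h.2.1], h.2.2.1, h.2.2.2.1, fun x k hk => by
    rw [h.2.2.2.2 x k hk, Pi.smul_apply, LinearMap.smul_apply]; simp; ring⟩

lemma Pr.conj {z w : GL ι F} {v : ι → F} {r : (ι → F) →ₗ[F] F} {c d : F} (h : Pr M t z v r c)
    (hw : w ∈ M) (hd : d ≠ 0) (hwt : app w (ee t) = d • ee t) :
    Pr M t (w * z * w⁻¹) (app w v) (r ∘ₗ (app w⁻¹).toLinearMap) c := by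
  have hinv : app w⁻¹ (ee t) = d⁻¹ • ee t := by
    apply (app w).injective
    rw [app_app_inv, map_smul, hwt, smul_smul, inv_mul_cancel₀ hd, one_smul]
  refine ⟨mul_mem (mul_mem hw h.1) (inv_mem hw), ?_, h.2.2.1, ?_, fun x k hk => ?_⟩
  · rw [LinearMap.comp_apply, LinearEquiv.coe_coe, hinv, map_smul, h.2.1, smul_zero]
  · rw [map_mul, map_mul, LinearEquiv.mul_apply, LinearEquiv.mul_apply, hinv, map_smul, map_smul,
      h.2.2.2.1, map_smul, hwt, smul_smul, smul_smul]
    congr 1; field_simp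
  · obtain ⟨τ, hτ⟩ := h.apply_eq (app w⁻¹ x)
    rw [map_mul, map_mul, LinearEquiv.mul_apply, LinearEquiv.mul_apply, hτ, map_add, map_add,
      map_smul, map_smul, app_app_inv, hwt, Pi.add_apply, Pi.add_apply, Pi.smul_apply, Pi.smul_apply,
      Pi.smul_apply, ee, Pi.single_eq_of_ne hk, smul_zero, smul_zero, add_zero, smul_eq_mul,
      LinearMap.comp_apply, LinearEquiv.coe_coe]

lemma Pr.diff_axis {z z' : GL ι F} {v : ι → F} {φ φ' : (ι → F) →ₗ[F] F} {c : F}
    (h : Pr M t z v φ c) (h' : Pr M t z' v φ' c) (hη : 1 + φ v ≠ 0) :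
    Pr M t (z⁻¹ * z') v ((1 + φ v)⁻¹ • (φ' - φ)) 1 := by
  refine ⟨mul_mem (inv_mem h.1) h'.1, by simp [h.2.1, h'.2.1], one_ne_zero, ?_, fun x k hk => ?_⟩
  · rw [map_mul, LinearEquiv.mul_apply, h'.2.2.2.1, one_smul, ← h.2.2.2.1, app_inv_app]
  · rw [map_mul, LinearEquiv.mul_apply]
    set y := app z⁻¹ (app z' x) with hy
    have e : app z y = app z' x := by rw [hy, app_app_inv]
    have h1 := congrFun e k
    rw [h.2.2.2.2 y k hk, h'.2.2.2.2 x k hk] at h1
    have h2 := congrArg φ e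
    rw [h.r_apply h.2.1, h'.r_apply h.2.1] at h2
    simp only [LinearMap.smul_apply, LinearMap.sub_apply, smul_eq_mul]
    field_simp
    linear_combination (1 + φ v) * h1 - v k * h2

lemma Pr.diff_centre {z z' : GL ι F} {v v' : ι → F} {r : (ι → F) →ₗ[F] F} {c : F}
    (h : Pr M t z v r c) (h' : Pr M t z' v' r c) (hη : 1 + r v ≠ 0) :
    Pr M t (z' * z⁻¹) ((1 + r v)⁻¹ • (v' - v)) r 1 := by
  refine ⟨mul_mem h'.1 (inv_mem h.1), h.2.1, one_ne_zero, ?_, fun x k hk => ?_⟩
  · have e : app z⁻¹ (ee t) = c⁻¹ • ee t := by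
      apply (app z).injective
      rw [app_app_inv, map_smul, h.2.2.2.1, smul_smul, inv_mul_cancel₀ h.2.2.1, one_smul]
    rw [map_mul, LinearEquiv.mul_apply, e, map_smul, h'.2.2.2.1, smul_smul,
      inv_mul_cancel₀ h.2.2.1]
  · rw [map_mul, LinearEquiv.mul_apply]
    set y := app z⁻¹ x with hy
    have e : app z y = x := by rw [hy, app_app_inv]
    have h1 := congrFun e k
    rw [h.2.2.2.2 y k hk] at h1
    have h2 := congrArg r e
    rw [h.r_apply h.2.1] at h2
    rw [h'.2.2.2.2 y k hk]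
    simp only [Pi.smul_apply, Pi.sub_apply, smul_eq_mul]
    field_simp
    linear_combination (1 + r v) * h1 + (v' k - v k) * h2

section main

variable [Fintype F] (hM : ∀ g : GL ι F, IsMono g → g ∈ Cfsg.Geo.specialLinear ι F → g ∈ M)
  (hn : 4 ≤ Fintype.card ι) (hq : 5 ≤ Fintype.card F)
include hM hn hq

omit hM hn in
lemma exists_unit_avoid (s : Finset F) (hs : s.card + 1 < Fintype.card F) :
    ∃ ν : F, ν ≠ 0 ∧ ν ∉ s := by
  classical
  obtain ⟨ν, hν⟩ := exists_notMem_of_card_lt (s := insert (0 : F) s)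
    (lt_of_le_of_lt (Finset.card_insert_le _ _) hs)
  simp only [Finset.mem_insert, not_or] at hν
  exact ⟨ν, hν.1, hν.2⟩

omit hM hn in
lemma exists_sq_ne_one : ∃ ν : Fˣ, (ν : F) ≠ 1 ∧ (ν : F) * ν ≠ 1 := by
  classical
  obtain ⟨ν, h0, hν⟩ := exists_unit_avoid hq ({1, -1} : Finset F)
    (lt_of_le_of_lt (Nat.add_le_add_right Finset.card_le_two 1) (by omega))
  simp only [Finset.mem_insert, Finset.mem_singleton, not_or] at hν
  exact ⟨Units.mk0 ν h0, hν.1, fun h => (mul_self_eq_one_iff.1 h).elim hν.1 hν.2⟩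

omit hn hq in
lemma two_app_t {i l : ι} (ν : Fˣ) : app (dg (two i l ν)) (ee t) = (two i l ν t : F) • ee t :=
  funext fun k => by
    by_cases hk : k = t
    · subst hk; rw [app_dg]; simp [ee]
    · rw [app_dg]; simp [ee, hk]

/-- Conjugation of a Pr by a two-entry torus element. -/
lemma Pr.torus {z : GL ι F} {v : ι → F} {r : (ι → F) →ₗ[F] F} {c : F} (h : Pr M t z v r c)
    {i l : ι} (hil : i ≠ l) (ν : Fˣ) :
    Pr M t (dg (two i l ν) * z * (dg (two i l ν))⁻¹) (fun k => (two i l ν k : F) * v k)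
      (r ∘ₗ (app (dg (two i l ν))⁻¹).toLinearMap) c :=
  (h.conj (two_mem hM hil ν) (two i l ν t).ne_zero (two_app_t hM ν)).congr fun k _ => app_dg _ v k

lemma finish_elem {z : GL ι F} {a l : ι} (hat : a ≠ t) (hlt : l ≠ t) (hal : a ≠ l) {κ : F}
    (hκ : κ ≠ 0) (h : Pr M t z (ee a) (κ • LinearMap.proj l) 1) :
    Cfsg.Geo.specialLinear ι F ≤ M := by
  obtain ⟨ν, hν1, hν2⟩ := exists_sq_ne_one hq
  obtain ⟨j, hj⟩ := exists_notMem_of_card_lt (s := ({t, a, l} : Finset ι))
    (lt_of_le_of_lt Finset.card_le_three (by omega))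
  simp only [Finset.mem_insert, Finset.mem_singleton, not_or] at hj
  set rl : (ι → F) →ₗ[F] F := κ • LinearMap.proj l with hrl
  set σ : (ι → F) →ₗ[F] F :=
    (LinearMap.proj t ∘ₗ (app z).toLinearMap) - LinearMap.proj t with hσ
  have hσt : σ (ee t) = 0 := by
    simp only [hσ, LinearMap.sub_apply, LinearMap.comp_apply, LinearEquiv.coe_coe,
      LinearMap.proj_apply, h.2.2.2.1, one_smul, sub_self]
  have hea : rl (ee a) = 0 := by simp [hrl, ee, hal.symm]
  have hz : ∀ x, app z x = x + rl x • ee a + σ x • ee t := fun x => funext fun k => by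
    by_cases hk : k = t
    · subst hk
      simp [hσ, ee, hat.symm]
    · rw [h.2.2.2.2 x k hk]; simp [ee, hk]
  set w := dg (two t j ν) with hw
  have hwM : w ∈ M := two_mem hM (Ne.symm hj.1) ν
  have hwt : app w (ee t) = (ν : F) • ee t := by rw [hw, two_app_t hM]; simp [two]
  have hwa : app w (ee a) = ee a := funext fun k => by
    rw [hw, app_dg]
    by_cases hk : k = a
    · subst hk; simp [two, hat, Ne.symm hj.2.1, ee]
    · simp [ee, hk]
  set σ' : (ι → F) →ₗ[F] F := (ν : F) • (σ ∘ₗ (app w⁻¹).toLinearMap) with hσ'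
  have hr' : ∀ x, rl (app w⁻¹ x) = rl x := fun x => by
    rw [hrl, LinearMap.smul_apply, LinearMap.smul_apply, LinearMap.proj_apply, LinearMap.proj_apply,
      hw, app_dg_inv]
    simp [two, hlt, Ne.symm hj.2.2]
  have hz' : ∀ x, app (w * z * w⁻¹) x = x + rl x • ee a + σ' x • ee t := fun x => by
    rw [map_mul, map_mul, LinearEquiv.mul_apply, LinearEquiv.mul_apply, hz, map_add, map_add,
      map_smul, map_smul, app_app_inv, hwa, hwt, hr', smul_smul,
      show σ' x = σ (app w⁻¹ x) * ν from mul_comm _ _]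
  set D : (ι → F) →ₗ[F] F := (σ' - σ) ∘ₗ (LinearMap.id - rl.smulRight (ee a)) with hD
  have hrt : rl (ee t) = 0 := by simp [hrl, ee, hlt]
  have hwinv : app w⁻¹ (ee t) = ((ν⁻¹ : Fˣ) : F) • ee t := by
    apply (app w).injective
    rw [app_app_inv, map_smul, hwt, smul_smul, Units.inv_mul, one_smul]
  have hDt : D (ee t) = 0 := by
    simp only [hD, LinearMap.comp_apply, LinearMap.sub_apply, LinearMap.id_apply,
      LinearMap.smulRight_apply, hrt, zero_smul, sub_zero, hσt, hσ', LinearMap.smul_apply,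
      LinearEquiv.coe_coe, hwinv, map_smul, smul_zero]
  have heq : w * z * w⁻¹ * z⁻¹ = tv (ee t) D := by
    refine gl_ext fun y => ?_
    obtain ⟨x, rfl⟩ := (app z).surjective y
    rw [map_mul, LinearEquiv.mul_apply, app_inv_app, hz', tv_apply hDt]
    have hDz : D (app z x) = σ' x - σ x := by
      have e1 : rl (app z x) = rl x := by
        rw [hz, map_add, map_add, map_smul, map_smul, hea, hrt]; simp
      simp only [hD, LinearMap.comp_apply, LinearMap.sub_apply, LinearMap.id_apply,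
        LinearMap.smulRight_apply, e1]
      rw [hz]
      simp only [map_add, map_sub, map_smul, hσt, smul_zero, add_zero]
      have : σ' (ee t) = 0 := by
        rw [hσ', LinearMap.smul_apply, LinearMap.comp_apply, LinearEquiv.coe_coe, hwinv, map_smul,
          hσt, smul_zero, smul_zero]
      rw [this, smul_zero, add_zero, add_sub_cancel_right, add_sub_cancel_right]
    rw [hDz, hz]
    module
  have hDM : tv (ee t) D ∈ M := heq ▸ mul_mem (mul_mem (mul_mem hwM h.1) (inv_mem hwM)) (inv_mem h.1)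
  by_cases hD0 : D = 0
  · -- then σ vanishes and z is a transvection
    have hσσ : ∀ x, σ' x = σ x := fun x => by
      have h1 := LinearMap.congr_fun hD0 (x + rl x • ee a)
      have hDx : ∀ y, D y = σ' (y - rl y • ee a) - σ (y - rl y • ee a) := fun y => rfl
      rw [hDx, map_add, map_smul, hea, smul_zero, add_zero, add_sub_cancel_right,
        LinearMap.zero_apply, sub_eq_zero] at h1
      exact h1
    have hσ0 : σ = 0 := dual_ext_ee fun k => by
      have h1 := hσσ (ee k)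
      rw [hσ', LinearMap.smul_apply, hw, proj_comp_two_inv, smul_eq_mul] at h1
      rw [LinearMap.zero_apply]
      by_contra hne
      by_cases hkt : k = t
      · exact hne (hkt ▸ hσt)
      by_cases hkj : k = j
      · subst hkj
        simp only [two, hkt, if_false, if_true, inv_inv] at h1
        exact hν2 (mul_right_cancel₀ hne (by rw [one_mul, mul_assoc]; exact h1))
      · simp only [two, hkt, hkj, if_false, inv_one, Units.val_one, one_mul] at h1
        exact hν1 (mul_right_cancel₀ hne (by rw [one_mul]; exact h1))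
    have : tv (ee a) rl = z := gl_ext fun x => by
      rw [tv_apply hea, hz, hσ0, LinearMap.zero_apply, zero_smul, add_zero]
    exact sl_le_of_root hM hal (root_of_one hM (by omega) hal hκ (this ▸ h.1))
  · obtain ⟨i, hi, hr⟩ := root_of_row hM (by omega) ⟨ν, fun e => hν1 (by rw [e]; rfl)⟩ hDt hD0 hDM
    exact sl_le_of_root hM hi.symm hr

lemma finish_centre {z : GL ι F} {a : ι} (hat : a ≠ t) {φ : (ι → F) →ₗ[F] F} (hφa : φ (ee a) = 0)
    (hφ : φ ≠ 0) (h : Pr M t z (ee a) φ 1) : Cfsg.Geo.specialLinear ι F ≤ M := by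
  obtain ⟨l, hl⟩ : ∃ l, φ (ee l) ≠ 0 := by
    by_contra h0; push Not at h0; exact hφ (dual_ext_ee fun k => by rw [h0 k]; rfl)
  have hlt : l ≠ t := fun e => hl (e ▸ h.2.1)
  have hla : l ≠ a := fun e => hl (e ▸ hφa)
  obtain ⟨ν, hν1, -⟩ := exists_sq_ne_one hq
  have h' := (h.torus hM hn hq hlt ν).congr (v' := ee a) fun k _ => by
    by_cases hk : k = a
    · subst hk; simp [two, hla.symm, hat]
    · simp [ee, hk]
  have hd := h.diff_axis h' (by rw [hφa, add_zero]; exact one_ne_zero)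
  have key : (1 + φ (ee a))⁻¹ • (φ ∘ₗ (app (dg (two l t ν))⁻¹).toLinearMap - φ) =
      ((((ν⁻¹ : Fˣ) : F) - 1) * φ (ee l)) • (LinearMap.proj l : (ι → F) →ₗ[F] F) := by
    rw [hφa, add_zero, inv_one, one_smul]
    refine dual_ext_ee fun k => ?_
    rw [LinearMap.sub_apply, proj_comp_two_inv]
    by_cases hk : k = l
    · subst hk; simp [two, ee]; ring
    · by_cases hkt : k = t
      · subst hkt; simp [two, hk, ee, Ne.symm hk, h.2.1]
      · simp [two, hk, hkt, ee, Ne.symm hk]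
  rw [key] at hd
  refine finish_elem hM hn hq hat hlt hla.symm (mul_ne_zero ?_ hl) hd
  rw [sub_ne_zero]
  exact fun e => hν1 (by simpa using congrArg (·⁻¹) e)

lemma finish_axis {z : GL ι F} {v : ι → F} {b : ι} (hbt : b ≠ t) (hvb : v b = 0) {κ : F}
    (hκ : κ ≠ 0) (hv : ∃ k, k ≠ t ∧ v k ≠ 0) (h : Pr M t z v (κ • LinearMap.proj b) 1) :
    Cfsg.Geo.specialLinear ι F ≤ M := by
  obtain ⟨a, hat, ha⟩ := hv
  have hab : a ≠ b := fun e => ha (e ▸ hvb)
  obtain ⟨ν, hν1, -⟩ := exists_sq_ne_one hq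
  have h' := h.torus hM hn hq hat ν
  have e : (κ • (LinearMap.proj b : (ι → F) →ₗ[F] F)) ∘ₗ (app (dg (two a t ν))⁻¹).toLinearMap =
      κ • LinearMap.proj b := dual_ext_ee fun k => by
    rw [proj_comp_two_inv]
    by_cases hk : k = b
    · subst hk; simp [two, hab.symm, hbt]
    · simp [ee, Ne.symm hk]
  rw [e] at h'
  have hrv : (κ • (LinearMap.proj b : (ι → F) →ₗ[F] F)) v = 0 := by simp [hvb]
  have hd := (h.diff_centre h' (by rw [hrv, add_zero]; exact one_ne_zero)).congr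
    (v' := (((ν : F) - 1) * v a) • ee a) fun k hk => by
    rw [hrv, add_zero, inv_one, one_smul, Pi.sub_apply]
    by_cases hka : k = a
    · subst hka; simp [two, ee]; ring
    · simp [two, hka, hk, ee]
  refine finish_centre hM hn hq hat ?_ ?_ hd.smul_move
  · simp [ee, hab.symm]
  · intro h0
    have := LinearMap.congr_fun h0 (ee b)
    simp [ee, sub_eq_zero, hν1, ha, hκ] at this

/-- A family of pseudo-reflections x ↦ x + ε r(x) v in M (modulo the line e_t). -/
def Fam (M : Subgroup (GL ι F)) (t : ι) (v : ι → F) (r : (ι → F) →ₗ[F] F) : Prop :=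
  r (ee t) = 0 ∧ r v = 1 ∧ ∀ ε : F, ε ≠ -1 → ∃ z c, Pr M t z (ε • v) r c

omit hM hn hq in
lemma Fam.conj {v : ι → F} {r : (ι → F) →ₗ[F] F} (h : Fam M t v r) {w : GL ι F} {d : F}
    (hw : w ∈ M) (hd : d ≠ 0) (hwt : app w (ee t) = d • ee t) :
    Fam M t (app w v) (r ∘ₗ (app w⁻¹).toLinearMap) := by
  refine ⟨?_, ?_, fun ε hε => ?_⟩
  · obtain ⟨z, c, hz⟩ := h.2.2 0 (by simp)
    exact (hz.conj hw hd hwt).2.1
  · rw [LinearMap.comp_apply, LinearEquiv.coe_coe, app_inv_app, h.2.1]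
  · obtain ⟨z, c, hz⟩ := h.2.2 ε hε
    have := hz.conj hw hd hwt
    rw [map_smul] at this
    exact ⟨_, c, this⟩

omit hM hn in
lemma exists_eps : ∃ ε : F, ε ≠ 0 ∧ ε ≠ -1 ∧ (1 : F) + ε ≠ 0 := by
  classical
  obtain ⟨ε, h0, h⟩ := exists_unit_avoid hq ({-1} : Finset F) (by simp; omega)
  simp only [Finset.mem_singleton] at h
  exact ⟨ε, h0, h, fun e => h (eq_neg_of_add_eq_zero_right e)⟩

lemma fam_zero {v : ι → F} {r : (ι → F) →ₗ[F] F} (h : Fam M t v r) {a : ι} (hat : a ≠ t)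
    (hva : v a ≠ 0) (hra : r (ee a) = 0) : Cfsg.Geo.specialLinear ι F ≤ M := by
  obtain ⟨ν, hν1, -⟩ := exists_sq_ne_one hq
  obtain ⟨ε, hε0, hε, hε1⟩ := exists_eps hq
  obtain ⟨z, c, hz⟩ := h.2.2 ε hε
  have h' := hz.torus hM hn hq hat ν
  have e : r ∘ₗ (app (dg (two a t ν))⁻¹).toLinearMap = r := dual_ext_ee fun k => by
    rw [proj_comp_two_inv]
    by_cases hk : k = a
    · subst hk; rw [hra, mul_zero]
    · by_cases hkt : k = t
      · subst hkt; rw [h.1, mul_zero]
      · simp [two, hk, hkt]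
  rw [e] at h'
  have hrv : r (ε • v) = ε := by rw [map_smul, h.2.1, smul_eq_mul, mul_one]
  have hd := (hz.diff_centre h' (by rw [hrv]; exact hε1)).congr
    (v' := ((1 + ε)⁻¹ * ((ν : F) - 1) * ε * v a) • ee a) fun k hk => by
    rw [hrv, Pi.smul_apply, Pi.sub_apply]
    by_cases hka : k = a
    · subst hka; simp [two, ee]; ring
    · simp [two, hka, hk, ee]
  refine finish_centre hM hn hq hat (by simp [hra]) ?_ hd.smul_move
  intro h0
  have := LinearMap.congr_fun h0 v
  simp [h.2.1, hε1, sub_eq_zero, hν1, hε0, hva] at this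

lemma fam_dual {v : ι → F} {r : (ι → F) →ₗ[F] F} (h : Fam M t v r) {b : ι} (hbt : b ≠ t)
    (hvb : v b = 0) (hrb : r (ee b) ≠ 0) : Cfsg.Geo.specialLinear ι F ≤ M := by
  obtain ⟨ν, hν1, -⟩ := exists_sq_ne_one hq
  obtain ⟨ε, hε0, hε, hε1⟩ := exists_eps hq
  obtain ⟨z, c, hz⟩ := h.2.2 ε hε
  have h' := (hz.torus hM hn hq hbt ν).congr (v' := ε • v) fun k hk => by
    by_cases hkb : k = b
    · subst hkb; simp [hvb]
    · simp [two, hkb, hk]
  have hrv : r (ε • v) = ε := by rw [map_smul, h.2.1, smul_eq_mul, mul_one]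
  have hd := hz.diff_axis h' (by rw [hrv]; exact hε1)
  have key : (1 + r (ε • v))⁻¹ • (r ∘ₗ (app (dg (two b t ν))⁻¹).toLinearMap - r) =
      ((1 + ε)⁻¹ * (((ν⁻¹ : Fˣ) : F) - 1) * r (ee b)) • (LinearMap.proj b : (ι → F) →ₗ[F] F) := by
    rw [hrv]
    refine dual_ext_ee fun k => ?_
    rw [LinearMap.smul_apply, LinearMap.sub_apply, proj_comp_two_inv]
    by_cases hk : k = b
    · subst hk; simp [two, ee]; ring
    · by_cases hkt : k = t
      · subst hkt; simp [two, hk, ee, Ne.symm hk, h.1]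
      · simp [two, hk, hkt, ee, Ne.symm hk]
  rw [key] at hd
  refine finish_axis hM hn hq hbt (by simp [hvb]) (mul_ne_zero (mul_ne_zero (inv_ne_zero hε1) ?_) hrb)
    ?_ hd
  · rw [sub_ne_zero]; exact fun e => hν1 (by simpa using congrArg (·⁻¹) e)
  · by_contra h0
    push Not at h0
    have h2 : v = v t • ee t := eq_single_of_off fun k hk => by
      have := h0 k hk
      simpa [hε0] using this
    have h3 := h.2.1
    rw [h2, map_smul, h.1, smul_zero] at h3
    exact zero_ne_one h3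

/-- The conditions on μ for the block step. -/
def Good' (W μ : F) : Prop :=
  μ ≠ 0 ∧ μ ≠ 1 ∧ 1 + (μ - 1) * W ≠ 0 ∧ μ + (μ - 1) ^ 2 * W ≠ 0

omit hM hn hq in
lemma good_five : ∀ u : ZMod 5, u ≠ 0 → 2 * u ≠ 1 →
    ∃ m : ZMod 5, m ≠ 0 ∧ m ≠ 1 ∧ 1 + (m - 1) * u ≠ 0 ∧ m + (m - 1) ^ 2 * u ≠ 0 := by decide

omit hM hn in
lemma exists_good {W : F} (hW : W ≠ 0) (h5 : Fintype.card F = 5 → 2 * W ≠ 1) :
    ∃ μ, Good' W μ := by
  classical
  by_cases hc : Fintype.card F = 5
  · haveI := Fact.mk (show Nat.Prime 5 by norm_num)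
    let e : ZMod 5 ≃+* F := ZMod.ringEquivOfPrime F (by norm_num) hc
    have key := good_five
    have e2 : ∀ u, u ≠ 0 → e.symm u ≠ 0 := fun u hu he => hu (by simpa using congrArg e he)
    obtain ⟨m, h0, h1, h2, h3⟩ := key (e.symm W) (e2 W hW) (fun he => h5 hc (by
      simpa [map_mul, map_ofNat] using congrArg e he))
    refine ⟨e m, ?_, ?_, ?_, ?_⟩
    · intro h; exact h0 (e.injective (h.trans (map_zero e).symm))
    · intro h; exact h1 (e.injective (h.trans (map_one e).symm))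
    · intro h; exact h2 (e.injective (by simpa [map_add, map_mul, map_sub] using h))
    · intro h; exact h3 (e.injective (by simpa [map_add, map_mul, map_sub, map_pow] using h))
  · have h6 : 6 ≤ Fintype.card F := by omega
    have hne5 : ∀ s : Finset F, s.card ≤ 5 → s.card < Fintype.card F := fun s hs => by omega
    by_cases hex : ∃ μ0 : F, μ0 + (μ0 - 1) ^ 2 * W = 0
    · obtain ⟨μ0, hμ0⟩ := hex
      obtain ⟨μ, hμ⟩ := exists_notMem_of_card_lt (s := ({0, 1, 1 - W⁻¹, μ0, 2 - W⁻¹ - μ0} : Finset F))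
        (hne5 _ Finset.card_le_five)
      simp only [Finset.mem_insert, Finset.mem_singleton, not_or] at hμ
      refine ⟨μ, hμ.1, hμ.2.1, fun h => hμ.2.2.1 ?_, fun h => ?_⟩
      · field_simp; linear_combination h
      · have : (μ - μ0) * (1 + W * (μ + μ0 - 2)) = 0 := by linear_combination h - hμ0
        rcases mul_eq_zero.1 this with h' | h'
        · exact hμ.2.2.2.1 (sub_eq_zero.1 h')
        · refine hμ.2.2.2.2 ?_
          field_simp
          linear_combination h'
    · push Not at hex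
      obtain ⟨μ, hμ⟩ := exists_notMem_of_card_lt (s := ({0, 1, 1 - W⁻¹} : Finset F))
        (hne5 _ (Finset.card_le_three.trans (by norm_num)))
      simp only [Finset.mem_insert, Finset.mem_singleton, not_or] at hμ
      refine ⟨μ, hμ.1, hμ.2.1, fun h => hμ.2.2 ?_, hex μ⟩
      field_simp; linear_combination h

lemma fam_block {v : ι → F} {r : (ι → F) →ₗ[F] F} (h : Fam M t v r) (A : Finset ι) (htA : t ∉ A)
    {c0 : ι} (hc0t : c0 ≠ t) (hc0 : c0 ∉ A) (hr0 : r (ee c0) ≠ 0)
    {W μ : F} (hW : ∑ a ∈ A, v a * r (ee a) = W) (hW0 : W ≠ 0) (hμ : Good' W μ) :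
    Cfsg.Geo.specialLinear ι F ≤ M := by
  obtain ⟨hμ0, hμ1, hP, hQ⟩ := hμ
  let m : Fˣ := Units.mk0 μ hμ0
  let cs : ι → Fˣ := fun k => if k ∈ A then m else if k = t then (m ^ A.card)⁻¹ else 1
  have hdet : ∏ k, (cs k : F) = 1 := by
    have h1 : ∏ k, (cs k : F) = (cs t : F) * ∏ k ∈ A, (cs k : F) := by
      rw [← Finset.prod_insert (f := fun k => (cs k : F)) htA]
      exact (Finset.prod_subset (Finset.subset_univ _) fun k _ hk => by
        simp only [Finset.mem_insert, not_or] at hk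
        simp [cs, hk.1, hk.2]).symm
    rw [h1, Finset.prod_congr rfl (g := fun _ => μ) (fun k hk => by simp [cs, hk, m]),
      Finset.prod_const]
    simp [cs, htA, m, hμ0]
  have hwM : dg cs ∈ M := hM _ (isMono_dg _) (by rw [mem_sl_iff, det_dg, hdet])
  have hwt : app (dg cs) (ee t) = (cs t : F) • ee t := funext fun k => by
    rw [app_dg]
    by_cases hk : k = t
    · subst hk; simp [ee]
    · simp [ee, hk]
  have h' := h.conj hwM (cs t).ne_zero hwt
  set v' := app (dg cs) v with hv'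
  set r' := r ∘ₗ (app (dg cs)⁻¹).toLinearMap with hr'
  have hr'e : ∀ k, r' (ee k) = ((cs k)⁻¹ : Fˣ) * r (ee k) := fun k => by
    rw [hr', LinearMap.comp_apply, LinearEquiv.coe_coe, ← smul_eq_mul, ← map_smul]
    congr 1
    funext k'
    rw [app_dg_inv]
    by_cases hk : k' = k
    · subst hk; simp [ee]
    · simp [ee, hk]
  have hsum : ∀ u : F, ∑ k, (if k ∈ A then u else 1) * (v k * r (ee k)) = 1 + (u - 1) * W :=
    fun u => by
    have h1 : ∀ k, (if k ∈ A then u else 1) * (v k * r (ee k)) =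
        v k * r (ee k) + (if k ∈ A then (u - 1) * (v k * r (ee k)) else 0) := fun k => by
      split_ifs <;> ring
    rw [Finset.sum_congr rfl (fun k _ => h1 k), Finset.sum_add_distrib, ← dual_apply_sum, h.2.1,
      Finset.sum_ite_mem, Finset.univ_inter, ← Finset.mul_sum, hW]
  have hrv' : r v' = 1 + (μ - 1) * W := by
    rw [← hsum μ, dual_apply_sum r v']
    refine Finset.sum_congr rfl fun k _ => ?_
    rw [hv', app_dg]
    by_cases hk : k = t
    · subst hk; rw [h.1]; simp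
    · by_cases hkA : k ∈ A <;> simp [cs, hk, hkA, m, mul_assoc]
  have hr'v : r' v = 1 + (μ⁻¹ - 1) * W := by
    rw [← hsum μ⁻¹, dual_apply_sum r' v]
    refine Finset.sum_congr rfl fun k _ => ?_
    rw [hr'e]
    by_cases hk : k = t
    · subst hk; rw [h.1]; simp
    · by_cases hkA : k ∈ A <;> simp [cs, hk, hkA, m] <;> ring
  have hP1 : r v' ≠ 1 := by
    rw [hrv']; intro e
    exact mul_ne_zero (sub_ne_zero.2 hμ1) hW0 (by linear_combination e)
  have hP0 : r v' ≠ 0 := by rw [hrv']; exact hP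
  set ε := -(r v')⁻¹ with hεdef
  have hε : ε ≠ -1 := fun e => hP1 (by rw [hεdef, neg_inj, inv_eq_one] at e; exact e)
  obtain ⟨z, c, hz⟩ := h.2.2 ε hε
  have h'' := h'.conj hz.1 hz.2.2.1 hz.2.2.2.1
  have hv0 : app z v' c0 = 0 := by
    rw [hz.2.2.2.2 v' c0 hc0t, hv', app_dg, Pi.smul_apply, ← hv', hεdef]
    simp only [cs, hc0, hc0t, if_false, Units.val_one, smul_eq_mul]
    field_simp
    ring
  refine fam_dual hM hn hq h'' hc0t hv0 ?_
  -- the axis at c0
  set y := app z⁻¹ (ee c0) with hy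
  have e : app z y = ee c0 := by rw [hy, app_app_inv]
  have h1 := congrArg r e
  have h2 := congrArg r' e
  rw [hz.r_apply hz.2.1, map_smul, h.2.1, smul_eq_mul, mul_one] at h1
  rw [hz.r_apply h'.1, map_smul, hr'v, smul_eq_mul, hr'e] at h2
  rw [LinearMap.comp_apply, LinearEquiv.coe_coe, ← hy]
  intro h0
  rw [h0, zero_add] at h2
  simp only [cs, hc0, hc0t, if_false, inv_one, Units.val_one, one_mul] at h2
  have hε1 : (1 : F) + ε ≠ 0 := fun e' => hε (eq_neg_of_add_eq_zero_right e')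
  have hεP : ε * r v' = -1 := by rw [hεdef, neg_mul, inv_mul_cancel₀ hP0]
  have hry : r y ≠ 0 := fun e' => hr0 (by rw [← h1, e', zero_mul, add_zero])
  have h3 : ε * (1 + (μ⁻¹ - 1) * W) = 1 + ε :=
    mul_left_cancel₀ hry (by linear_combination h2 - h1)
  apply hQ
  have h4 : μ * μ⁻¹ = 1 := mul_inv_cancel₀ hμ0
  rw [hrv'] at hεP
  have h5' : (μ - 1) * W + (1 + (μ⁻¹ - 1) * W) = 0 := by
    linear_combination (-(1 + (μ - 1) * W)) * h3 + ((μ⁻¹ - 1) * W) * hεP
  linear_combination μ * h5' - W * h4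

/-- Some coordinate of v is used twice: then M contains SL. -/
lemma fam_main {v : ι → F} {r : (ι → F) →ₗ[F] F} (h : Fam M t v r)
    {a b : ι} (hat : a ≠ t) (hbt : b ≠ t) (hab : a ≠ b) (ha : v a ≠ 0) (hb : v b ≠ 0) :
    Cfsg.Geo.specialLinear ι F ≤ M := by
  classical
  by_cases hra : r (ee a) = 0
  · exact fam_zero hM hn hq h hat ha hra
  by_cases hrb : r (ee b) = 0
  · exact fam_zero hM hn hq h hbt hb hrb
  set wa := v a * r (ee a) with hwa
  set wb := v b * r (ee b) with hwb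
  have single : ∀ {v : ι → F} {r : (ι → F) →ₗ[F] F}, Fam M t v r → ∀ {x y : ι}, x ≠ t → y ≠ t →
      x ≠ y → r (ee y) ≠ 0 → v x * r (ee x) ≠ 0 →
      (Fintype.card F = 5 → 2 * (v x * r (ee x)) ≠ 1) → Cfsg.Geo.specialLinear ι F ≤ M := by
    intro v r h x y hxt hyt hxy hry hw0 h5
    obtain ⟨μ, hμ⟩ := exists_good hq hw0 h5
    exact fam_block hM hn hq h {x} (by simp [hxt.symm]) hyt (by simp [hxy.symm]) hry
      (Finset.sum_singleton _ _) hw0 hμ
  have ha0 : wa ≠ 0 := mul_ne_zero ha hra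
  have hb0 : wb ≠ 0 := mul_ne_zero hb hrb
  by_cases h5a : Fintype.card F = 5 ∧ 2 * wa = 1
  swap
  · exact single h hat hbt hab hrb ha0 fun e e' => h5a ⟨e, e'⟩
  by_cases h5b : 2 * wb = 1
  swap
  · exact single h hbt hat hab.symm hra hb0 fun _ => h5b
  obtain ⟨h5, hwa1⟩ := h5a
  have hwsum : wa + wb = 1 := by
    have h2 : (2 : F) ≠ 0 := left_ne_zero_of_mul_eq_one hwa1
    exact mul_left_cancel₀ h2 (by linear_combination hwa1 + h5b)
  by_cases hthird : ∃ c0, c0 ≠ t ∧ c0 ≠ a ∧ c0 ≠ b ∧ (v c0 ≠ 0 ∨ r (ee c0) ≠ 0)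
  · obtain ⟨c0, hct, hca, hcb, hc⟩ := hthird
    by_cases hrc : r (ee c0) = 0
    · exact fam_zero hM hn hq h hct (hc.resolve_right (not_not.2 hrc)) hrc
    have h2ne : (2 : F) * 1 ≠ 1 := fun e => one_ne_zero (show (1 : F) = 0 by linear_combination e)
    obtain ⟨μ, hμ⟩ := exists_good hq one_ne_zero fun _ => h2ne
    exact fam_block hM hn hq h {a, b} (by simp [hat.symm, hbt.symm]) hct (by simp [hca, hcb]) hrc
      (by rw [Finset.sum_pair hab]; exact hwsum) one_ne_zero hμ
  push Not at hthird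
  -- support {a, b}: use a permuted copy
  obtain ⟨c0, hc⟩ := exists_notMem_of_card_lt (s := ({t, a, b} : Finset ι))
    (lt_of_le_of_lt Finset.card_le_three (by omega))
  simp only [Finset.mem_insert, Finset.mem_singleton, not_or] at hc
  obtain ⟨hvc, hrc⟩ := hthird c0 hc.1 hc.2.1 hc.2.2
  set π : Equiv.Perm ι := Equiv.swap a b * Equiv.swap b c0 with hπ
  have πa : π a = b := by
    rw [hπ, Equiv.Perm.mul_apply, Equiv.swap_apply_of_ne_of_ne hab (Ne.symm hc.2.1),
      Equiv.swap_apply_left]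
  have πb : π b = c0 := by
    rw [hπ, Equiv.Perm.mul_apply, Equiv.swap_apply_left,
      Equiv.swap_apply_of_ne_of_ne hc.2.1 hc.2.2]
  have πc : π c0 = a := by
    rw [hπ, Equiv.Perm.mul_apply, Equiv.swap_apply_right, Equiv.swap_apply_right]
  have πt : π t = t := by
    rw [hπ, Equiv.Perm.mul_apply, Equiv.swap_apply_of_ne_of_ne hbt.symm (Ne.symm hc.1),
      Equiv.swap_apply_of_ne_of_ne hat.symm hbt.symm]
  have hsign : ((Equiv.Perm.sign π : ℤ) : F) = 1 := by
    rw [hπ, map_mul, Equiv.Perm.sign_swap hab, Equiv.Perm.sign_swap (Ne.symm hc.2.2)]; simp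
  set P := pg π * dg (1 : ι → Fˣ) with hP
  have hPM : P ∈ M := hM _ (isMono_pg_dg π 1) (by rw [mem_sl_iff, det_pg_dg, hsign]; simp)
  have hPee : ∀ s, app P (ee s) = ee (π s) := fun s => by
    rw [hP, app_pg_dg_ee, Pi.one_apply, Units.val_one, one_smul]
  have h2 := h.conj hPM one_ne_zero (show app P (ee t) = (1 : F) • ee t by rw [hPee, πt, one_smul])
  set v2 := app P v with hv2
  set r2 := r ∘ₗ (app P⁻¹).toLinearMap with hr2
  have hr2e : ∀ s, r2 (ee (π s)) = r (ee s) := fun s => by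
    rw [hr2, LinearMap.comp_apply, LinearEquiv.coe_coe, ← hPee s, app_inv_app]
  have hv2e : ∀ s, v2 (π s) = v s := fun s => by
    rw [hv2, hP, app_pg_dg, show π⁻¹ (π s) = s from Equiv.symm_apply_apply π s, Pi.one_apply,
      Units.val_one, one_mul]
  have r2b : r2 (ee b) = r (ee a) := πa ▸ hr2e a
  have r2a : r2 (ee a) = 0 := by rw [← hrc]; exact πc ▸ hr2e c0
  have r2c : r2 (ee c0) = r (ee b) := πb ▸ hr2e b
  have v2b : v2 b = v a := πa ▸ hv2e a
  have v2a : v2 a = 0 := by rw [← hvc]; exact πc ▸ hv2e c0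
  have v2c : v2 c0 = v b := πb ▸ hv2e b
  have expand : ∀ (φ : (ι → F) →ₗ[F] F) (x : ι → F),
      (∀ k, k ≠ a → k ≠ b → x k * φ (ee k) = 0) → φ x = x a * φ (ee a) + x b * φ (ee b) := by
    intro φ x hz
    rw [dual_apply_sum φ x, ← Finset.add_sum_erase _ _ (Finset.mem_univ a),
      ← Finset.add_sum_erase _ _ (Finset.mem_erase.2 ⟨Ne.symm hab, Finset.mem_univ b⟩)]
    rw [Finset.sum_eq_zero fun k hk => ?_]
    · ring
    · simp only [Finset.mem_erase] at hk
      exact hz k hk.2.1 hk.1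
  have hr2v : r2 v = v b * r (ee a) := by
    rw [expand r2 v fun k hka hkb => ?_, r2a, r2b, mul_zero, zero_add]
    by_cases hkt : k = t
    · subst hkt; rw [h2.1, mul_zero]
    · rw [(hthird k hkt hka hkb).1, zero_mul]
  have hrv2 : r v2 = v a * r (ee b) := by
    rw [expand r v2 fun k hka hkb => ?_, v2a, v2b, zero_mul, zero_add]
    by_cases hkt : k = t
    · subst hkt; rw [h.1, mul_zero]
    · rw [(hthird k hkt hka hkb).2, mul_zero]
  obtain ⟨ε, hε0, hε'⟩ := exists_unit_avoid hq ({-1, -wa⁻¹} : Finset F)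
    (lt_of_le_of_lt (Nat.add_le_add_right Finset.card_le_two 1) (by omega))
  simp only [Finset.mem_insert, Finset.mem_singleton, not_or] at hε'
  have hεwa : 1 + ε * wa ≠ 0 := fun e => hε'.2 (by field_simp; linear_combination e)
  have hε1 : (1 : F) + ε ≠ 0 := fun e => hε'.1 (eq_neg_of_add_eq_zero_right e)
  obtain ⟨z, c, hz⟩ := h2.2.2 ε hε'.1
  have h3 := h.conj hz.1 hz.2.2.1 hz.2.2.2.1
  set v3 := app z v with hv3
  set r3 := r ∘ₗ (app z⁻¹).toLinearMap with hr3
  have v3e : ∀ k, k ≠ t → v3 k = v k + v b * r (ee a) * (ε * v2 k) := fun k hk => by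
    rw [hv3, hz.2.2.2.2 v k hk, hr2v, Pi.smul_apply, smul_eq_mul]
  have v3a : v3 a ≠ 0 := by rw [v3e a hat, v2a, mul_zero, mul_zero, add_zero]; exact ha
  have v3b : v3 b ≠ 0 := by
    rw [v3e b hbt, v2b, show v b + v b * r (ee a) * (ε * v a) = v b * (1 + ε * wa) by rw [hwa]; ring]
    exact mul_ne_zero hb hεwa
  have v3c : v3 c0 ≠ 0 := by
    rw [v3e c0 hc.1, v2c, hvc, zero_add]
    exact mul_ne_zero (mul_ne_zero hb hra) (mul_ne_zero hε0 hb)
  have v3o : ∀ k, k ≠ t → k ≠ a → k ≠ b → k ≠ c0 → v3 k = 0 := fun k hkt hka hkb hkc => by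
    have : v2 k = 0 := by
      have hk' : π (π⁻¹ k) = k := Equiv.apply_symm_apply π k
      have e := hv2e (π⁻¹ k)
      rw [hk'] at e
      rw [e]
      have n1 : π⁻¹ k ≠ a := fun e' => hkb (by rw [← hk', e', πa])
      have n2 : π⁻¹ k ≠ b := fun e' => hkc (by rw [← hk', e', πb])
      have n3 : π⁻¹ k ≠ t := fun e' => hkt (by rw [← hk', e', πt])
      exact (hthird _ n3 n1 n2).1
    rw [v3e k hkt, this, (hthird k hkt hka hkb).1, mul_zero, mul_zero, add_zero]
  by_cases r3a : r3 (ee a) = 0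
  · exact fam_zero hM hn hq h3 hat v3a r3a
  by_cases r3b : r3 (ee b) = 0
  · exact fam_zero hM hn hq h3 hbt v3b r3b
  by_cases r3c : r3 (ee c0) = 0
  · exact fam_zero hM hn hq h3 hc.1 v3c r3c
  by_cases e1 : 2 * (v3 a * r3 (ee a)) = 1
  swap
  · exact single h3 hat hbt hab r3b (mul_ne_zero v3a r3a) fun _ => e1
  by_cases e2 : 2 * (v3 b * r3 (ee b)) = 1
  swap
  · exact single h3 hbt hat hab.symm r3a (mul_ne_zero v3b r3b) fun _ => e2
  by_cases e3 : 2 * (v3 c0 * r3 (ee c0)) = 1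
  swap
  · exact single h3 hc.1 hat hc.2.1 r3a (mul_ne_zero v3c r3c) fun _ => e3
  exfalso
  have hsum : v3 a * r3 (ee a) + v3 b * r3 (ee b) + v3 c0 * r3 (ee c0) = 1 := by
    rw [← h3.2.1, dual_apply_sum r3 v3, ← Finset.add_sum_erase _ _ (Finset.mem_univ a),
      ← Finset.add_sum_erase _ _ (Finset.mem_erase.2 ⟨Ne.symm hab, Finset.mem_univ b⟩),
      ← Finset.add_sum_erase _ _ (Finset.mem_erase.2 ⟨hc.2.2, Finset.mem_erase.2
        ⟨hc.2.1, Finset.mem_univ c0⟩⟩)]
    rw [Finset.sum_eq_zero fun k hk => ?_]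
    · ring
    · simp only [Finset.mem_erase] at hk
      by_cases hkt : k = t
      · subst hkt; rw [h3.1, mul_zero]
      · rw [v3o k hkt hk.2.2.1 hk.2.1 hk.1, zero_mul]
  exact one_ne_zero (show (1 : F) = 0 by linear_combination e1.symm + e2.symm + e3.symm + 2 * hsum)

/-- An element of M fixing a coordinate line, not monomial, gives SL. -/
theorem sl_le_of_fix (hSL : M ≤ Cfsg.Geo.specialLinear ι F) {g : GL ι F} (hg : g ∈ M)
    (hgm : ¬ IsMono g) {d : F} (hgt : app g (ee t) = d • ee t) :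
    Cfsg.Geo.specialLinear ι F ≤ M := by
  classical
  have hd : d ≠ 0 := by
    rintro rfl
    rw [zero_smul, ← map_zero (app g)] at hgt
    have := congrFun ((app g).injective hgt) t
    simp [ee] at this
  by_cases hA : ∀ s, s ≠ t → ∀ a b, a ≠ t → b ≠ t → a ≠ b →
      app g (ee s) a = 0 ∨ app g (ee s) b = 0
  · -- only the row t is not monomial
    set ρ : (ι → F) →ₗ[F] F :=
      d • ((LinearMap.proj t) ∘ₗ (app g⁻¹).toLinearMap) - LinearMap.proj t with hρ
    have hinv : app g⁻¹ (ee t) = d⁻¹ • ee t := by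
      apply (app g).injective
      rw [app_app_inv, map_smul, hgt, smul_smul, inv_mul_cancel₀ hd, one_smul]
    have hρt : ρ (ee t) = 0 := by
      simp only [hρ, LinearMap.sub_apply, LinearMap.smul_apply, LinearMap.comp_apply,
        LinearEquiv.coe_coe, LinearMap.proj_apply, hinv]
      simp [ee, hd]
    have hmono : IsMono (tv (ee t) ρ * g) := by
      intro s
      rw [map_mul, LinearEquiv.mul_apply, tv_apply hρt]
      have hρs : ρ (app g (ee s)) = d * (ee s : ι → F) t - app g (ee s) t := by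
        simp only [hρ, LinearMap.sub_apply, LinearMap.smul_apply, LinearMap.comp_apply,
          LinearEquiv.coe_coe, LinearMap.proj_apply, app_inv_app, smul_eq_mul]
      rw [hρs]
      by_cases hst : s = t
      · subst hst
        refine ⟨s, fun k hk => ?_⟩
        rw [hgt]; simp [ee, hk]
      · by_cases hex : ∃ a, a ≠ t ∧ app g (ee s) a ≠ 0
        · obtain ⟨a, hat, ha⟩ := hex
          refine ⟨a, fun k hk => ?_⟩
          rw [Pi.add_apply, Pi.smul_apply]
          by_cases hkt : k = t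
          · subst hkt; simp [ee, Ne.symm hst]
          · rw [(hA s hst a k hat hkt (Ne.symm hk)).resolve_left ha]; simp [ee, hkt]
        · push Not at hex
          refine ⟨t, fun k hk => ?_⟩
          rw [Pi.add_apply, Pi.smul_apply, hex k hk]; simp [ee, hk]
    have hdet : tv (ee t) ρ * g ∈ Cfsg.Geo.specialLinear ι F := mul_mem (tv_mem_sl _ _) (hSL hg)
    have hT : tv (ee t) ρ ∈ M := by
      have := mul_mem (hM _ hmono hdet) (inv_mem hg)
      rwa [mul_inv_cancel_right] at this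
    have hρ0 : ρ ≠ 0 := fun e => hgm (by
      rw [e, tv_zero, one_mul] at hmono; exact hmono)
    obtain ⟨ν, hν1, -⟩ := exists_sq_ne_one hq
    obtain ⟨i, hi, hr⟩ := root_of_row hM (by omega) ⟨ν, fun e => hν1 (by rw [e]; rfl)⟩ hρt hρ0 hT
    exact sl_le_of_root hM hi.symm hr
  · push Not at hA
    obtain ⟨s, hst, a, b, hat, hbt, hab, ha, hb⟩ := hA
    have hinv : app g⁻¹ (ee t) = d⁻¹ • ee t := by
      apply (app g).injective
      rw [app_app_inv, map_smul, hgt, smul_smul, inv_mul_cancel₀ hd, one_smul]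
    refine fam_main hM hn hq (v := app g (ee s))
      (r := (LinearMap.proj s) ∘ₗ (app g⁻¹).toLinearMap) ⟨?_, ?_, fun ε hε => ?_⟩ hat hbt hab ha hb
    · rw [LinearMap.comp_apply, LinearEquiv.coe_coe, hinv]; simp [ee, hst]
    · rw [LinearMap.comp_apply, LinearEquiv.coe_coe, app_inv_app]; simp [ee]
    · have hne : (1 : F) + ε ≠ 0 := fun e => hε (eq_neg_of_add_eq_zero_right e)
      set μ : Fˣ := Units.mk0 _ hne with hμ
      refine ⟨g * dg (two s t μ) * g⁻¹, ((μ⁻¹ : Fˣ) : F),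
        mul_mem (mul_mem hg (two_mem hM hst μ)) (inv_mem hg), ?_, (μ⁻¹).ne_zero, ?_, fun x k hk => ?_⟩
      · rw [LinearMap.comp_apply, LinearEquiv.coe_coe, hinv]; simp [ee, hst]
      · rw [map_mul, map_mul, LinearEquiv.mul_apply, LinearEquiv.mul_apply, hinv, map_smul,
          two_app_t hM, map_smul, map_smul, hgt, smul_smul, smul_smul]
        congr 1
        simp [two, Ne.symm hst]
        field_simp
      · set y := app g⁻¹ x with hy
        have e : app (dg (two s t μ)) y = y + (ε * y s) • ee s + ((((μ⁻¹ : Fˣ) : F) - 1) * y t) • ee t := by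
          funext j
          rw [app_dg, Pi.add_apply, Pi.add_apply, Pi.smul_apply, Pi.smul_apply]
          by_cases hjs : j = s
          · subst hjs; simp [two, hμ, ee, hst]; ring
          · by_cases hjt : j = t
            · subst hjt; simp [two, hjs, ee]; ring
            · simp [two, hjs, hjt, ee]
        rw [map_mul, map_mul, LinearEquiv.mul_apply, LinearEquiv.mul_apply, ← hy, e, map_add,
          map_add, map_smul, map_smul, hgt, hy, app_app_inv, Pi.add_apply, Pi.add_apply,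
          Pi.smul_apply, Pi.smul_apply, Pi.smul_apply, LinearMap.comp_apply, LinearEquiv.coe_coe,
          LinearMap.proj_apply, Pi.smul_apply, ee, ee, Pi.single_eq_of_ne hk]
        simp only [smul_eq_mul]
        ring

end main

end Cfsg.Agent.Transvect
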