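/-
The monomial subgroup of SL_n(q), q ≥ 5, n ≥ 5, is maximal: `sl_le_of_not_mono`.
-/
import Cfsg.Agent.Lib.Transvect.MonoFix

set_option autoImplicit false
set_option linter.unusedSectionVars false

namespace Cfsg.Agent.Transvect

open Matrix
open scoped MatrixGroups

variable {ι : Type} [Fintype ι] [DecidableEq ι] {F : Type*} [Field F]

lemma pg_mul (π σ : Equiv.Perm ι) : (pg (π * σ) : GL ι F) = pg π * pg σ :=
  gl_ext fun x => funext fun k => by
    rw [map_mul, LinearEquiv.mul_apply, app_pg, app_pg, app_pg]; rfl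

lemma pg_one : (pg (1 : Equiv.Perm ι) : GL ι F) = 1 :=
  gl_ext fun x => funext fun k => by rw [app_pg, map_one]; rfl

/-- The permutation matrices as a homomorphism. -/
noncomputable def pgHom : Equiv.Perm ι →* GL ι F where
  toFun := pg
  map_one' := pg_one
  map_mul' := pg_mul

lemma pgHom_apply (π : Equiv.Perm ι) : (pgHom π : GL ι F) = pg π := rfl

variable [Fintype F] {M : Subgroup (GL ι F)}
  (hM : ∀ g : GL ι F, IsMono g → g ∈ Cfsg.Geo.specialLinear ι F → g ∈ M)
  (hn : 5 ≤ Fintype.card ι) (hq : 5 ≤ Fintype.card F)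

/-- A non-monomial element of M fixing a coordinate line. -/
def FixGoal (M : Subgroup (GL ι F)) : Prop :=
  ∃ g ∈ M, ¬ IsMono g ∧ ∃ (t : ι) (d : F), app g (ee t) = d • ee t

include hM hn hq

omit hn hq in
lemma fix_of_coord {g : GL ι F} (hg : g ∈ M) (hgm : ¬ IsMono g) {s r : ι} {c : F}
    (h : app g (ee s) = c • ee r) : FixGoal M := by
  classical
  rcases eq_or_ne s r with rfl | hsr
  · exact ⟨g, hg, hgm, s, c, h⟩
  set cs : ι → Fˣ := fun k => if k = r then -1 else 1 with hcs
  set w : GL ι F := pg (Equiv.swap s r) * dg cs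
  have hw : w ∈ M := hM _ (isMono_pg_dg _ _) (by
    rw [mem_sl_iff, det_pg_dg, Equiv.Perm.sign_swap hsr,
      Finset.prod_eq_single r (fun k _ hk => by simp [hcs, hk])
        (fun h' => absurd (Finset.mem_univ r) h')]
    simp [hcs])
  refine ⟨w * g, mul_mem hw hg, fun hm => hgm ?_, s, c * (cs r : F), ?_⟩
  · have h2 := ((isMono_pg_dg (F := F) (Equiv.swap s r) cs).inv).mul hm
    rwa [inv_mul_cancel_left] at h2
  · rw [map_mul, LinearEquiv.mul_apply, h, map_smul, app_pg_dg_ee, Equiv.swap_apply_right, smul_smul]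

omit hq in
lemma fix_of_full {g : GL ι F} (hg : g ∈ M) {k : ι} (hv : ∀ i, app g⁻¹ (ee k) i ≠ 0) :
    FixGoal M := by
  classical
  by_contra hno
  set v := app g⁻¹ (ee k) with hvdef
  let cv : ι → Fˣ := fun i => Units.mk0 (v i) (hv i)
  let f : alternatingGroup ι →* GL ι F :=
    ((MulAut.conj (g * dg cv)).toMonoidHom.comp pgHom).comp (alternatingGroup ι).subtype
  have hfa : ∀ p : alternatingGroup ι, f p = g * (dg cv * pg (p : Equiv.Perm ι) * (dg cv)⁻¹) * g⁻¹ :=
    fun p => by
      show (g * dg cv) * pg (p : Equiv.Perm ι) * (g * dg cv)⁻¹ = _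
      group
  have hfM : ∀ p, f p ∈ M := fun p => by
    have hm : dg cv * pg (p : Equiv.Perm ι) * (dg cv)⁻¹ ∈ M := by
      have e : (pg (p : Equiv.Perm ι) : GL ι F) = pg (p : Equiv.Perm ι) * dg 1 := by
        rw [map_one, mul_one]
      refine hM _ (((isMono_dg cv).mul (e ▸ isMono_pg_dg _ _)).mul (isMono_dg cv).inv) ?_
      rw [mem_sl_iff, Units.val_mul, Units.val_mul, Matrix.det_mul, Matrix.det_mul]
      have h1 : ((pg (p : Equiv.Perm ι) : GL ι F) : Matrix ι ι F).det = 1 := by
        rw [e, det_pg_dg, Equiv.Perm.mem_alternatingGroup.1 p.2]; simp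
      rw [h1, mul_one, ← Matrix.det_mul, ← Units.val_mul, mul_inv_cancel, Units.val_one,
        Matrix.det_one]
    rw [hfa]
    exact mul_mem (mul_mem hg hm) (inv_mem hg)
  have hfix : ∀ p, app (f p) (ee k) = ee k := fun p => by
    have h1 : app (dg cv)⁻¹ v = fun _ => 1 := funext fun i => by
      rw [app_dg_inv]; simp [cv, hv i]
    have h2 : app (pg (p : Equiv.Perm ι) : GL ι F) (fun _ => (1 : F)) = fun _ => 1 :=
      funext fun i => by rw [app_pg]
    have h3 : app (dg cv) (fun _ => (1 : F)) = v := funext fun i => by rw [app_dg]; simp [cv]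
    rw [hfa, map_mul, map_mul, LinearEquiv.mul_apply, LinearEquiv.mul_apply, ← hvdef, map_mul, map_mul,
      LinearEquiv.mul_apply, LinearEquiv.mul_apply, h1, h2, h3, hvdef, app_app_inv]
  have hmono : ∀ p, IsMono (f p) := fun p => by
    by_contra hnm
    exact hno ⟨f p, hfM p, hnm, k, 1, by rw [one_smul]; exact hfix p⟩
  choose π c hπ using fun p => exists_of_isMono (hmono p)
  have hcol : ∀ p s, app (f p) (ee s) = (c p s : F) • ee (π p s) := fun p s => by
    rw [hπ p]; exact app_pg_dg_ee _ _ _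
  have uniq : ∀ {a b : ι} {x y : F}, x ≠ 0 → x • (ee a : ι → F) = y • ee b → a = b :=
    fun {a b x y} hx he => by
    by_contra hab
    have := congrFun he a
    simp [ee, hab, hx] at this
  let ψ : alternatingGroup ι →* Equiv.Perm ι := MonoidHom.mk' π fun p p' => Equiv.ext fun s => by
    have h1 := hcol (p * p') s
    rw [map_mul, map_mul, LinearEquiv.mul_apply, hcol p' s, map_smul, hcol p, smul_smul] at h1
    exact (uniq (mul_ne_zero (c p' s).ne_zero (c p (π p' s)).ne_zero) h1).symm
  have hψk : ∀ p, π p k = k := fun p => by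
    have h1 := hcol p k
    rw [hfix] at h1
    exact (uniq (one_ne_zero (α := F)) (by rw [one_smul]; exact h1)).symm
  haveI : Nontrivial ι := Fintype.one_lt_card_iff_nontrivial.1 (by omega)
  haveI : IsSimpleGroup (alternatingGroup ι) :=
    alternatingGroup.isSimpleGroup (by rw [Nat.card_eq_fintype_card]; omega)
  rcases (MonoidHom.normal_ker ψ).eq_bot_or_eq_top with hker | hker
  · -- injective into the stabiliser of k
    have hker' : ψ.ker = ⊥ := hker
    have hinj := (MonoidHom.ker_eq_bot_iff ψ).1 hker'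
    let toSub : alternatingGroup ι → {σ : Equiv.Perm ι // ∀ a, ¬ a ≠ k → σ a = a} :=
      fun p => ⟨π p, fun a ha => by rw [not_not.1 ha]; exact hψk p⟩
    have h1 : Nat.card (alternatingGroup ι) ≤ Nat.card (Equiv.Perm {a : ι // a ≠ k}) := by
      rw [Nat.card_congr (Equiv.Perm.subtypeEquivSubtypePerm (fun a : ι => a ≠ k))]
      exact Nat.card_le_card_of_injective toSub fun p p' h => hinj (congrArg Subtype.val h :)
    have h2 : 2 * Nat.card (alternatingGroup ι) = (Fintype.card ι).factorial := by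
      rw [Nat.card_eq_fintype_card, two_mul_card_alternatingGroup, Fintype.card_perm]
    rw [Nat.card_eq_fintype_card (α := Equiv.Perm _), Fintype.card_perm, Fintype.card_subtype_compl,
      Fintype.card_subtype_eq] at h1
    have h3 := Nat.mul_factorial_pred (show Fintype.card ι ≠ 0 by omega)
    have h4 := Nat.factorial_pos (Fintype.card ι - 1)
    nlinarith
  · -- all images diagonal, hence commuting
    have hker' : ψ.ker = ⊤ := hker
    have hπ1 : ∀ p, π p = 1 := fun p => MonoidHom.mem_ker.1 (hker' ▸ Subgroup.mem_top p)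
    have hcomm : ∀ p p', f p * f p' = f p' * f p := fun p p' => by
      rw [hπ p, hπ p', hπ1, hπ1, pg_one, one_mul, one_mul, ← map_mul, mul_comm, map_mul]
    obtain ⟨a, -⟩ := Fintype.card_pos_iff.1 (show 0 < Fintype.card ι by omega) |>.elim
      fun a => (⟨a, trivial⟩ : ∃ a : ι, True)
    obtain ⟨b, hb⟩ := exists_notMem_of_card_lt (s := ({a} : Finset ι)) (by simp; omega)
    obtain ⟨x, hx⟩ := exists_notMem_of_card_lt (s := ({a, b} : Finset ι))
      (lt_of_le_of_lt Finset.card_le_two (by omega))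
    obtain ⟨y, hy⟩ := exists_notMem_of_card_lt (s := ({a, b, x} : Finset ι))
      (lt_of_le_of_lt Finset.card_le_three (by omega))
    simp only [Finset.mem_insert, Finset.mem_singleton, not_or] at hb hx hy
    have hev : ∀ {i j l : ι}, i ≠ j → j ≠ l →
        Equiv.swap i j * Equiv.swap j l ∈ alternatingGroup ι := fun h1 h2 => by
      rw [Equiv.Perm.mem_alternatingGroup, map_mul, Equiv.Perm.sign_swap h1, Equiv.Perm.sign_swap h2]
      rfl
    have h := hcomm ⟨_, hev (Ne.symm hb) (Ne.symm hx.2)⟩ ⟨_, hev (Ne.symm hx.2) (Ne.symm hy.2.2)⟩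
    rw [← map_mul, ← map_mul] at h
    have h2 : pgHom (F := F) ((Equiv.swap a b * Equiv.swap b x) * (Equiv.swap b x * Equiv.swap x y)) =
        pgHom ((Equiv.swap b x * Equiv.swap x y) * (Equiv.swap a b * Equiv.swap b x)) :=
      (MulAut.conj (g * dg cv)).injective h
    have h3 := congrFun (congrArg (fun w => app w (ee a)) h2)
    have e1 : ∀ σ : Equiv.Perm ι, app (pgHom (F := F) σ) (ee a) = ee (σ a) := fun σ => by
      rw [pgHom_apply, show (pg σ : GL ι F) = pg σ * dg 1 by rw [map_one, mul_one], app_pg_dg_ee]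
      simp
    simp only [e1, Equiv.Perm.mul_apply] at h3
    have l1 : Equiv.swap a b (Equiv.swap b x (Equiv.swap b x (Equiv.swap x y a))) = b := by
      rw [Equiv.swap_apply_self, Equiv.swap_apply_of_ne_of_ne (Ne.symm hx.1) (Ne.symm hy.1),
        Equiv.swap_apply_left]
    have l2 : Equiv.swap b x (Equiv.swap x y (Equiv.swap a b (Equiv.swap b x a))) = x := by
      rw [Equiv.swap_apply_of_ne_of_ne (Ne.symm hb) (Ne.symm hx.1), Equiv.swap_apply_left,
        Equiv.swap_apply_of_ne_of_ne (Ne.symm hx.2) (Ne.symm hy.2.1), Equiv.swap_apply_left]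
    have h4 := h3 b
    rw [l1, l2] at h4
    simp [ee, Ne.symm hx.2] at h4

omit hn in
/-- Counting: a frame line using a coordinate outside the support of v. -/
lemma fix_of_pair {g : GL ι F} (hg : g ∈ M) {k r i j x : ι} (hij : i ≠ j)
    (hi : app g⁻¹ (ee k) i = 0) (hj : app g⁻¹ (ee k) j = 0) (hxi : x ≠ i) (hxj : x ≠ j)
    (hfi : app g⁻¹ (ee r) i ≠ 0) (hfx : app g⁻¹ (ee r) x ≠ 0) : FixGoal M := by
  classical
  by_contra hno
  set f := app g⁻¹ (ee r) with hf
  let y : Fˣ → GL ι F := fun l => g * dg (two i j l) * g⁻¹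
  have hyM : ∀ l, y l ∈ M := fun l => mul_mem (mul_mem hg (two_mem hM hij l)) (inv_mem hg)
  have hyk : ∀ l, app (y l) (ee k) = ee k := fun l => by
    have h1 : app (dg (two i j l)) (app g⁻¹ (ee k)) = app g⁻¹ (ee k) := funext fun s => by
      rw [app_dg]
      by_cases hsi : s = i
      · subst hsi; rw [hi, mul_zero]
      · by_cases hsj : s = j
        · subst hsj; rw [hj, mul_zero]
        · simp [two, hsi, hsj]
    rw [map_mul, map_mul, LinearEquiv.mul_apply, LinearEquiv.mul_apply, h1, app_app_inv]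
  have hym : ∀ l, IsMono (y l) := fun l => by
    by_contra hnm
    exact hno ⟨y l, hyM l, hnm, k, 1, by rw [one_smul]; exact hyk l⟩
  choose π c hπ using fun l => exists_of_isMono (hym l)
  have hd : ∀ l, app (dg (two i j l)) f = (c l r : F) • app g⁻¹ (ee (π l r)) := fun l => by
    apply (app g).injective
    have h1 := app_pg_dg_ee (π l) (c l) r
    rw [← hπ l, map_mul, map_mul, LinearEquiv.mul_apply, LinearEquiv.mul_apply, ← hf] at h1
    rw [h1, map_smul, app_app_inv]
  have hinj : Function.Injective fun l => π l r := fun l l' he => by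
    have h1 := hd l
    have h2 := hd l'
    rw [show π l' r = π l r from he.symm] at h2
    have hx1 := congrFun h1 x
    have hx2 := congrFun h2 x
    have hi1 := congrFun h1 i
    have hi2 := congrFun h2 i
    simp only [app_dg, two, hxi, hxj, if_false, Units.val_one, one_mul, Pi.smul_apply,
      smul_eq_mul, if_true] at hx1 hx2 hi1 hi2
    have hbx : app g⁻¹ (ee (π l r)) x ≠ 0 := fun e => hfx (by rw [hx1, e, mul_zero])
    have hcc : (c l r : F) = c l' r := mul_right_cancel₀ hbx (hx1.symm.trans hx2)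
    exact Units.ext (mul_right_cancel₀ hfi (by rw [hi1, hi2, hcc]))
  let V : Submodule F (ι → F) := Submodule.span F (({f, ee i, ee j} : Finset (ι → F)) : Set (ι → F))
  let u : Fˣ → (ι → F) := fun l => app g⁻¹ (ee (π l r))
  have hu : ∀ l, u l ∈ V := fun l => by
    have hf' : f ∈ V := Submodule.subset_span (by simp)
    have hi' : (ee i : ι → F) ∈ V := Submodule.subset_span (by simp)
    have hj' : (ee j : ι → F) ∈ V := Submodule.subset_span (by simp)
    have e : app (dg (two i j l)) f =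
        f + (((l : F) - 1) * f i) • ee i + ((((l⁻¹ : Fˣ) : F) - 1) * f j) • ee j := funext fun s => by
      rw [app_dg]
      by_cases hsi : s = i
      · subst hsi; simp [two, ee, hij]; ring
      · by_cases hsj : s = j
        · subst hsj; simp [two, ee, hsi]; ring
        · simp [two, ee, hsi, hsj]
    have h1 : u l = ((c l r : F))⁻¹ • app (dg (two i j l)) f := by
      rw [hd l, smul_smul, inv_mul_cancel₀ (c l r).ne_zero, one_smul]
    rw [h1, e]
    exact V.smul_mem _ (V.add_mem (V.add_mem hf' (V.smul_mem _ hi')) (V.smul_mem _ hj'))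
  have hb : LinearIndependent F fun s => app g⁻¹ (ee s) := by
    have h1 := (Pi.basisFun F ι).linearIndependent.map' (app g⁻¹).toLinearMap (LinearEquiv.ker _)
    simpa [Function.comp_def, ee, Pi.basisFun_apply] using h1
  have hli : LinearIndependent F u := hb.comp _ hinj
  have hli' : LinearIndependent F fun l => (⟨u l, hu l⟩ : V) :=
    LinearIndependent.of_comp V.subtype hli
  have h1 := hli'.fintype_card_le_finrank
  have h2 : Module.finrank F V ≤ ({f, ee i, ee j} : Finset (ι → F)).card := finrank_span_finset_le_card _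
  have h3 : ({f, ee i, ee j} : Finset (ι → F)).card ≤ 3 := Finset.card_le_three
  rw [Fintype.card_units] at h1
  omega

omit hM hn hq in
lemma exists_row {g : GL ι F} (i : ι) : ∃ r, app g (ee r) i ≠ 0 := by
  by_contra h
  push Not at h
  have h1 : (LinearMap.proj i : (ι → F) →ₗ[F] F) ∘ₗ (app g).toLinearMap = 0 := dual_ext_ee fun r => h r
  have h2 := LinearMap.congr_fun h1 (app g⁻¹ (ee i))
  rw [LinearMap.comp_apply, LinearEquiv.coe_coe, app_app_inv] at h2
  simp [ee] at h2

lemma fix_of_three_zeros {g : GL ι F} (hg : g ∈ M) (hgm : ¬ IsMono g) {k i j l : ι} (hij : i ≠ j)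
    (hil : i ≠ l) (hjl : j ≠ l) (hi : app g⁻¹ (ee k) i = 0) (hj : app g⁻¹ (ee k) j = 0)
    (hl : app g⁻¹ (ee k) l = 0) : FixGoal M := by
  obtain ⟨r, hr⟩ := exists_row (g := g⁻¹) i
  by_cases hex : ∃ x, x ≠ i ∧ app g⁻¹ (ee r) x ≠ 0
  · obtain ⟨x, hxi, hx⟩ := hex
    by_cases hxj : x = j
    · exact fix_of_pair hM hq hg hil hi hl hxi (hxj ▸ hjl) hr hx
    · exact fix_of_pair hM hq hg hij hi hj hxi hxj hr hx
  · push Not at hex
    refine fix_of_coord hM (inv_mem hg) (fun h => hgm (by simpa using h.inv)) (s := r) (r := i)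
      (c := app g⁻¹ (ee r) i) (eq_single_of_off hex)

lemma fix_of_two_zeros {g : GL ι F} (hg : g ∈ M) (hgm : ¬ IsMono g) {k i j : ι} (hij : i ≠ j)
    (hi : app g⁻¹ (ee k) i = 0) (hj : app g⁻¹ (ee k) j = 0) : FixGoal M := by
  obtain ⟨r, hr⟩ := exists_row (g := g⁻¹) i
  by_cases hex : ∃ x, x ≠ i ∧ x ≠ j ∧ app g⁻¹ (ee r) x ≠ 0
  · obtain ⟨x, hxi, hxj, hx⟩ := hex
    exact fix_of_pair hM hq hg hij hi hj hxi hxj hr hx
  · push Not at hex
    obtain ⟨a, ha⟩ := exists_notMem_of_card_lt (s := ({i, j} : Finset ι))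
      (lt_of_le_of_lt Finset.card_le_two (by omega))
    obtain ⟨b, hb⟩ := exists_notMem_of_card_lt (s := ({i, j, a} : Finset ι))
      (lt_of_le_of_lt Finset.card_le_three (by omega))
    obtain ⟨c, hc⟩ := exists_notMem_of_card_lt (s := insert b ({i, j, a} : Finset ι))
      (lt_of_le_of_lt (Finset.card_insert_le _ _)
        (lt_of_le_of_lt (Nat.add_le_add_right Finset.card_le_three 1) (by omega)))
    simp only [Finset.mem_insert, Finset.mem_singleton, not_or] at ha hb hc
    exact fix_of_three_zeros hM hn hq hg hgm (Ne.symm hb.2.2) (Ne.symm hc.2.2.2) (Ne.symm hc.1)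
      (hex a ha.1 ha.2) (hex b hb.1 hb.2.1) (hex c hc.2.1 hc.2.2.1)

/-- Unless we are done, every column of a non-monomial element has exactly one zero. -/
lemma one_zero_or_fix {g : GL ι F} (hg : g ∈ M) (hgm : ¬ IsMono g) (k : ι) :
    FixGoal M ∨ ∃ z, app g (ee k) z = 0 ∧ ∀ i, i ≠ z → app g (ee k) i ≠ 0 := by
  by_cases h0 : ∀ i, app g (ee k) i ≠ 0
  · exact Or.inl (fix_of_full hM hn (inv_mem hg) (k := k) (by simpa only [inv_inv] using h0))
  push Not at h0
  obtain ⟨z, hz⟩ := h0
  by_cases h1 : ∀ i, i ≠ z → app g (ee k) i ≠ 0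
  · exact Or.inr ⟨z, hz, h1⟩
  push Not at h1
  obtain ⟨i, hiz, hi⟩ := h1
  refine Or.inl (fix_of_two_zeros hM hn hq (inv_mem hg) (fun h => hgm (by simpa using h.inv))
    (k := k) hiz ?_ ?_) <;> simpa only [inv_inv]

lemma exists_fix {g : GL ι F} (hg : g ∈ M) (hgm : ¬ IsMono g) : FixGoal M := by
  classical
  by_contra hno
  have hone : ∀ {g : GL ι F}, g ∈ M → ¬ IsMono g → ∀ k,
      ∃ z, app g (ee k) z = 0 ∧ ∀ i, i ≠ z → app g (ee k) i ≠ 0 :=
    fun hg hgm k => (one_zero_or_fix hM hn hq hg hgm k).resolve_left hno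
  choose zc hzc hzn using hone hg hgm
  choose zi hzi hzin using hone (inv_mem hg) (fun h => hgm (by simpa using h.inv))
  -- a column of an element of M with two non-zero entries and at least two zeros, or none
  have bad : ∀ {x : GL ι F}, x ∈ M → ∀ s a b, a ≠ b → app x (ee s) a ≠ 0 → app x (ee s) b ≠ 0 →
      ((∀ i, app x (ee s) i ≠ 0) ∨ ∃ z z', z ≠ z' ∧ app x (ee s) z = 0 ∧ app x (ee s) z' = 0) →
      False := by
    intro x hx s a b hab ha hb h
    have hxm : ¬ IsMono x := fun hm => by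
      obtain ⟨r, hr⟩ := hm s
      rcases eq_or_ne a r with rfl | har
      · exact hb (hr b hab.symm)
      · exact ha (hr a har)
    rcases h with h | ⟨z, z', hne, h1, h2⟩
    · exact hno (fix_of_full hM hn (inv_mem hx) (k := s) (by simpa only [inv_inv] using h))
    · exact hno (fix_of_two_zeros hM hn hq (inv_mem hx) (fun h => hxm (by simpa using h.inv))
        (k := s) hne (by simpa only [inv_inv] using h1) (by simpa only [inv_inv] using h2))
  -- columns of torus conjugates
  have col : ∀ (cs : ι → Fˣ) (s k : ι), app (g * dg cs * g⁻¹) (ee s) k =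
      (ee s : ι → F) k + ∑ p, ((cs p : F) - 1) * app g⁻¹ (ee s) p * app g (ee p) k := by
    intro cs s k
    set u := app g⁻¹ (ee s) with hu
    have e : app (dg cs) u = u + ∑ p, (((cs p : F) - 1) * u p) • (ee p : ι → F) := funext fun q => by
      rw [app_dg, Pi.add_apply, Finset.sum_apply, Finset.sum_eq_single q
        (fun b _ hb => by simp [ee, Ne.symm hb]) (fun h => absurd (Finset.mem_univ q) h)]
      simp [ee]; ring
    rw [map_mul, map_mul, LinearEquiv.mul_apply, LinearEquiv.mul_apply, ← hu, e, map_add, map_sum,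
      hu, app_app_inv, Pi.add_apply, Finset.sum_apply]
    congr 1
    refine Finset.sum_congr rfl fun p _ => ?_
    rw [map_smul, Pi.smul_apply, smul_eq_mul]
  have hgi : ∀ s p, p ≠ zi s → app g⁻¹ (ee s) p ≠ 0 := hzin
  -- column zeros of g avoid s
  have hz_ne : ∀ s p, p ≠ zi s → zc p ≠ s := by
    intro s p hp e
    obtain ⟨ν, hν0, hν1⟩ := exists_unit_avoid hq ({1} : Finset F) (by simp; omega)
    rw [Finset.mem_singleton] at hν1
    set cs := two p (zi s) (Units.mk0 ν hν0) with hcs
    have hx : ∀ k, app (g * dg cs * g⁻¹) (ee s) k =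
        (ee s : ι → F) k + (ν - 1) * app g⁻¹ (ee s) p * app g (ee p) k := fun k => by
      rw [col, Finset.sum_eq_single p (fun b _ hb => ?_) (fun h => absurd (Finset.mem_univ p) h)]
      · simp [hcs, two]
      · by_cases hbz : b = zi s
        · subst hbz; rw [hzi]; simp
        · simp [hcs, two, hb, hbz]
    have hne : ∀ k, app (g * dg cs * g⁻¹) (ee s) k ≠ 0 := fun k => by
      rw [hx]
      by_cases hks : k = s
      · subst hks; rw [← e, hzc]; simp [ee]
      · simp only [ee, Pi.single_eq_of_ne hks, zero_add]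
        exact mul_ne_zero (mul_ne_zero (sub_ne_zero.2 hν1) (hgi _ _ hp)) (hzn p k (e.symm ▸ hks))
    obtain ⟨a, ha⟩ := exists_notMem_of_card_lt (s := ({s} : Finset ι)) (by simp; omega)
    exact bad (mul_mem (mul_mem hg (two_mem hM hp _)) (inv_mem hg)) s s a
      (fun h => ha (by simp [h])) (hne s) (hne a) (Or.inl hne)
  obtain ⟨s0⟩ : Nonempty ι := Fintype.card_pos_iff.1 (by omega)
  -- two columns with different zeros
  obtain ⟨j, l, hj, hl, hjl⟩ : ∃ j l, j ≠ zi s0 ∧ l ≠ zi s0 ∧ zc j ≠ zc l := by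
    by_contra h
    push Not at h
    obtain ⟨j, hj⟩ := exists_notMem_of_card_lt (s := ({zi s0} : Finset ι)) (by simp; omega)
    rw [Finset.mem_singleton] at hj
    obtain ⟨p, hp⟩ := exists_notMem_of_card_lt (s := ({zi s0, zi (zc j)} : Finset ι))
      (lt_of_le_of_lt Finset.card_le_two (by omega))
    simp only [Finset.mem_insert, Finset.mem_singleton, not_or] at hp
    exact hz_ne (zc j) p hp.2 (h p j hp.1 hj)
  set i0 := zi s0 with hi0
  have hjl' : j ≠ l := fun e => hjl (by rw [e])
  have hzjs := hz_ne s0 j hj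
  have hzls := hz_ne s0 l hl
  set u := app g⁻¹ (ee s0) with hu
  set A := fun k => u j * app g (ee j) k with hA
  set B := fun k => u l * app g (ee l) k with hB
  have hA0 : ∀ k, k ≠ zc j → A k ≠ 0 := fun k hk => mul_ne_zero (hgi s0 j hj) (hzn j k hk)
  have hB0 : ∀ k, k ≠ zc l → B k ≠ 0 := fun k hk => mul_ne_zero (hgi s0 l hl) (hzn l k hk)
  -- the normalisation u_p g_sp = 1
  have hw1 : ∀ p, p ≠ i0 → u p * app g (ee p) s0 = 1 := by
    intro p hp
    by_contra hne
    set w := u p * app g (ee p) s0 with hw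
    have hw0 : w ≠ 0 := mul_ne_zero (hgi s0 p hp) (hzn p s0 (Ne.symm (hz_ne s0 p hp)))
    have hl0 : 1 - w⁻¹ ≠ 0 := fun e => hne (by
      rw [sub_eq_zero] at e; simpa using (congrArg (·⁻¹) e).symm)
    set cs := two p i0 (Units.mk0 _ hl0) with hcs
    have hx : ∀ k, app (g * dg cs * g⁻¹) (ee s0) k =
        (ee s0 : ι → F) k + (-w⁻¹) * (u p * app g (ee p) k) := fun k => by
      rw [col, Finset.sum_eq_single p (fun b _ hb => ?_) (fun h => absurd (Finset.mem_univ p) h)]
      · simp [hcs, two, hu]; ring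
      · by_cases hbz : b = i0
        · subst hbz; rw [hi0, hzi]; simp
        · simp [hcs, two, hb, hbz]
    have hs : app (g * dg cs * g⁻¹) (ee s0) s0 = 0 := by
      rw [hx, ← hw, neg_mul, inv_mul_cancel₀ hw0]; simp [ee]
    have hzp : app (g * dg cs * g⁻¹) (ee s0) (zc p) = 0 := by
      rw [hx, hzc, mul_zero, mul_zero]; simp [ee, hz_ne s0 p hp]
    obtain ⟨a, ha⟩ := exists_notMem_of_card_lt (s := ({s0, zc p} : Finset ι))
      (lt_of_le_of_lt Finset.card_le_two (by omega))
    obtain ⟨b, hb⟩ := exists_notMem_of_card_lt (s := ({s0, zc p, a} : Finset ι))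
      (lt_of_le_of_lt Finset.card_le_three (by omega))
    simp only [Finset.mem_insert, Finset.mem_singleton, not_or] at ha hb
    have hnz : ∀ k, k ≠ s0 → k ≠ zc p → app (g * dg cs * g⁻¹) (ee s0) k ≠ 0 := fun k h1 h2 => by
      rw [hx]
      simp only [ee, Pi.single_eq_of_ne h1, zero_add]
      exact mul_ne_zero (neg_ne_zero.2 (inv_ne_zero hw0)) (mul_ne_zero (hgi s0 p hp) (hzn p k h2))
    exact bad (mul_mem (mul_mem hg (two_mem hM hp _)) (inv_mem hg)) s0 a b (Ne.symm hb.2.2)
      (hnz a ha.1 ha.2) (hnz b hb.1 hb.2.1) (Or.inr ⟨s0, zc p, Ne.symm (hz_ne s0 p hp), hs, hzp⟩)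
  -- three-point torus elements
  let d3 : Fˣ → Fˣ → ι → Fˣ := fun a b k =>
    if k = j then a else if k = l then b else if k = i0 then (a * b)⁻¹ else 1
  have hd3 : ∀ a b, dg (d3 a b) ∈ M := fun a b => hM _ (isMono_dg _) (by
    rw [mem_sl_iff, det_dg, ← Finset.mul_prod_erase _ _ (Finset.mem_univ j),
      ← Finset.mul_prod_erase _ _ (Finset.mem_erase.2 ⟨Ne.symm hjl', Finset.mem_univ l⟩),
      ← Finset.mul_prod_erase _ _ (Finset.mem_erase.2 ⟨Ne.symm hl, Finset.mem_erase.2
        ⟨Ne.symm hj, Finset.mem_univ i0⟩⟩)]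
    rw [Finset.prod_eq_one fun k hk => by
      simp only [Finset.mem_erase] at hk
      simp [d3, hk.1, hk.2.1, hk.2.2.1]]
    simp [d3, Ne.symm hjl', Ne.symm hj, Ne.symm hl])
  have hx3 : ∀ (a b : Fˣ) k, app (g * dg (d3 a b) * g⁻¹) (ee s0) k =
      (ee s0 : ι → F) k + ((a : F) - 1) * A k + ((b : F) - 1) * B k := fun a b k => by
    rw [col, ← Finset.add_sum_erase _ _ (Finset.mem_univ j),
      ← Finset.add_sum_erase _ _ (Finset.mem_erase.2 ⟨Ne.symm hjl', Finset.mem_univ l⟩)]
    rw [Finset.sum_eq_zero fun p hp => ?_]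
    · simp [d3, Ne.symm hjl', hA, hB, hu]; ring
    · simp only [Finset.mem_erase] at hp
      by_cases hpi : p = i0
      · subst hpi; rw [hi0, hzi]; simp
      · simp [d3, hp.1, hp.2.1, hpi]
  have hAs : A s0 = 1 := hw1 j hj
  have hBs : B s0 = 1 := hw1 l hl
  have hAzj : A (zc j) = 0 := by simp only [hA, hzc, mul_zero]
  have hBzl : B (zc l) = 0 := by simp only [hB, hzc, mul_zero]
  by_cases hex : ∃ r, r ≠ s0 ∧ r ≠ zc j ∧ r ≠ zc l ∧ A r ≠ B r
  · obtain ⟨r, hrs, hrj, hrl, hne⟩ := hex
    have hd : A r - B r ≠ 0 := sub_ne_zero.2 hne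
    set α := A r / (A r - B r) with hα
    set γ := -(B r) / (A r - B r) with hγ
    have hα0 : α ≠ 0 := div_ne_zero (hA0 r hrj) hd
    have hγ0 : γ ≠ 0 := div_ne_zero (neg_ne_zero.2 (hB0 r hrl)) hd
    have hαγ : α + γ = 1 := by rw [hα, hγ]; field_simp; ring
    have hx := hx3 (Units.mk0 α hα0) (Units.mk0 γ hγ0)
    simp only [Units.val_mk0] at hx
    refine bad (mul_mem (mul_mem hg (hd3 (Units.mk0 α hα0) (Units.mk0 γ hγ0))) (inv_mem hg))
      s0 (zc j) (zc l) hjl ?_ ?_ (Or.inr ⟨s0, r, hrs.symm, ?_, ?_⟩)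
    · rw [hx, hAzj]
      simp only [ee, Pi.single_eq_of_ne hzjs, mul_zero, zero_add]
      exact mul_ne_zero (fun e => hα0 (by linear_combination hαγ - e)) (hB0 _ hjl)
    · rw [hx, hBzl]
      simp only [ee, Pi.single_eq_of_ne hzls, mul_zero, zero_add, add_zero]
      exact mul_ne_zero (fun e => hγ0 (by linear_combination hαγ - e)) (hA0 _ hjl.symm)
    · rw [hx, hAs, hBs]; simp [ee]; linear_combination hαγ
    · rw [hx]
      simp only [ee, Pi.single_eq_of_ne hrs, zero_add, hα, hγ]
      field_simp; ring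
  · push Not at hex
    obtain ⟨β, hβ0, hβ⟩ := exists_unit_avoid hq ({1, 2⁻¹} : Finset F)
      (lt_of_le_of_lt (Nat.add_le_add_right Finset.card_le_two 1) (by omega))
    simp only [Finset.mem_insert, Finset.mem_singleton, not_or] at hβ
    have hb1 : β - 1 ≠ 0 := sub_ne_zero.2 hβ.1
    have hx := hx3 (Units.mk0 β hβ0) (Units.mk0 β hβ0)
    simp only [Units.val_mk0] at hx
    have hzj0 : app (g * dg (d3 (Units.mk0 β hβ0) (Units.mk0 β hβ0)) * g⁻¹) (ee s0) (zc j) ≠ 0 := by
      rw [hx, hAzj]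
      simp only [ee, Pi.single_eq_of_ne hzjs, mul_zero, zero_add]
      exact mul_ne_zero hb1 (hB0 _ hjl)
    have hzl0 : app (g * dg (d3 (Units.mk0 β hβ0) (Units.mk0 β hβ0)) * g⁻¹) (ee s0) (zc l) ≠ 0 := by
      rw [hx, hBzl]
      simp only [ee, Pi.single_eq_of_ne hzls, mul_zero, zero_add, add_zero]
      exact mul_ne_zero hb1 (hA0 _ hjl.symm)
    refine bad (mul_mem (mul_mem hg (hd3 (Units.mk0 β hβ0) (Units.mk0 β hβ0))) (inv_mem hg))
      s0 (zc j) (zc l) hjl hzj0 hzl0 ?_
    by_cases h2 : (2 : F) = 0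
    · right
      obtain ⟨a, ha⟩ := exists_notMem_of_card_lt (s := ({s0, zc j, zc l} : Finset ι))
        (lt_of_le_of_lt Finset.card_le_three (by omega))
      obtain ⟨b, hb⟩ := exists_notMem_of_card_lt (s := insert a ({s0, zc j, zc l} : Finset ι))
        (lt_of_le_of_lt (Finset.card_insert_le _ _)
          (lt_of_le_of_lt (Nat.add_le_add_right Finset.card_le_three 1) (by omega)))
      simp only [Finset.mem_insert, Finset.mem_singleton, not_or] at ha hb
      refine ⟨a, b, Ne.symm hb.1, ?_, ?_⟩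
      · rw [hx, hex a ha.1 ha.2.1 ha.2.2]
        simp only [ee, Pi.single_eq_of_ne ha.1, zero_add]
        linear_combination ((β - 1) * B a) * h2
      · rw [hx, hex b hb.2.1 hb.2.2.1 hb.2.2.2]
        simp only [ee, Pi.single_eq_of_ne hb.2.1, zero_add]
        linear_combination ((β - 1) * B b) * h2
    · left
      intro k
      by_cases hks : k = s0
      · subst hks
        rw [hx, hAs, hBs]
        simp only [ee, Pi.single_eq_same]
        intro e
        apply hβ.2
        field_simp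
        linear_combination e
      · by_cases hkj : k = zc j
        · subst hkj; exact hzj0
        by_cases hkl : k = zc l
        · subst hkl; exact hzl0
        rw [hx, hex k hks hkj hkl]
        simp only [ee, Pi.single_eq_of_ne hks, zero_add]
        intro e
        exact mul_ne_zero (mul_ne_zero h2 hb1) (hB0 k hkl) (by linear_combination e)

/-- The monomial subgroup of SL is maximal (n ≥ 5, q ≥ 5). -/
theorem sl_le_of_not_mono (hSL : M ≤ Cfsg.Geo.specialLinear ι F) {g : GL ι F} (hg : g ∈ M)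
    (hgm : ¬ IsMono g) : Cfsg.Geo.specialLinear ι F ≤ M := by
  obtain ⟨x, hx, hxm, t, d, hd⟩ := exists_fix hM hn hq hg hgm
  exact sl_le_of_fix hM (by omega) hq hSL hx hxm hd

end Cfsg.Agent.Transvect
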