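/-
Overgroups of the stabiliser of a decomposition into lines, and strictness of decomposition stabilisers.
Main results: `exists_lineBasis`, `sl_le_of_not_line`, `exists_sl_notMem_stab`.
-/
import Cfsg.Agent.Lib.Transvect.Block
import Cfsg.Agent.Lib.Transvect.MonoOvergroup

set_option autoImplicit false
set_option linter.unusedSectionVars false

namespace Cfsg.Agent.Transvect

open Matrix
open scoped MatrixGroups

variable {ι : Type} [Fintype ι] [DecidableEq ι] {F : Type*} [Field F]
  {t m : ℕ} {D : Fin t → Submodule F (ι → F)}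

/-- A change of basis sending the coordinate lines to a decomposition into lines. -/
lemma exists_lineBasis (hD : Cfsg.Geo.IsMDecomposition 1 D) :
    ∃ (e : ι ≃ Fin t) (P : GL ι F), ∀ k, app P (ee k) ∈ D (e k) := by
  have hex : ∀ i, ∃ u ∈ D i, u ≠ 0 := fun i => by
    obtain ⟨u, hu, hu0⟩ := exists_notMem hD (i := i) (W := ⊥) (by rw [finrank_bot]; exact one_pos)
    exact ⟨u, hu, by simpa using hu0⟩
  choose u hu hu0 using hex
  have hli : LinearIndependent F u := hD.indep.linearIndependent D hu hu0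
  have ht : t = Fintype.card ι := by
    refine le_antisymm ?_ (by simpa using card_le_mul hD)
    have := hli.fintype_card_le_finrank
    simpa using this
  let e : ι ≃ Fin t := Fintype.equivFinOfCardEq ht.symm
  let f : (ι → F) →ₗ[F] (ι → F) := Fintype.linearCombination F (u ∘ e)
  have hf : Function.Injective f := by
    rw [← LinearMap.ker_eq_bot]
    refine LinearMap.ker_eq_bot'.2 fun x hx => funext fun k => ?_
    refine Fintype.linearIndependent_iff.1 (hli.comp e e.injective) x ?_ k
    simpa [f, Fintype.linearCombination_apply] using hx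
  obtain ⟨P, hP⟩ := exists_app_eq f hf
  refine ⟨e, P, fun k => ?_⟩
  rw [hP]
  simp only [f, ee, Fintype.linearCombination_apply_single, one_smul, Function.comp_apply]
  exact hu _

variable [Fintype F]

/-- The overgroup theorem for decompositions into lines. -/
theorem sl_le_of_not_line (hD : Cfsg.Geo.IsMDecomposition 1 D) (hn : 5 ≤ Fintype.card ι)
    (hq : 5 ≤ Fintype.card F) {M : Subgroup (GL ι F)}
    (hH : Cfsg.Geo.decompositionStabilizer D ⊓ Cfsg.Geo.specialLinear ι F ≤ M)
    (hSL : M ≤ Cfsg.Geo.specialLinear ι F) {g : GL ι F} (hg : g ∈ M)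
    (hgH : g ∉ Cfsg.Geo.decompositionStabilizer D) : Cfsg.Geo.specialLinear ι F ≤ M := by
  obtain ⟨e, P, hP⟩ := exists_lineBasis hD
  set M' : Subgroup (GL ι F) := M.comap (MulAut.conj P).toMonoidHom with hM'
  have hmem : ∀ x : GL ι F, x ∈ M' ↔ P * x * P⁻¹ ∈ M := fun x => Iff.rfl
  have hdet : ∀ x : GL ι F, P * x * P⁻¹ ∈ Cfsg.Geo.specialLinear ι F ↔
      x ∈ Cfsg.Geo.specialLinear ι F := fun x => by
    simp only [Cfsg.Geo.specialLinear, MonoidHom.mem_ker, map_mul, map_inv]
    rw [mul_comm, ← mul_assoc, inv_mul_cancel, one_mul]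
  have hspan : ∀ k, ∀ x ∈ D (e k), ∃ c : F, x = c • app P (ee k) := fun k x hx => by
    have hne : app P (ee k) ≠ 0 := by
      intro h
      simpa [ee] using (app P).map_eq_zero_iff.1 h
    have h1 : Submodule.span F {app P (ee k)} = D (e k) := by
      refine Submodule.eq_of_le_of_finrank_eq ((Submodule.span_singleton_le_iff_mem _ _).2 (hP k)) ?_
      rw [finrank_span_singleton hne, hD.finrank_eq]
    rw [← h1] at hx
    obtain ⟨c, hc⟩ := Submodule.mem_span_singleton.1 hx
    exact ⟨c, hc.symm⟩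
  have hmono : ∀ x : GL ι F, IsMono x → P * x * P⁻¹ ∈ Cfsg.Geo.decompositionStabilizer D := by
    intro x hx
    obtain ⟨π, c, rfl⟩ := exists_of_isMono hx
    refine BlockMap.mem hD (σ := (e.symm.trans π).trans e) fun i v hv => ?_
    obtain ⟨a, rfl⟩ := hspan (e.symm i) v (by simpa using hv)
    rw [map_smul, map_mul, map_mul, LinearEquiv.mul_apply, LinearEquiv.mul_apply, app_inv_app,
      app_pg_dg_ee, map_smul]
    exact Submodule.smul_mem _ _ (Submodule.smul_mem _ _ (hP _))
  have h' : Cfsg.Geo.specialLinear ι F ≤ M' := by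
    refine sl_le_of_not_mono (M := M') (g := P⁻¹ * g * P) (fun x hx hxS => ?_) hn hq ?_ ?_ ?_
    · exact (hmem x).2 (hH ⟨hmono x hx, (hdet x).2 hxS⟩)
    · exact fun x hx => (hdet x).1 (hSL ((hmem x).1 hx))
    · rw [hmem]; simpa [mul_assoc] using hg
    · intro hc
      apply hgH
      simpa [mul_assoc] using hmono _ hc
  intro x hx
  have h1 : P⁻¹ * x * P ∈ Cfsg.Geo.specialLinear ι F :=
    (hdet _).1 (by simpa [mul_assoc] using hx)
  simpa [mul_assoc] using (hmem _).1 (h' h1)

omit [Fintype F] in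
lemma exists_sl_notMem_stab (hD : Cfsg.Geo.IsMDecomposition m D) :
    ∃ x ∈ Cfsg.Geo.specialLinear ι F, x ∉ Cfsg.Geo.decompositionStabilizer D := by
  have ht := hD.two_le
  let i0 : Fin t := ⟨0, by omega⟩
  let i1 : Fin t := ⟨1, by omega⟩
  have h01 : i0 ≠ i1 := by simp [i0, i1, Fin.ext_iff]
  obtain ⟨a, ha, ha0⟩ := exists_notMem hD (i := i0) (W := ⊥) (by rw [finrank_bot]; exact hD.pos)
  obtain ⟨b, hb, hb0⟩ := exists_notMem hD (i := i1) (W := ⊥) (by rw [finrank_bot]; exact hD.pos)
  obtain ⟨θ, hθ, hθb, -⟩ := exists_blk_dual hD hb hb0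
  have hθa : θ a = 0 := hθ i0 h01 a ha
  refine ⟨tv a θ, tv_mem_sl _ _, fun h => ?_⟩
  obtain ⟨σ, hσ⟩ := exists_blockMap h
  have h1 := hσ i1 b hb
  rw [tv_apply hθa, hθb, one_smul] at h1
  rcases eq_or_ne (σ i1) i0 with he | he
  · have h2 := pr_of_mem_ne hD (i := i1) (he ▸ h01) h1
    rw [map_add, pr_of_mem hD hb, pr_of_mem_ne hD h01 ha, add_zero] at h2
    exact hb0 (by simp [h2])
  · have h2 := pr_of_mem_ne hD (i := i0) he h1
    rw [map_add, pr_of_mem_ne hD h01.symm hb, pr_of_mem hD ha, zero_add] at h2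
    exact ha0 (by simp [h2])

end Cfsg.Agent.Transvect
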