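import Cfsg.Agent.Lib.Orth.NondegTools
import Cfsg.Agent.Lib.Transvect.Basic
import Cfsg.Agent.Lib.PrimeDim.OrthBasic

/-!
# The similarities of a quadratic form are maximal in `SL` (odd characteristic)

An element outside the similarity group conjugates some Eichler element to an element `k` not
preserving `Q`; a commutator of `k` with Eichler elements at a singular vector fixed by `k` is a
transvection, and `Ω` spreads one transvection group to all of them.
-/

set_option autoImplicit false
set_option linter.unusedSectionVars false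

namespace Cfsg.Agent.Transvect.OrthSL

open Cfsg Matrix Module
open QuadraticMap (polar)
open Orth (IsoGrp ap eich HPair perp perpSub wPart)

variable {ι : Type} [Fintype ι] [DecidableEq ι] {F : Type*} [Field F] [Fintype F]
variable {Q : QuadraticForm F (ι → F)}

lemma app_coe (h : IsoGrp Q) (x : ι → F) : app (h : GL ι F) x = ap h x := rfl

variable (hQ : Q.polarBilin.Nondegenerate) (h2 : (2 : F) ≠ 0) (hn : 5 ≤ Fintype.card ι)
include hQ h2 hn

lemma exists_transit {v w : ι → F} (hv : v ≠ 0) (hw : w ≠ 0) (hQvw : Q w = Q v) :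
    ∃ h : IsoGrp Q, h ∈ Omega F ⇑Q ∧ ap h v = w := by
  obtain ⟨h, hh, -, -, e⟩ := Orth.exists_omega_transit (Orth.Good.of_two_ne_zero hQ h2) (W := ⊤)
    (fun x _ hx => let ⟨y, hy⟩ := Orth.exists_polar_ne hQ hx; ⟨y, Submodule.mem_top, hy⟩)
    (by rw [finrank_top, Orth.finrank_space]; omega) Submodule.mem_top hv Submodule.mem_top hw hQvw
  exact ⟨h, hh, e⟩

omit hQ h2 hn in
/-- Two functionals that are non-zero on a submodule have a common non-vanishing point. -/
lemma exists_both {K : Submodule F (ι → F)} {φ ψ : (ι → F) →ₗ[F] F} (h1 : ∃ a ∈ K, φ a ≠ 0)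
    (h2 : ∃ b ∈ K, ψ b ≠ 0) : ∃ y ∈ K, φ y ≠ 0 ∧ ψ y ≠ 0 := by
  obtain ⟨a, ha, ha'⟩ := h1
  obtain ⟨b, hb, hb'⟩ := h2
  by_cases h : ψ a = 0
  · by_cases h' : φ b = 0
    · exact ⟨a + b, K.add_mem ha hb, by rw [map_add, h', add_zero]; exact ha',
        by rw [map_add, h, zero_add]; exact hb'⟩
    · exact ⟨b, hb, h', hb'⟩
  · exact ⟨a, ha, ha', h⟩

omit hQ h2 hn in
/-- A functional vanishing on two kernels is a combination of the two functionals. -/
lemma exists_comb {A B φ : (ι → F) →ₗ[F] F} (h : ∀ y, A y = 0 → B y = 0 → φ y = 0) :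
    ∃ a b : F, φ = a • A + b • B := by
  have := mem_span_of_iInf_ker_le_ker (L := ![A, B]) (K := φ) fun y hy => by
    simp only [Submodule.mem_iInf, LinearMap.mem_ker] at hy
    exact h y (hy 0) (hy 1)
  simp only [Matrix.range_cons, Matrix.range_empty, Set.union_empty, Set.union_singleton,
    Submodule.mem_span_pair] at this
  obtain ⟨b, a, hab⟩ := this
  exact ⟨a, b, by rw [← hab, add_comm]⟩

omit hQ h2 hn in
/-- Singular vectors of a non-degenerate subspace detect every non-zero vector. -/
lemma exists_singular_polar_ne {W : Submodule F (ι → F)}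
    (hW : ∀ x ∈ W, x ≠ 0 → ∃ y ∈ W, polar ⇑Q x y ≠ 0) (hd : 3 ≤ finrank F W) {x : ι → F}
    (hx : x ∈ W) (hx0 : x ≠ 0) : ∃ a ∈ W, Q a = 0 ∧ polar ⇑Q a x ≠ 0 := by
  obtain ⟨⟨a, ha⟩, ha0', hQa⟩ := Forms.exists_singular_of_three_le (Q.comp W.subtype) hd
  replace hQa : Q a = 0 := hQa
  have ha0 : a ≠ 0 := fun h => ha0' (Subtype.ext h)
  by_cases hax : polar ⇑Q a x = 0
  swap
  · exact ⟨a, ha, hQa, hax⟩
  obtain ⟨z, hz, hza, hzx⟩ := exists_both (φ := Q.polarBilin a) (ψ := Q.polarBilin x)
    (hW a ha ha0) (hW x hx hx0)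
  rw [QuadraticMap.polarBilin_apply_apply] at hza hzx
  refine ⟨z + -(Q z / polar ⇑Q a z) • a, W.add_mem hz (W.smul_mem _ ha), ?_, ?_⟩
  · rw [Orth.Q_add, Orth.Q_smul, Orth.pl_smul_right, hQa, Orth.pl_comm Q z a]
    field_simp
    ring
  · rw [Orth.pl_add_left, Orth.pl_smul_left, hax, mul_zero, add_zero, Orth.pl_comm]
    exact hzx

omit h2 in
lemma exists_singular_polar {x : ι → F} (hx0 : x ≠ 0) :
    ∃ a, Q a = 0 ∧ polar ⇑Q a x ≠ 0 := by
  obtain ⟨a, -, h⟩ := exists_singular_polar_ne (Q := Q) (W := ⊤)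
    (fun x _ hx => let ⟨y, hy⟩ := Orth.exists_polar_ne hQ hx; ⟨y, Submodule.mem_top, hy⟩)
    (by rw [finrank_top, Orth.finrank_space]; omega) (Submodule.mem_top (x := x)) hx0
  exact ⟨a, h⟩

variable {M : Subgroup (GL ι F)} (hΩ : Geo.omegaGL ⇑Q ≤ M)
include hΩ

omit h2 in
lemma coe_mem {h : IsoGrp Q} (hh : h ∈ Omega F ⇑Q) : (h : GL ι F) ∈ M :=
  hΩ (Orth.coe_mem_omegaGL.2 hh)

lemma eich_mem (u w : ι → F) : (eich Q u w : GL ι F) ∈ M :=
  hΩ (Orth.eich_mem_omegaGL (Orth.Good.of_two_ne_zero hQ h2) (by omega) u w)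

omit hΩ in
/-- An element that is no similarity moves some singular vector to a non-proportional polar. -/
theorem exists_singular_moved {g : GL ι F}
    (hg : ¬ ∃ c : Fˣ, ∀ v, Q (app g v) = (c : F) * Q v) :
    ∃ u, Q u = 0 ∧ u ≠ 0 ∧
      ∀ c : F, Q.polarBilin (app g u) ∘ₗ (app g).toLinearMap ≠ c • Q.polarBilin u := by
  by_contra! hall
  have h : ∀ u, Q u = 0 → u ≠ 0 → ∃ c : F,
      ∀ y, polar ⇑Q (app g u) (app g y) = c * polar ⇑Q u y := fun u hu hu0 => by
    obtain ⟨c, hc⟩ := hall u hu hu0
    exact ⟨c, fun y => LinearMap.congr_fun hc y⟩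
  choose! c hc using h
  have heq : ∀ u v, Q u = 0 → Q v = 0 → polar ⇑Q u v ≠ 0 → c u = c v := fun u v hu hv hne => by
    have hu0 : u ≠ 0 := fun h => hne (by rw [h, Orth.pl_zero_left])
    have hv0 : v ≠ 0 := fun h => hne (by rw [h, Orth.pl_zero_right])
    have h1 := hc v hv hv0 u
    rw [Orth.pl_comm, hc u hu hu0 v, Orth.pl_comm Q v u] at h1
    exact mul_right_cancel₀ hne h1
  obtain ⟨e, f, hp⟩ := Orth.exists_hpair hQ (by omega)
  have hconst : ∀ v, Q v = 0 → v ≠ 0 → c v = c e := by
    intro v hv hv0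
    by_cases hve : polar ⇑Q v e = 0
    swap
    · exact heq v e hv hp.qe hve
    obtain ⟨z, -, hzv, hze⟩ := exists_both (K := ⊤) (φ := Q.polarBilin v) (ψ := Q.polarBilin e)
      (let ⟨y, hy⟩ := Orth.exists_polar_ne hQ hv0; ⟨y, Submodule.mem_top, hy⟩)
      (let ⟨y, hy⟩ := Orth.exists_polar_ne hQ hp.ne_zero; ⟨y, Submodule.mem_top, hy⟩)
    rw [QuadraticMap.polarBilin_apply_apply] at hzv hze
    set z' := z + -(Q z / polar ⇑Q e z) • e with hz'
    have hQz : Q z' = 0 := by
      rw [hz', Orth.Q_add, Orth.Q_smul, Orth.pl_smul_right, hp.qe, Orth.pl_comm Q z e]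
      field_simp
      ring
    have h1 : polar ⇑Q v z' ≠ 0 := by
      rw [hz', Orth.pl_add_right, Orth.pl_smul_right, hve, mul_zero, add_zero]; exact hzv
    have h2' : polar ⇑Q z' e ≠ 0 := by
      rw [hz', Orth.pl_add_left, Orth.pl_smul_left, Orth.pl_self, hp.qe, mul_zero, mul_zero,
        add_zero, Orth.pl_comm]
      exact hze
    rw [heq v z' hv hQz h1, heq z' e hQz hp.qe h2']
  have hall' : ∀ x y, polar ⇑Q (app g x) (app g y) = c e * polar ⇑Q x y := by
    intro x y
    let φ : (ι → F) →ₗ[F] F :=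
      Q.polarBilin (app g x) ∘ₗ (app g).toLinearMap - c e • Q.polarBilin x
    obtain ⟨w, hw⟩ : ∃ w, Q.polarBilin w = φ := ⟨_, LinearEquiv.apply_symm_apply
      (LinearMap.BilinForm.toDual Q.polarBilin hQ) φ⟩
    have hw0 : w = 0 := by
      by_contra hne
      obtain ⟨a, ha, haw⟩ := exists_singular_polar hQ hn hne
      have ha0 : a ≠ 0 := fun h => haw (by rw [h, Orth.pl_zero_left])
      apply haw
      rw [Orth.pl_comm]
      refine (LinearMap.congr_fun hw a).trans ?_
      simp only [φ, LinearMap.sub_apply, LinearMap.comp_apply, LinearEquiv.coe_coe,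
        LinearMap.smul_apply, QuadraticMap.polarBilin_apply_apply, smul_eq_mul]
      rw [Orth.pl_comm Q (app g x), hc a ha ha0, hconst a ha ha0, Orth.pl_comm Q a x, sub_self]
    have := LinearMap.congr_fun hw y
    rw [hw0, map_zero] at this
    exact sub_eq_zero.1 this.symm
  have hQg : ∀ v, Q (app g v) = c e * Q v := fun v => by
    have := hall' v v
    rw [Orth.pl_self, Orth.pl_self] at this
    exact mul_left_cancel₀ h2 (by linear_combination this)
  have hc0 : c e ≠ 0 := fun h => by
    have := hQg (app g⁻¹ (e + f))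
    rw [app_app_inv, Orth.Q_add, hp.qe, hp.qf, hp.pf, h, zero_mul] at this
    simp at this
  exact hg ⟨Units.mk0 _ hc0, hQg⟩

/-- The commutator trick: a singular vector fixed by `k` carries a transvection group. -/
theorem mem_axes_of_fixed {k : GL ι F} (hk : k ∈ M) {u w : ι → F} (hu : Q u = 0)
    (hku : app k u = u) (hrad : ∀ x, polar ⇑Q (app k x) u = polar ⇑Q x u)
    (huw : polar ⇑Q u w = 0) :
    (Q.polarBilin (app k w) ∘ₗ (app k).toLinearMap - Q.polarBilin w) ∈ axes M u := by
  have hru : ∀ x, polar ⇑Q u (app k x) = polar ⇑Q u x := fun x => by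
    rw [Orth.pl_comm, hrad, Orth.pl_comm]
  have huu : polar ⇑Q u u = 0 := by rw [Orth.pl_self, hu, mul_zero]
  have hukw : polar ⇑Q u (app k w) = 0 := by rw [hru, huw]
  set δ := Q.polarBilin (app k w) ∘ₗ (app k).toLinearMap - Q.polarBilin w with hδ
  have hδu : δ u = 0 := by
    simp only [hδ, LinearMap.sub_apply, LinearMap.comp_apply, LinearEquiv.coe_coe,
      QuadraticMap.polarBilin_apply_apply, hku, hrad, sub_self]
  set d := Q (app k w) - Q w with hd
  let φ : F → ((ι → F) →ₗ[F] F) := fun s => (-s) • δ + (s * s * d) • Q.polarBilin u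
  have hφu : ∀ s, φ s u = 0 := fun s => by
    simp [φ, hδu, huu]
  have hT : ∀ s, tv u (φ s) ∈ M := by
    intro s
    have h₁ : polar ⇑Q u (s • app k w) = 0 := by rw [Orth.pl_smul_right, hukw, mul_zero]
    have h₂ : polar ⇑Q u (-(s • w)) = 0 := by
      rw [Orth.pl_neg_right, Orth.pl_smul_right, huw, mul_zero, neg_zero]
    have heq : k⁻¹ * (eich Q u (s • app k w) : GL ι F) * k * (eich Q u (-(s • w)) : GL ι F) =
        tv u (φ s) := by
      refine gl_ext fun x => (app k).injective ?_
      rw [tv_apply (hφu s), map_mul, map_mul, map_mul, LinearEquiv.mul_apply,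
        LinearEquiv.mul_apply, LinearEquiv.mul_apply, app_app_inv, app_coe, app_coe,
        Orth.eich_ap hu h₁, Orth.eich_ap hu h₂]
      simp only [φ, hδ, hd, map_add, map_sub, map_smul, map_neg, QuadraticMap.map_neg, hku,
        LinearMap.add_apply, LinearMap.sub_apply, LinearMap.smul_apply, LinearMap.comp_apply,
        LinearEquiv.coe_coe, QuadraticMap.polarBilin_apply_apply, smul_eq_mul,
        Orth.Q_smul, Orth.pl_add_right, Orth.pl_sub_right, Orth.pl_smul_left, Orth.pl_smul_right,
        Orth.pl_neg_left, Orth.pl_neg_right, Orth.pl_self Q (app k w), hru, huw, huu,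
        Orth.pl_comm Q (app k w) u]
      module
    rw [← heq]
    exact mul_mem (mul_mem (mul_mem (inv_mem hk) (eich_mem hQ h2 hn hΩ _ _)) hk)
      (eich_mem hQ h2 hn hΩ _ _)
  refine ⟨hδu, fun c => ?_⟩
  have h := mul_mem (hT (-(c / 2))) (inv_mem (hT (c / 2)))
  rw [tv_inv (hφu _), ← tv_add (hφu _) (by simp [hφu])] at h
  convert h using 2
  refine LinearMap.ext fun x => ?_
  simp only [φ, LinearMap.add_apply, LinearMap.neg_apply, LinearMap.smul_apply, smul_eq_mul]
  field_simp
  ring

/-- One transvection at a singular vector gives all of them there. -/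
theorem isFull_of_axis {u z : ι → F} (hu : Q u = 0) (hu0 : u ≠ 0) (hzu : z ∉ F ∙ u)
    (hz : Q.polarBilin z ∈ axes M u) : IsFull M u := by
  set Z : Submodule F (ι → F) := (axes M u).comap Q.polarBilin with hZdef
  have hzZ : z ∈ Z := hz
  have hzu' : polar ⇑Q z u = 0 := hz.1
  have huz : polar ⇑Q u z = 0 := by rw [Orth.pl_comm]; exact hzu'
  have hinv : ∀ h : IsoGrp Q, h ∈ Omega F ⇑Q → ap h u = u → ∀ y ∈ Z, ap h y ∈ Z := by
    intro h hh hhu y hy
    have h1 := axes_conj (coe_mem hQ hn hΩ hh) (v := u) hy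
    rw [app_coe, hhu] at h1
    show Q.polarBilin (ap h y) ∈ axes M u
    convert h1 using 1
    refine LinearMap.ext fun x => ?_
    show polar ⇑Q (ap h y) x = polar ⇑Q y (app (h : GL ι F)⁻¹ x)
    rw [show app (h : GL ι F)⁻¹ x = ap h⁻¹ x from rfl, ← Orth.polar_ap h y, Orth.ap_ap_inv]
  have hGood := Orth.Good.of_two_ne_zero hQ h2
  have heg : ∀ y, eich Q u y ∈ Omega F ⇑Q := fun y =>
    Orth.coe_mem_omegaGL.1 (Orth.eich_mem_omegaGL hGood (by omega) u y)
  have huu : polar ⇑Q u u = 0 := by rw [Orth.pl_self, hu, mul_zero]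
  -- `u ∈ Z`
  have huZ : u ∈ Z := by
    obtain ⟨y, -, huy, hzy⟩ := Orth.exists_sep (Q := Q) (W := ⊤)
      (fun x _ hx => let ⟨y, hy⟩ := Orth.exists_polar_ne hQ hx; ⟨y, Submodule.mem_top, hy⟩)
      (Submodule.mem_top (x := z)) (Submodule.mem_top (x := u)) hu0 hzu
    have hfix : ap (eich Q u y) u = u := by
      rw [Orth.eich_ap hu huy, huu, Orth.pl_comm Q y u, huy]; simp
    have h1 := Z.sub_mem hzZ (hinv _ (heg y) hfix z hzZ)
    rw [Orth.eich_ap hu huy, huz, zero_smul, add_zero, mul_zero, add_zero, sub_sub_cancel] at h1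
    exact (Z.smul_mem_iff (by rw [Orth.pl_comm]; exact hzy)).1 h1
  obtain ⟨f, hp⟩ := Orth.exists_hpair_left hQ hu hu0
  have hW : ∀ x ∈ perp Q u f, x ≠ 0 → ∃ y ∈ perp Q u f, polar ⇑Q x y ≠ 0 := fun x hx hx0 =>
    hp.perp_nondeg hQ hx hx0
  have hd : 3 ≤ finrank F (perp Q u f) := by
    have := Orth.card_le_finrank_perp (Q := Q) u f; omega
  set z0 := wPart Q u f z with hz0def
  have hz0 : z0 ∈ perp Q u f := hp.wPart_mem z
  have hz0Z : z0 ∈ Z := by
    have e : z0 = z - polar ⇑Q f z • u := by
      simp only [hz0def, Orth.wPart, huz, zero_smul, sub_zero]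
    rw [e]; exact Z.sub_mem hzZ (Z.smul_mem _ huZ)
  have hz00 : z0 ≠ 0 := fun h => hzu (Submodule.mem_span_singleton.2 ⟨polar ⇑Q f z, by
    simp only [hz0def, Orth.wPart, huz, zero_smul, sub_zero, sub_eq_zero] at h
    exact h.symm⟩)
  have huW : u ∈ perpSub Q (perp Q u f) := Orth.mem_perpSub.2 fun x hx => by
    rw [Orth.pl_comm]; exact (Orth.mem_perp.1 hx).1
  have hWZ : perp Q u f ≤ Z := by
    -- `Z` meets the perp of the pair in an invariant subspace, hence contains it
    obtain ⟨a, ha, hQa, haz⟩ := exists_singular_polar_ne hW (by omega) hz0 hz00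
    have ha0 : a ≠ 0 := fun h => haz (by rw [h, Orth.pl_zero_left])
    have hua : polar ⇑Q a u = 0 := by rw [Orth.pl_comm]; exact (Orth.mem_perp.1 ha).1
    have step : ∀ b ∈ perp Q u f, polar ⇑Q a b = 0 →
        (polar ⇑Q a z0 • b - polar ⇑Q b z0 • a ∈ Z) ∧ (Q b * polar ⇑Q a z0) • a ∈ Z := by
      intro b hb hab
      have key : ∀ s : F, s • (polar ⇑Q a z0 • b - polar ⇑Q b z0 • a) -
          (s * s * (Q b * polar ⇑Q a z0)) • a ∈ Z := by
        intro s
        have hs : polar ⇑Q a (s • b) = 0 := by rw [Orth.pl_smul_right, hab, mul_zero]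
        have hsu : polar ⇑Q (s • b) u = 0 := by
          rw [Orth.pl_smul_left, Orth.pl_comm Q b u, (Orth.mem_perp.1 hb).1, mul_zero]
        have hfix : ap (eich Q a (s • b)) u = u := by
          rw [Orth.eich_ap hQa hs, hua, hsu]; simp
        have h1 := Z.sub_mem (hinv _ (Orth.coe_mem_omegaGL.1
          (Orth.eich_mem_omegaGL hGood (by omega) a (s • b))) hfix z0 hz0Z) hz0Z
        rw [Orth.eich_ap hQa hs, Orth.pl_smul_left, Orth.Q_smul] at h1
        convert h1 using 1
        module
      have h1 := key 1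
      have h1' := key (-1)
      constructor
      · have h3 := Z.smul_mem (2 : F)⁻¹ (Z.sub_mem h1 h1')
        convert h3 using 1
        match_scalars <;> field_simp <;> ring
      · have h3 := Z.smul_mem (-(2 : F)⁻¹) (Z.add_mem h1 h1')
        convert h3 using 1
        match_scalars <;> field_simp <;> ring
    set S : Submodule F (ι → F) := perp Q u f ⊓ LinearMap.ker (Q.polarBilin a) with hS
    have haS : a ∈ S := ⟨ha, by
      show polar ⇑Q a a = 0
      rw [Orth.pl_self, hQa, mul_zero]⟩
    obtain ⟨b, hb, hQb⟩ : ∃ b ∈ S, Q b ≠ 0 := by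
      by_contra! hall
      obtain ⟨z, hz, haz'⟩ := hW a ha ha0
      have hSS : ∀ s ∈ S, ∀ s' ∈ S, polar ⇑Q s s' = 0 := fun s hs s' hs' => by
        show Q (s + s') - Q s - Q s' = 0
        rw [hall _ (S.add_mem hs hs'), hall _ hs, hall _ hs']; ring
      obtain ⟨s, hs, hsa⟩ : ∃ s ∈ S, s ∉ F ∙ a := by
        by_contra! hle
        have h1 := Submodule.finrank_mono (s := S) (t := F ∙ a) hle
        have h4 := LinearMap.finrank_range_add_finrank_ker (Q.polarBilin a)
        have h5 := Submodule.finrank_le (LinearMap.range (Q.polarBilin a))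
        have h6 := Submodule.finrank_sup_add_finrank_inf_eq (perp Q u f)
          (LinearMap.ker (Q.polarBilin a))
        have h7 := Submodule.finrank_le (perp Q u f ⊔ LinearMap.ker (Q.polarBilin a))
        rw [finrank_span_singleton ha0] at h1
        rw [Orth.finrank_space] at h4 h7
        rw [Module.finrank_self] at h5
        rw [← hS] at h6
        omega
      set s' := s - (polar ⇑Q s z / polar ⇑Q a z) • a with hs'
      have hs'S : s' ∈ S := S.sub_mem hs (S.smul_mem _ haS)
      have hs'z : polar ⇑Q s' z = 0 := by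
        rw [hs', Orth.pl_sub_left, Orth.pl_smul_left, div_mul_cancel₀ _ haz', sub_self]
      obtain ⟨y, hy, hy'⟩ := hW s' hs'S.1 fun h0 => hsa (Submodule.mem_span_singleton.2
        ⟨_, (sub_eq_zero.1 h0).symm⟩)
      apply hy'
      have hyS : y - (polar ⇑Q a y / polar ⇑Q a z) • z ∈ S :=
        ⟨Submodule.sub_mem _ hy (Submodule.smul_mem _ _ hz), by
          show polar ⇑Q a _ = 0
          rw [Orth.pl_sub_right, Orth.pl_smul_right, div_mul_cancel₀ _ haz', sub_self]⟩
      have := hSS s' hs'S _ hyS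
      rwa [Orth.pl_sub_right, Orth.pl_smul_right, hs'z, mul_zero, sub_zero] at this
    have haZ : a ∈ Z :=
      (Z.smul_mem_iff (mul_ne_zero hQb haz)).1 (step b hb.1 hb.2).2
    have hSZ : ∀ b ∈ S, b ∈ Z := fun b hb => by
      have h1 := Z.add_mem (step b hb.1 hb.2).1 (Z.smul_mem (polar ⇑Q b z0) haZ)
      rw [sub_add_cancel] at h1
      exact (Z.smul_mem_iff haz).1 h1
    intro x hx
    have h1 : x - (polar ⇑Q a x / polar ⇑Q a z0) • z0 ∈ S :=
      ⟨Submodule.sub_mem _ hx (Submodule.smul_mem _ _ hz0), by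
        show polar ⇑Q a _ = 0
        rw [Orth.pl_sub_right, Orth.pl_smul_right, div_mul_cancel₀ _ haz, sub_self]⟩
    simpa using Z.add_mem (hSZ _ h1) (Z.smul_mem (polar ⇑Q a x / polar ⇑Q a z0) hz0Z)
  intro φ hφ
  obtain ⟨x, rfl⟩ : ∃ x, Q.polarBilin x = φ := ⟨_, LinearEquiv.apply_symm_apply
    (LinearMap.BilinForm.toDual Q.polarBilin hQ) φ⟩
  show x ∈ Z
  have hxu : polar ⇑Q u x = 0 := by rw [Orth.pl_comm]; exact hφ
  rw [Orth.decomp (Q := Q) u f x, hxu, zero_smul, add_zero]
  exact Z.add_mem (Z.smul_mem _ huZ) (hWZ (hp.wPart_mem x))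

/-- One full singular centre gives all of them. -/
theorem sl_le_of_isFull_singular {u : ι → F} (hu : Q u = 0) (hu0 : u ≠ 0) (h : IsFull M u) :
    Geo.specialLinear ι F ≤ M := by
  obtain ⟨f, hp⟩ := Orth.exists_hpair_left hQ hu hu0
  have htrans : ∀ v w : ι → F, v ≠ 0 → w ≠ 0 → Q w = Q v → IsFull M v → IsFull M w :=
    fun v w hv hw hvw hfull => by
      obtain ⟨g, hg, e⟩ := exists_transit hQ h2 hn hv hw hvw
      have := hfull.conj (coe_mem hQ hn hΩ hg)
      rwa [app_coe, e] at this
  have hf : IsFull M f := htrans u f hu0 hp.swap.ne_zero (by rw [hp.qf, hu]) h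
  have hff : Q.polarBilin f f = 0 := by
    rw [QuadraticMap.polarBilin_apply_apply, Orth.pl_self, hp.qf, mul_zero]
  refine sl_le_of_isFull M fun v hv => ?_
  have h1 : IsFull M (u + Q v • f) := by
    have hmem : tv f (Q v • Q.polarBilin f) ∈ M := (hf _ hff).2 (Q v)
    have := h.conj hmem
    have e : Q v • Q.polarBilin f u = Q v := by
      rw [QuadraticMap.polarBilin_apply_apply, Orth.pl_comm, hp.pf, smul_eq_mul, mul_one]
    rwa [tv_apply (by rw [LinearMap.smul_apply, hff, smul_zero]), LinearMap.smul_apply, e] at this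
  refine htrans _ v (fun h0 => ?_) hv ?_ h1
  · have := congrArg (polar ⇑Q f) h0
    rw [Orth.pl_add_right, Orth.pl_smul_right, Orth.pl_zero_right, Orth.pl_self, hp.qf,
      Orth.pl_comm Q f u, hp.pf] at this
    simp at this
  · rw [Orth.Q_add, Orth.Q_smul, Orth.pl_smul_right, hu, hp.qf, hp.pf]; ring

/-- An element that is no similarity generates `SL` together with `Ω`. -/
theorem sl_le_of_not_similarity {g : GL ι F} (hgM : g ∈ M)
    (hg : ¬ ∃ c : Fˣ, ∀ v, Q (app g v) = (c : F) * Q v) : Geo.specialLinear ι F ≤ M := by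
  classical
  obtain ⟨u, hu, hu0, hmove⟩ := exists_singular_moved hQ h2 hn hg
  -- the polar form of `Q ∘ g`
  set B : (ι → F) → ((ι → F) →ₗ[F] F) :=
    fun a => Q.polarBilin (app g a) ∘ₗ (app g).toLinearMap with hB
  have hBap : ∀ a b, B a b = polar ⇑Q (app g a) (app g b) := fun a b => rfl
  have hBsymm : ∀ a b, B a b = B b a := fun a b => by rw [hBap, hBap, Orth.pl_comm]
  have hBinj : ∀ a, B a = 0 → a = 0 := fun a ha => by
    by_contra hne
    obtain ⟨y, hy⟩ := Orth.exists_polar_ne hQ (show app g a ≠ 0 from fun h => hne ((app g).map_eq_zero_iff.1 h))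
    exact hy (by simpa [hBap] using LinearMap.congr_fun ha (app g⁻¹ y))
  have hBadd : ∀ a b, B (a + b) = B a + B b := fun a b => LinearMap.ext fun y => by
    rw [LinearMap.add_apply, hBap, hBap, hBap, map_add, Orth.pl_add_left]
  have hBsmul : ∀ (t : F) a, B (t • a) = t • B a := fun t a => LinearMap.ext fun y => by
    rw [LinearMap.smul_apply, hBap, hBap, map_smul, Orth.pl_smul_left, smul_eq_mul]
  have hfinj : ∀ a b, Q.polarBilin a = Q.polarBilin b → a = b := fun a b h =>
    (LinearMap.BilinForm.toDual Q.polarBilin hQ).injective h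
  have hfsurj : ∀ φ : (ι → F) →ₗ[F] F, ∃ a, Q.polarBilin a = φ := fun φ =>
    ⟨_, LinearEquiv.apply_symm_apply (LinearMap.BilinForm.toDual Q.polarBilin hQ) φ⟩
  have huu : polar ⇑Q u u = 0 := by rw [Orth.pl_self, hu, mul_zero]
  -- the three vectors: `x` (with `g x` singular), `w`, and a witness `y`
  obtain ⟨x, w, y, hx0, hQx, hux, hwx, huw, hBxu, hBxw, hBxy, hcub, hL⟩ :
      ∃ x w y, x ≠ 0 ∧ Q (app g x) = 0 ∧ polar ⇑Q u x = 0 ∧ polar ⇑Q w x = 0 ∧
        polar ⇑Q u w = 0 ∧ B x u = 0 ∧ B x w = 0 ∧ B x y = 0 ∧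
        Q w * (polar ⇑Q u y * (polar ⇑Q u y * B w u - polar ⇑Q w y * B u u)) = 0 ∧
        polar ⇑Q u y * B w y - polar ⇑Q w y * B u y ≠ 0 := by
    by_cases hBu : B u u = 0
    · -- take `x = u`
      let L : (ι → F) →ₗ[F] (Fin 2 → F) := LinearMap.pi ![Q.polarBilin u, B u]
      obtain ⟨w, hw, hwu⟩ : ∃ w ∈ LinearMap.ker L, w ∉ F ∙ u := by
        by_contra! hle
        have h1 := Submodule.finrank_mono (s := LinearMap.ker L) (t := F ∙ u) hle
        have h4 := LinearMap.finrank_range_add_finrank_ker L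
        have h5 := Submodule.finrank_le (LinearMap.range L)
        rw [finrank_span_singleton hu0] at h1
        rw [Orth.finrank_space] at h4
        rw [Module.finrank_fin_fun] at h5
        omega
      have hw' : L w = 0 := hw
      have huw : polar ⇑Q u w = 0 := congrFun hw' 0
      have hBuw : B u w = 0 := congrFun hw' 1
      obtain ⟨y, hy, hy1, hy2⟩ := exists_both (K := LinearMap.ker (B u))
        (φ := Q.polarBilin u) (ψ := B w)
        (by
          by_contra! h
          obtain ⟨a, b, hab⟩ := exists_comb (A := B u) (B := B u) (φ := Q.polarBilin u)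
            fun y hy _ => h y hy
          rw [← add_smul] at hab
          have hne : a + b ≠ 0 := fun h0 => by
            obtain ⟨y, hy⟩ := Orth.exists_polar_ne hQ hu0
            exact hy (by simpa [h0] using LinearMap.congr_fun hab y)
          exact hmove (a + b)⁻¹ (by rw [hab, smul_smul, inv_mul_cancel₀ hne, one_smul]))
        (by
          by_contra! h
          obtain ⟨a, b, hab⟩ := exists_comb (A := B u) (B := B u) (φ := B w)
            fun y hy _ => h y hy
          rw [← add_smul] at hab
          refine hwu (Submodule.mem_span_singleton.2 ⟨a + b, ?_⟩)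
          have h0 : B (w + (-(a + b)) • u) = 0 := by
            rw [hBadd, hBsmul, hab]; module
          have := hBinj _ h0
          rw [neg_smul, add_neg_eq_zero] at this
          exact this.symm)
      refine ⟨u, w, y, hu0, ?_, huu, by rw [Orth.pl_comm]; exact huw, huw, hBu, hBuw, hy,
        by rw [hBsymm w u, hBuw, hBu]; ring, ?_⟩
      · rw [hBap, Orth.pl_self, mul_eq_zero] at hBu
        exact hBu.resolve_left h2
      · rw [show B u y = 0 from hy, mul_zero, sub_zero]
        exact mul_ne_zero hy1 hy2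
    · -- `Q (g u) ≠ 0`: `B x` stays outside the span of `f u` and `B u`
      obtain ⟨t0, ht0⟩ : ∃ t0, B t0 = Q.polarBilin u := by
        obtain ⟨z, hz⟩ := hfsurj (Q.polarBilin u ∘ₗ (app g⁻¹).toLinearMap)
        refine ⟨app g⁻¹ z, LinearMap.ext fun y => ?_⟩
        rw [hBap, app_app_inv, ← QuadraticMap.polarBilin_apply_apply, hz, LinearMap.comp_apply,
          LinearEquiv.coe_coe, app_inv_app]
      have ht00 : t0 ≠ 0 := fun h => hu0 (hfinj u 0 (by
        rw [← ht0, h, map_zero]
        exact LinearMap.ext fun y => by simp [hBap]))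
      by_cases hut : polar ⇑Q u t0 = 0
      · -- `x = t0`
        let L : (ι → F) →ₗ[F] (Fin 2 → F) := LinearMap.pi ![Q.polarBilin u, Q.polarBilin t0]
        obtain ⟨w, hw, hwu⟩ : ∃ w ∈ LinearMap.ker L, w ∉ F ∙ u := by
          by_contra! hle
          have h1 := Submodule.finrank_mono (s := LinearMap.ker L) (t := F ∙ u) hle
          have h4 := LinearMap.finrank_range_add_finrank_ker L
          have h5 := Submodule.finrank_le (LinearMap.range L)
          rw [finrank_span_singleton hu0] at h1
          rw [Orth.finrank_space] at h4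
          rw [Module.finrank_fin_fun] at h5
          omega
        have hw' : L w = 0 := hw
        have huw : polar ⇑Q u w = 0 := congrFun hw' 0
        have htw : polar ⇑Q t0 w = 0 := congrFun hw' 1
        have hBt : ∀ y, B t0 y = polar ⇑Q u y := fun y => by
          rw [ht0, QuadraticMap.polarBilin_apply_apply]
        obtain ⟨y, hy, hy1, hy2⟩ := exists_both (K := LinearMap.ker (Q.polarBilin u))
          (φ := Q.polarBilin w) (ψ := B u)
          (by
            by_contra! h
            obtain ⟨a, b, hab⟩ := exists_comb (A := Q.polarBilin u) (B := Q.polarBilin u)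
              (φ := Q.polarBilin w) fun y hy _ => h y hy
            rw [← add_smul, ← map_smul] at hab
            exact hwu (Submodule.mem_span_singleton.2 ⟨a + b, (hfinj _ _ hab).symm⟩))
          (by
            by_contra! h
            obtain ⟨a, b, hab⟩ := exists_comb (A := Q.polarBilin u) (B := Q.polarBilin u)
              (φ := B u) fun y hy _ => h y hy
            rw [← add_smul] at hab
            exact hmove (a + b) hab)
        have hy' : polar ⇑Q u y = 0 := hy
        refine ⟨t0, w, y, ht00, ?_, hut, by rw [Orth.pl_comm]; exact htw, huw,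
          by rw [hBt, huu], by rw [hBt, huw], by rw [hBt, hy'],
          by rw [hy', zero_mul, mul_zero], ?_⟩
        · have h := hBt t0
          rw [hBap, Orth.pl_self, hut, mul_eq_zero] at h
          exact h.resolve_left h2
        · rw [hy', zero_mul, zero_sub, neg_ne_zero]
          exact mul_ne_zero hy1 hy2
      let L : (ι → F) →ₗ[F] (Fin 2 → F) := LinearMap.pi ![Q.polarBilin u, B u]
      have hd : 3 ≤ finrank F (LinearMap.ker L) := by
        have h4 := LinearMap.finrank_range_add_finrank_ker L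
        have h5 := Submodule.finrank_le (LinearMap.range L)
        rw [Orth.finrank_space] at h4
        rw [Module.finrank_fin_fun] at h5
        omega
      obtain ⟨⟨x, hx⟩, hx0', hQx⟩ := Forms.exists_singular_of_three_le
        ((Q.comp (app g).toLinearMap).comp (LinearMap.ker L).subtype) hd
      replace hQx : Q (app g x) = 0 := hQx
      have hx0 : x ≠ 0 := fun h => hx0' (Subtype.ext h)
      have hx' : L x = 0 := hx
      have hux : polar ⇑Q u x = 0 := congrFun hx' 0
      have hBux : B u x = 0 := congrFun hx' 1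
      have hnx : ∀ a b : F, B x ≠ a • Q.polarBilin u + b • B u := by
        intro a b hab
        have hb : b = 0 := by
          have h := LinearMap.congr_fun hab u
          simp only [LinearMap.add_apply, LinearMap.smul_apply, smul_eq_mul,
            QuadraticMap.polarBilin_apply_apply, huu, mul_zero, zero_add] at h
          rw [hBsymm x u, hBux, eq_comm, mul_eq_zero] at h
          exact h.resolve_right hBu
        rw [hb, zero_smul, add_zero, ← ht0, ← hBsmul] at hab
        have h0 : B (x + (-1 : F) • (a • t0)) = 0 := by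
          rw [hBadd, hBsmul, hab]; module
        have := hBinj _ h0
        rw [neg_smul, one_smul, add_neg_eq_zero] at this
        subst this
        have ha : a ≠ 0 := fun h => hx0 (by simp [h])
        rw [Orth.pl_smul_right, mul_eq_zero] at hux
        exact hut (hux.resolve_left ha)
      obtain ⟨t1, ht1⟩ := hfsurj (B x)
      let L' : (ι → F) →ₗ[F] (Fin 3 → F) :=
        LinearMap.pi ![Q.polarBilin u, Q.polarBilin x, B x]
      by_cases hex : ∀ z ∈ LinearMap.ker L', z ∈ Submodule.span F ({u, t1} : Set (ι → F))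
      · -- `w = t1`, which is singular
        have h3 : finrank F (Submodule.span F ({u, t1} : Set (ι → F))) ≤ 2 := by
          have := finrank_span_finset_le_card (R := F) ({u, t1} : Finset (ι → F))
          rw [Finset.coe_insert, Finset.coe_singleton] at this
          exact this.trans Finset.card_le_two
        have h1 := Submodule.finrank_mono (s := LinearMap.ker L') hex
        have ht1x : ∀ c : F, t1 ≠ c • x := fun c hc => by
          let L'' : (ι → F) →ₗ[F] (Fin 2 → F) := LinearMap.pi ![Q.polarBilin u, Q.polarBilin x]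
          have hle : LinearMap.ker L'' ≤ LinearMap.ker L' := fun z hz => by
            have hz' : L'' z = 0 := hz
            have e0 : polar ⇑Q u z = 0 := congrFun hz' 0
            have e1 : polar ⇑Q x z = 0 := congrFun hz' 1
            show L' z = 0
            funext i
            fin_cases i
            · exact e0
            · exact e1
            · show B x z = 0
              rw [← ht1, hc, map_smul, LinearMap.smul_apply, QuadraticMap.polarBilin_apply_apply,
                e1, smul_zero]
          have h6 := Submodule.finrank_mono hle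
          have h4 := LinearMap.finrank_range_add_finrank_ker L''
          have h5 := Submodule.finrank_le (LinearMap.range L'')
          rw [Orth.finrank_space] at h4
          rw [Module.finrank_fin_fun] at h5
          omega
        have heq : LinearMap.ker L' = Submodule.span F ({u, t1} : Set (ι → F)) := by
          refine Submodule.eq_of_le_of_finrank_le hex ?_
          have h4 := LinearMap.finrank_range_add_finrank_ker L'
          have h5 := Submodule.finrank_le (LinearMap.range L')
          rw [Orth.finrank_space] at h4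
          rw [Module.finrank_fin_fun] at h5
          omega
        have ht1L : L' t1 = 0 :=
          (heq.symm ▸ Submodule.subset_span (Set.mem_insert_of_mem _ rfl) : t1 ∈ LinearMap.ker L')
        have hut1 : polar ⇑Q u t1 = 0 := congrFun ht1L 0
        have hxt1 : polar ⇑Q x t1 = 0 := congrFun ht1L 1
        have hBxt1 : B x t1 = 0 := congrFun ht1L 2
        have hQt1 : Q t1 = 0 := by
          have h := hBxt1
          rw [← ht1, QuadraticMap.polarBilin_apply_apply, Orth.pl_self, mul_eq_zero] at h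
          exact h.resolve_left h2
        obtain ⟨y, hy, hy1, hy2⟩ := exists_both (K := LinearMap.ker (B x))
          (φ := Q.polarBilin u) (ψ := B t1)
          (by
            by_contra! h
            obtain ⟨a, b, hab⟩ := exists_comb (A := B x) (B := B x) (φ := Q.polarBilin u)
              fun y hy _ => h y hy
            rw [← add_smul] at hab
            have hne : a + b ≠ 0 := fun h0 => hu0 (hfinj u 0 (by rw [hab, h0, zero_smul, map_zero]))
            exact hnx (a + b)⁻¹ 0 (by
              rw [hab, smul_smul, inv_mul_cancel₀ hne, one_smul, zero_smul, add_zero]))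
          (by
            by_contra! h
            obtain ⟨a, b, hab⟩ := exists_comb (A := B x) (B := B x) (φ := B t1)
              fun y hy _ => h y hy
            rw [← add_smul, ← hBsmul] at hab
            refine ht1x (a + b) ?_
            have h0 : B (t1 + (-1 : F) • ((a + b) • x)) = 0 := by
              rw [hBadd, hBsmul, hab]; module
            have := hBinj _ h0
            rwa [neg_smul, one_smul, add_neg_eq_zero] at this)
        have hy' : polar ⇑Q t1 y = 0 := by
          rw [← QuadraticMap.polarBilin_apply_apply, ht1]; exact hy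
        refine ⟨x, t1, y, hx0, hQx, hux, by rw [Orth.pl_comm]; exact hxt1, hut1,
          by rw [hBsymm]; exact hBux, hBxt1, hy, by rw [hQt1, zero_mul], ?_⟩
        rw [hy', zero_mul, sub_zero]
        exact mul_ne_zero hy1 hy2
      obtain ⟨w, hw, hwu⟩ : ∃ w ∈ LinearMap.ker L', w ∉ Submodule.span F {u, t1} := by
        push Not at hex
        exact hex
      have hw' : L' w = 0 := hw
      have huw : polar ⇑Q u w = 0 := congrFun hw' 0
      have hxw : polar ⇑Q x w = 0 := congrFun hw' 1
      have hBxw : B x w = 0 := congrFun hw' 2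
      obtain ⟨y, hy, hy1, hy2⟩ := exists_both
        (K := LinearMap.ker (B x) ⊓ LinearMap.ker (Q.polarBilin u))
        (φ := Q.polarBilin w) (ψ := B u)
        (by
          by_contra! h
          obtain ⟨a, b, hab⟩ := exists_comb (A := B x) (B := Q.polarBilin u)
            (φ := Q.polarBilin w) fun y h1 h2 => h y ⟨h1, h2⟩
          rw [← ht1, ← map_smul, ← map_smul, ← map_add] at hab
          exact hwu (Submodule.mem_span_pair.2 ⟨b, a, by rw [hfinj _ _ hab, add_comm]⟩))
        (by
          by_contra! h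
          obtain ⟨a, b, hab⟩ := exists_comb (A := B x) (B := Q.polarBilin u)
            (φ := B u) fun y h1 h2 => h y ⟨h1, h2⟩
          have ha : a ≠ 0 := fun h0 => hmove b (by
            rw [h0, zero_smul, zero_add] at hab; exact hab)
          refine hnx (-(b / a)) a⁻¹ ?_
          rw [hab]
          match_scalars <;> field_simp <;> ring)
      refine ⟨x, w, y, hx0, hQx, hux, by rw [Orth.pl_comm]; exact hxw, huw,
        by rw [hBsymm]; exact hBux, hBxw, hy.1,
        by rw [show polar ⇑Q u y = 0 from hy.2, zero_mul, mul_zero], ?_⟩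
      rw [show polar ⇑Q u y = 0 from hy.2, zero_mul, zero_sub, neg_ne_zero]
      exact mul_ne_zero hy1 hy2
  -- one of `±w` gives a non-isometry at `g y`
  have hE : ∀ s : F, ∀ z, app (g * (eich Q u (s • w) : GL ι F) * g⁻¹) (app g z) =
      app g z + (s * polar ⇑Q u z) • app g w -
        (s * polar ⇑Q w z + s * s * Q w * polar ⇑Q u z) • app g u := fun s z => by
    have hs : polar ⇑Q u (s • w) = 0 := by rw [Orth.pl_smul_right, huw, mul_zero]
    rw [map_mul, map_mul, LinearEquiv.mul_apply, LinearEquiv.mul_apply, app_inv_app, app_coe,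
      Orth.eich_ap hu hs, Orth.Q_smul, Orth.pl_smul_left]
    simp only [map_sub, map_add, map_smul]
    module
  obtain ⟨k, hkM, hku, hrad, hky⟩ : ∃ k ∈ M, app k (app g x) = app g x ∧
      (∀ z, polar ⇑Q (app k z) (app g x) = polar ⇑Q z (app g x)) ∧
      polar ⇑Q (app k (app g y)) (app k (app g y)) ≠ polar ⇑Q (app g y) (app g y) := by
    have hk : ∀ s : F, g * (eich Q u (s • w) : GL ι F) * g⁻¹ ∈ M := fun s =>
      mul_mem (mul_mem hgM (eich_mem hQ h2 hn hΩ _ _)) (inv_mem hgM)
    have hfix : ∀ s, app (g * (eich Q u (s • w) : GL ι F) * g⁻¹) (app g x) = app g x := fun s => by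
      rw [hE, hux, hwx]; simp
    have hr : ∀ s z, polar ⇑Q (app (g * (eich Q u (s • w) : GL ι F) * g⁻¹) z) (app g x) =
        polar ⇑Q z (app g x) := fun s z => by
      obtain ⟨z, rfl⟩ := (app g).surjective z
      rw [hE, Orth.pl_sub_left, Orth.pl_add_left, Orth.pl_smul_left, Orth.pl_smul_left,
        ← hBap w x, ← hBap u x, hBsymm w x, hBsymm u x, hBxu, hBxw]
      ring
    by_contra! hall
    have h1 := hall _ (hk 1) (hfix 1) (hr 1)
    have h1' := hall _ (hk (-1)) (hfix (-1)) (hr (-1))
    apply hL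
    rw [hE] at h1 h1'
    simp only [Orth.pl_sub_left, Orth.pl_add_left, Orth.pl_smul_left, Orth.pl_sub_right,
      Orth.pl_add_right, Orth.pl_smul_right, Orth.pl_comm Q (app g y) (app g w),
      Orth.pl_comm Q (app g y) (app g u)] at h1 h1'
    rw [hBap, hBap] at hcub
    rw [hBap, hBap]
    rw [Orth.pl_comm Q (app g u) (app g w)] at h1 h1'
    have h4 : (2 * 2 : F) ≠ 0 := mul_ne_zero h2 h2
    apply mul_left_cancel₀ h4
    linear_combination h1 - h1' + 4 * hcub
  set u1 := app g x with hu1
  have hu10 : u1 ≠ 0 := fun h => hx0 ((app g).map_eq_zero_iff.1 h)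
  have huy : polar ⇑Q u1 (app g y) = 0 := hBxy
  obtain ⟨z, hz⟩ : ∃ z, Q.polarBilin z =
      Q.polarBilin (app k (app g y)) ∘ₗ (app k).toLinearMap - Q.polarBilin (app g y) := hfsurj _
  have hax := mem_axes_of_fixed hQ h2 hn hΩ hkM hQx hku hrad huy
  refine sl_le_of_isFull_singular hQ h2 hn hΩ hQx hu10
    (isFull_of_axis hQ h2 hn hΩ hQx hu10 ?_ (hz ▸ hax))
  intro hmem
  obtain ⟨t, rfl⟩ := Submodule.mem_span_singleton.1 hmem
  have := LinearMap.congr_fun hz (app g y)
  rw [map_smul, LinearMap.smul_apply, QuadraticMap.polarBilin_apply_apply, huy, smul_zero] at this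
  exact hky (sub_eq_zero.1 this.symm)

omit hΩ in
theorem isMaximalIn_similarity :
    Geo.IsMaximalIn (Geo.specialLinear ι F)
      (Geo.quadSimilarityGroup ⇑Q ⊓ Geo.specialLinear ι F) := by
  refine isMaximalIn_of_forall inf_le_right ?_ fun M hHM hMK g hgM hgH => ?_
  · obtain ⟨e, f, hp⟩ := Orth.exists_hpair hQ (by omega)
    refine ⟨tv e (Q.polarBilin e), tv_mem_sl _ _, fun h => ?_⟩
    have hφ : Q.polarBilin e e = 0 := by
      rw [QuadraticMap.polarBilin_apply_apply, Orth.pl_self, hp.qe, mul_zero]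
    obtain ⟨c, hc⟩ := h.1
    have h1 : Q (app (tv e (Q.polarBilin e)) f) = (c : F) * Q f := hc f
    rw [tv_apply hφ, QuadraticMap.polarBilin_apply_apply, hp.pf, one_smul, Orth.Q_add, hp.qe,
      hp.qf, Orth.pl_comm, hp.pf] at h1
    simp at h1
  · refine sl_le_of_not_similarity hQ h2 hn ?_ hgM fun hsim => hgH ⟨hsim, hMK hgM⟩
    intro x hx
    refine hHM ⟨?_, PrimeDim.omega_le_sl hx⟩
    obtain ⟨h, -, rfl⟩ := Orth.mem_omegaGL_iff.1 hx
    exact ⟨1, fun v => by rw [Units.val_one, one_mul]; exact Orth.Q_ap h v⟩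

end Cfsg.Agent.Transvect.OrthSL
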