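import Cfsg.Agent.Lib.Orth.NondegTools
import Cfsg.Agent.Lib.Orth.SingularPair

/-!
# Overgroups of the unitary group inside `Ω`

`J` generates a quadratic field extension with non-trivial adjoint and `Q (J x) = N Q x`. The Eichler
elements `eich v (c (J v))` commute with `J`; one further plane spreads to all of `Ω`.
-/

set_option autoImplicit false
set_option linter.unusedSectionVars false

namespace Cfsg.Agent.Transvect.UnitaryOrth

open Cfsg Matrix Module
open QuadraticMap (polar)
open Orth (IsoGrp ap eich HPair perpSub InR)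

variable {ι : Type} [Fintype ι] [DecidableEq ι] {F : Type*} [Field F]
variable {Q : QuadraticForm F (ι → F)} {J : (ι → F) →ₗ[F] (ι → F)} {T N : F}

/-- The data of a hermitian structure on a quadratic space. -/
structure Herm (Q : QuadraticForm F (ι → F)) (J : (ι → F) →ₗ[F] (ι → F)) (T N : F) : Prop where
  nd : Q.polarBilin.Nondegenerate
  card : 10 ≤ Fintype.card ι
  sq : ∀ x, J (J x) = T • J x - N • x
  irr : ∀ t : F, t * t - T * t + N ≠ 0
  adj : ∀ x y, polar ⇑Q (J x) y = T * polar ⇑Q x y - polar ⇑Q x (J y)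
  norm : ∀ x, Q (J x) = N * Q x
  self : ∀ x, polar ⇑Q x (J x) = T * Q x

/-- The span of `v` and `J v`. -/
def line (J : (ι → F) →ₗ[F] (ι → F)) (v : ι → F) : Submodule F (ι → F) :=
  Submodule.span F {v, J v}

lemma mem_line {v x : ι → F} : x ∈ line J v ↔ ∃ s u : F, s • v + u • J v = x :=
  Submodule.mem_span_pair

lemma self_mem (v : ι → F) : v ∈ line J v := Submodule.subset_span (by simp)

lemma J_mem (v : ι → F) : J v ∈ line J v := Submodule.subset_span (by simp)

lemma finrank_line (v : ι → F) : finrank F (line J v) ≤ 2 := by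
  classical
  have h := finrank_span_finset_le_card (R := F) ({v, J v} : Finset (ι → F))
  rw [Finset.coe_insert, Finset.coe_singleton] at h
  exact h.trans Finset.card_le_two

lemma finrank_sup_le (A B : Submodule F (ι → F)) :
    finrank F (A ⊔ B : Submodule F (ι → F)) ≤ finrank F A + finrank F B := by
  have := Submodule.finrank_sup_add_finrank_inf_eq A B
  omega

/-- A subspace invariant under `J`. -/
def Stable (J : (ι → F) →ₗ[F] (ι → F)) (P : Submodule F (ι → F)) : Prop := ∀ x ∈ P, J x ∈ P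

lemma Stable.sup {A B : Submodule F (ι → F)} (hA : Stable J A) (hB : Stable J B) :
    Stable J (A ⊔ B) := by
  intro x hx
  obtain ⟨a, ha, b, hb, rfl⟩ := Submodule.mem_sup.1 hx
  rw [map_add]
  exact Submodule.mem_sup.2 ⟨_, hA a ha, _, hB b hb, rfl⟩

lemma Stable.line_le {P : Submodule F (ι → F)} (hP : Stable J P) {v : ι → F} (hv : v ∈ P) :
    line J v ≤ P := by
  rw [line, Submodule.span_le]
  rintro x (rfl | rfl)
  · exact hv
  · exact hP v hv

variable (hJ : Herm Q J T N)
include hJ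

lemma adjR (x y : ι → F) : polar ⇑Q x (J y) = T * polar ⇑Q x y - polar ⇑Q (J x) y := by
  linear_combination hJ.adj x y

lemma polar_JJ (x y : ι → F) : polar ⇑Q (J x) (J y) = N * polar ⇑Q x y := by
  simp only [QuadraticMap.polar, ← map_add, hJ.norm]; ring

lemma stable_line (v : ι → F) : Stable J (line J v) := by
  intro x hx
  obtain ⟨s, u, rfl⟩ := mem_line.1 hx
  rw [map_add, map_smul, map_smul, hJ.sq]
  exact mem_line.2 ⟨-(u * N), s + u * T, by module⟩

lemma stable_perp {P : Submodule F (ι → F)} (hP : Stable J P) : Stable J (perpSub Q P) := by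
  intro x hx
  refine Orth.mem_perpSub.2 fun w hw => ?_
  rw [adjR hJ, Orth.mem_perpSub.1 hx w hw, Orth.mem_perpSub.1 hx _ (hP w hw)]
  ring

lemma norm_ne {u s : F} (h : u ≠ 0 ∨ s ≠ 0) : s * s + u * s * T + u * u * N ≠ 0 := by
  rcases eq_or_ne u 0 with rfl | hu
  · simpa using h
  · intro h0
    apply hJ.irr (-(s / u))
    field_simp
    linear_combination h0

lemma op_inv (u s : F) (x : ι → F) :
    (s + u * T) • (u • J x + s • x) - u • J (u • J x + s • x) =
      (s * s + u * s * T + u * u * N) • x := by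
  rw [map_add, map_smul, map_smul, hJ.sq]
  module

lemma coef_eq_zero {v : ι → F} (hv : v ≠ 0) {u s : F} (h : u • J v + s • v = 0) :
    u = 0 ∧ s = 0 := by
  by_contra hne
  rw [not_and_or] at hne
  have := op_inv hJ u s v
  rw [h, smul_zero, map_zero, smul_zero, sub_zero] at this
  exact hv ((smul_eq_zero.1 this.symm).resolve_left (norm_ne hJ hne))

lemma mem_line_symm {v x : ι → F} (hx : x ∈ line J v) (hx0 : x ≠ 0) : v ∈ line J x := by
  obtain ⟨s, u, h⟩ := mem_line.1 hx
  rw [add_comm] at h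
  have hne : u ≠ 0 ∨ s ≠ 0 := by
    by_contra! hc
    rw [hc.1, hc.2, zero_smul, zero_smul, add_zero] at h
    exact hx0 h.symm
  have := op_inv hJ u s v
  rw [h] at this
  refine ((line J x).smul_mem_iff (norm_ne hJ hne)).1 ?_
  rw [← this]
  exact (line J x).sub_mem ((line J x).smul_mem _ (self_mem x)) ((line J x).smul_mem _ (J_mem x))

omit hJ in
lemma mem_perp_line {v x : ι → F} :
    x ∈ perpSub Q (line J v) ↔ polar ⇑Q v x = 0 ∧ polar ⇑Q (J v) x = 0 := by
  rw [Orth.mem_perpSub]
  refine ⟨fun h => ⟨h v (self_mem v), h _ (J_mem v)⟩, fun ⟨h1, h2⟩ w hw => ?_⟩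
  obtain ⟨s, u, rfl⟩ := mem_line.1 hw
  rw [Orth.pl_add_left, Orth.pl_smul_left, Orth.pl_smul_left, h1, h2]
  ring

lemma perp_line_comm {v x : ι → F} (h : x ∈ perpSub Q (line J v)) : v ∈ perpSub Q (line J x) := by
  obtain ⟨h1, h2⟩ := mem_perp_line.1 h
  refine mem_perp_line.2 ⟨by rw [Orth.pl_comm]; exact h1, ?_⟩
  rw [Orth.pl_comm, adjR hJ, h1, h2]
  ring

lemma line_singular {v : ι → F} (hv : Q v = 0) {x : ι → F} (hx : x ∈ line J v) : Q x = 0 := by
  obtain ⟨s, u, rfl⟩ := mem_line.1 hx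
  rw [Orth.Q_add, Orth.Q_smul, Orth.Q_smul, Orth.pl_smul_left, Orth.pl_smul_right, hJ.norm, hv,
    hJ.self, hv]
  ring

lemma self_perp_line {v : ι → F} (hv : Q v = 0) : v ∈ perpSub Q (line J v) :=
  Orth.mem_perpSub.2 fun _ hw =>
    OrthAct.polar_eq_zero_of_singular (fun _ h => line_singular hJ hv h) hw (self_mem v)

lemma J_perp_line {v : ι → F} (hv : Q v = 0) : J v ∈ perpSub Q (line J v) :=
  stable_perp hJ (stable_line hJ v) v (self_perp_line hJ hv)

variable [Fintype F]

/-- A singular vector orthogonal to `P`, outside two subspaces. -/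
lemma exists_sing (P A B : Submodule F (ι → F))
    (hd : finrank F P + finrank F (P ⊓ perpSub Q P : Submodule F (ι → F)) + 6 ≤ Fintype.card ι)
    (hA : ¬ perpSub Q P ≤ A) (hB : ¬ perpSub Q P ≤ B) (hRA : P ⊓ perpSub Q P ≤ A)
    (hRB : P ⊓ perpSub Q P ≤ B) : ∃ q ∈ perpSub Q P, Q q = 0 ∧ q ∉ A ∧ q ∉ B := by
  obtain ⟨C0, hC0⟩ := Submodule.exists_isCompl (P ⊓ perpSub Q P)
  set C := perpSub Q P ⊓ C0 with hC
  have hsplit : ∀ y ∈ perpSub Q P, ∃ r ∈ P ⊓ perpSub Q P, ∃ c ∈ C, r + c = y := by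
    intro y hy
    have hy' : y ∈ (P ⊓ perpSub Q P) ⊔ C0 := hC0.sup_eq_top ▸ Submodule.mem_top
    obtain ⟨r, hr, c, hc, rfl⟩ := Submodule.mem_sup.1 hy'
    refine ⟨r, hr, c, ⟨?_, hc⟩, rfl⟩
    have := (perpSub Q P).sub_mem hy hr.2
    rwa [add_sub_cancel_left] at this
  have hCn : ∀ x ∈ C, x ≠ 0 → ∃ y ∈ C, polar ⇑Q x y ≠ 0 := by
    intro x hx hx0
    by_contra! h
    refine hx0 (Submodule.disjoint_def.1 hC0.disjoint x ⟨?_, hx.1⟩ hx.2)
    rw [← Orth.perpSub_perpSub hJ.nd P]
    refine Orth.mem_perpSub.2 fun y hy => ?_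
    obtain ⟨r, hr, c, hc, rfl⟩ := hsplit y hy
    rw [Orth.pl_add_left, Orth.mem_perpSub.1 hx.1 r hr.1, Orth.pl_comm, h c hc, add_zero]
  have hdC : 6 ≤ finrank F C := by
    have h1 := finrank_sup_le (P ⊓ perpSub Q P) C
    have h2 : perpSub Q P ≤ (P ⊓ perpSub Q P) ⊔ C := fun y hy => by
      obtain ⟨r, hr, c, hc, rfl⟩ := hsplit y hy
      exact Submodule.add_mem _ (Submodule.mem_sup_left hr) (Submodule.mem_sup_right hc)
    have h3 := Submodule.finrank_mono h2
    rw [Orth.finrank_perpSub hJ.nd] at h3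
    omega
  have key : ∀ X : Submodule F (ι → F), ¬ perpSub Q P ≤ X → P ⊓ perpSub Q P ≤ X → ¬ C ≤ X :=
    fun X hX hRX hCX => hX fun y hy => by
      obtain ⟨r, hr, c, hc, rfl⟩ := hsplit y hy
      exact X.add_mem (hRX hr) (hCX hc)
  obtain ⟨q, hq, hQq, hqA, hqB⟩ := Orth.exists_norm_avoid hJ.nd hCn (by omega) (key A hA hRA) (key B hB hRB) 0
  exact ⟨q, hq.1, hQq, hqA, hqB⟩

/-- A singular vector orthogonal to `P` and outside `P`. -/
lemma exists_sing_outside (P : Submodule F (ι → F))
    (hd : finrank F P + finrank F (P ⊓ perpSub Q P : Submodule F (ι → F)) + 6 ≤ Fintype.card ι)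
    (hd2 : 2 * finrank F P < Fintype.card ι) : ∃ q ∈ perpSub Q P, Q q = 0 ∧ q ∉ P := by
  have hnot : ¬ perpSub Q P ≤ P := fun h => by
    have := Submodule.finrank_mono h
    rw [Orth.finrank_perpSub hJ.nd] at this
    omega
  obtain ⟨q, h1, h2, h3, -⟩ := exists_sing hJ P P P hd hnot hnot inf_le_left inf_le_left
  exact ⟨q, h1, h2, h3⟩

/-- A singular vector orthogonal to `P` pairing with a vector `z ⊥ P` outside `P`. -/
lemma exists_sing_pairing (P : Submodule F (ι → F))
    (hd : finrank F P + finrank F (P ⊓ perpSub Q P : Submodule F (ι → F)) + 6 ≤ Fintype.card ι)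
    {z : ι → F} (hz : ∀ x ∈ P ⊓ perpSub Q P, polar ⇑Q z x = 0) (hzP : z ∉ P) :
    ∃ q ∈ perpSub Q P, Q q = 0 ∧ polar ⇑Q z q ≠ 0 := by
  have hnot : ¬ perpSub Q P ≤ LinearMap.ker (Q.polarBilin z) := fun h => hzP <| by
    rw [← Orth.perpSub_perpSub hJ.nd P]
    exact Orth.mem_perpSub.2 fun y hy => by rw [Orth.pl_comm]; exact h hy
  obtain ⟨q, h1, h2, h3, -⟩ := exists_sing hJ P _ _ hd hnot hnot hz hz
  exact ⟨q, h1, h2, h3⟩

lemma finrank_two_lines {a b : ι → F} (ha : Q a = 0) (hb : Q b = 0)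
    (hab : b ∉ perpSub Q (line J a)) :
    finrank F (line J a ⊔ line J b : Submodule F (ι → F)) +
      finrank F ((line J a ⊔ line J b) ⊓ perpSub Q (line J a ⊔ line J b) : Submodule F (ι → F)) + 6
        ≤ Fintype.card ι ∧
    2 * finrank F (line J a ⊔ line J b : Submodule F (ι → F)) < Fintype.card ι := by
  have h1 := finrank_sup_le (line J a) (line J b)
  have h2 := finrank_line (J := J) a
  have h3 := finrank_line (J := J) b
  have hz : finrank F ((line J a ⊔ line J b) ⊓ perpSub Q (line J a ⊔ line J b) :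
      Submodule F (ι → F)) = 0 := by
    rw [Submodule.finrank_eq_zero, eq_bot_iff]
    rintro x ⟨hxP, hxp⟩
    obtain ⟨y, hy, z, hz, rfl⟩ := Submodule.mem_sup.1 hxP
    have hz0 : z = 0 := by
      by_contra hz0
      have hza : z ∈ perpSub Q (line J a) := Orth.mem_perpSub.2 fun t ht => by
        have := Orth.mem_perpSub.1 hxp t (Submodule.mem_sup_left ht)
        rw [Orth.pl_add_right, OrthAct.polar_eq_zero_of_singular (fun _ h => line_singular hJ ha h) ht hy,
          zero_add] at this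
        exact this
      exact hab ((stable_perp hJ (stable_line hJ a)).line_le hza (mem_line_symm hJ hz hz0))
    have hy0 : y = 0 := by
      by_contra hy0
      have hyb : y ∈ perpSub Q (line J b) := Orth.mem_perpSub.2 fun t ht => by
        have := Orth.mem_perpSub.1 hxp t (Submodule.mem_sup_right ht)
        rw [hz0, add_zero] at this
        exact this
      exact hab (perp_line_comm hJ
        ((stable_perp hJ (stable_line hJ b)).line_le hyb (mem_line_symm hJ hy hy0)))
    simp [hy0, hz0]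
  have := hJ.card
  omega

lemma finrank_one_line (a : ι → F) :
    finrank F (line J a) + finrank F (line J a ⊓ perpSub Q (line J a) : Submodule F (ι → F)) + 6
      ≤ Fintype.card ι := by
  have h2 := finrank_line (J := J) a
  have h4 := Submodule.finrank_mono (inf_le_left : line J a ⊓ perpSub Q (line J a) ≤ line J a)
  have := hJ.card
  omega

omit [Fintype F] in
lemma good : Orth.Good Q := ⟨hJ.nd, .inr (by have := hJ.card; omega)⟩

/-- A property passing to orthogonal singular lines holds for all singular vectors. -/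
theorem connect {C : (ι → F) → Prop}
    (step : ∀ a b, Q a = 0 → a ≠ 0 → Q b = 0 → b ∈ perpSub Q (line J a) → b ∉ line J a → C a → C b)
    {a c : ι → F} (ha : Q a = 0) (ha0 : a ≠ 0) (hc : Q c = 0) (hc0 : c ≠ 0) (hCa : C a) : C c := by
  have half : ∀ x y, Q x = 0 → x ≠ 0 → Q y = 0 → y ∉ perpSub Q (line J x) → C x → C y := by
    intro x y hx hx0 hy hxy hCx
    obtain ⟨h4, h5⟩ := finrank_two_lines hJ hx hy hxy
    obtain ⟨d, hd, hQd, hdP⟩ := exists_sing_outside hJ (line J x ⊔ line J y) h4 h5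
    have hdx : d ∈ perpSub Q (line J x) :=
      Orth.mem_perpSub.2 fun z hz => Orth.mem_perpSub.1 hd z (Submodule.mem_sup_left hz)
    have hdy : d ∈ perpSub Q (line J y) :=
      Orth.mem_perpSub.2 fun z hz => Orth.mem_perpSub.1 hd z (Submodule.mem_sup_right hz)
    have hd0 : d ≠ 0 := fun h => hdP (h ▸ Submodule.zero_mem _)
    have hy0 : y ≠ 0 := fun h => hxy (h ▸ Submodule.zero_mem _)
    have hCd := step x d hx hx0 hQd hdx (fun h => hdP (Submodule.mem_sup_left h)) hCx
    exact step d y hQd hd0 hy (perp_line_comm hJ hdy)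
      (fun h => hdP (Submodule.mem_sup_right (mem_line_symm hJ h hy0))) hCd
  have hnot : ∀ x : ι → F, x ≠ 0 → ¬ perpSub Q (⊥ : Submodule F (ι → F)) ≤ perpSub Q (line J x) :=
    fun x hx0 h => by
      obtain ⟨z, hz⟩ := Orth.exists_polar_ne hJ.nd hx0
      exact hz (Orth.mem_perpSub.1 (h (Orth.mem_perpSub.2 fun w hw => by
        rw [(Submodule.mem_bot F).1 hw, Orth.pl_zero_left])) x (self_mem x))
  obtain ⟨e, -, hQe, hea, hec⟩ := exists_sing hJ ⊥ (perpSub Q (line J a)) (perpSub Q (line J c))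
    (by rw [bot_inf_eq, finrank_bot]; have := hJ.card; omega) (hnot a ha0) (hnot c hc0)
    (by rw [bot_inf_eq]; exact bot_le) (by rw [bot_inf_eq]; exact bot_le)
  have he0 : e ≠ 0 := fun h => hea (h ▸ Submodule.zero_mem _)
  exact half e c hQe he0 hc (fun h => hec (perp_line_comm hJ h)) (half a e ha ha0 hQe hea hCa)

/-- An element mapping singular lines to singular lines is semilinear. -/
theorem semilinear_of_lines (k : (ι → F) →ₗ[F] (ι → F))
    (hk : ∀ w, Q w = 0 → w ≠ 0 → k w ∈ line J w) :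
    ∃ s u : F, ∀ x, k x = s • x + u • J x := by
  have coef : ∀ v w, Q v = 0 → v ≠ 0 → Q w = 0 → w ∈ perpSub Q (line J v) → w ∉ line J v →
      ∀ s u s' u' : F, k v = s • v + u • J v → k w = s' • w + u' • J w → s = s' ∧ u = u' := by
    intro v w hv hv0 hw hwv hwn s u s' u' h1 h2
    obtain ⟨e1, -⟩ := mem_perp_line.1 hwv
    have hne : v + w ≠ 0 := fun h => hwn (by
      rw [eq_neg_of_add_eq_zero_right h]; exact Submodule.neg_mem _ (self_mem v))
    obtain ⟨p, r, h3⟩ := mem_line.1 (hk (v + w) (by rw [Orth.Q_add, hv, hw, e1]; ring) hne)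
    rw [map_add J, map_add k, h1, h2] at h3
    have e : (r - u') • J w + (p - s') • w = (u - r) • J v + (s - p) • v := by
      rw [← sub_eq_zero] at h3 ⊢
      rw [← h3]
      module
    have hl : (u - r) • J v + (s - p) • v = 0 := by
      by_contra hz
      have hmem : (u - r) • J v + (s - p) • v ∈ line J v :=
        mem_line.2 ⟨_, _, add_comm _ _⟩
      have hmem' : (u - r) • J v + (s - p) • v ∈ line J w :=
        e ▸ mem_line.2 ⟨_, _, add_comm _ _⟩
      exact hwn ((stable_line hJ v).line_le hmem (mem_line_symm hJ hmem' hz))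
    have hw0 : w ≠ 0 := fun h => hwn (h ▸ Submodule.zero_mem _)
    obtain ⟨a1, a2⟩ := coef_eq_zero hJ hv0 hl
    obtain ⟨b1, b2⟩ := coef_eq_zero hJ hw0 (e.trans hl)
    exact ⟨by linear_combination a2 + b2, by linear_combination a1 + b1⟩
  have hco : ∀ w, Q w = 0 → w ≠ 0 → ∃ s u : F, k w = s • w + u • J w := fun w hw hw0 => by
    obtain ⟨s, u, h⟩ := mem_line.1 (hk w hw hw0)
    exact ⟨s, u, h.symm⟩
  obtain ⟨v, hv0, hv⟩ := Forms.exists_singular_of_three_le Q
    (by rw [Orth.finrank_space]; have := hJ.card; omega)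
  obtain ⟨s, u, hsu⟩ := hco v hv hv0
  have hsing : ∀ w, Q w = 0 → k w = s • w + u • J w := by
    intro w hw
    by_cases hw0 : w = 0
    · simp [hw0]
    refine connect hJ (C := fun w => k w = s • w + u • J w) ?_ hv hv0 hw hw0 hsu
    intro a b ha ha0 hb hba hbn h1
    obtain ⟨s1, u1, h2⟩ := hco b hb (fun h => hbn (h ▸ Submodule.zero_mem _))
    obtain ⟨rfl, rfl⟩ := coef a b ha ha0 hb hba hbn s u s1 u1 h1 h2
    exact h2
  refine ⟨s, u, fun x => ?_⟩
  by_cases hx0 : x = 0
  · simp [hx0]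
  obtain ⟨r, -, hr, hxr⟩ := exists_sing_pairing hJ ⊥
    (by rw [bot_inf_eq, finrank_bot]; have := hJ.card; omega)
    (z := x) (fun y hy => by rw [(Submodule.mem_bot F).1 hy.1, Orth.pl_zero_right])
    (by rwa [Submodule.mem_bot])
  set t := Q x / polar ⇑Q x r with ht
  have h1 : Q (x - t • r) = 0 := by
    rw [Orth.Q_sub, Orth.Q_smul, hr, Orth.pl_smul_right, ht, div_mul_cancel₀ _ hxr]; ring
  have h2 := hsing _ h1
  simp only [map_sub, map_smul, hsing r hr] at h2
  rw [sub_eq_iff_eq_add.1 h2]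
  module

variable {M : Subgroup (GL ι F)}
  (hH : ∀ h : IsoGrp Q, h ∈ Omega F ⇑Q → (∀ x, ap h (J x) = J (ap h x)) → (h : GL ι F) ∈ M)
include hH

lemma eJ_mem {v : ι → F} (hv : Q v = 0) (c : F) : (eich Q v (c • J v) : GL ι F) ∈ M := by
  refine hH _ (Orth.coe_mem_omegaGL.1
    (Orth.eich_mem_omegaGL (good hJ) (by have := hJ.card; omega) _ _)) fun x => ?_
  have h0 : polar ⇑Q v (c • J v) = 0 := by rw [Orth.pl_smul_right, hJ.self, hv]; ring
  rw [Orth.eich_ap hv h0, Orth.eich_ap hv h0]
  simp only [map_add, map_sub, map_smul, hJ.sq, Orth.Q_smul, hJ.norm, hv, Orth.pl_smul_left,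
    polar_JJ hJ, adjR hJ v x]
  module

lemma inR_self {a : ι → F} (ha : Q a = 0) : InR Q M a a ∧ InR Q M a (J a) := by
  refine ⟨⟨ha, by rw [Orth.pl_self, ha, mul_zero], fun c => ?_⟩,
    ⟨ha, by rw [hJ.self, ha, mul_zero], fun c => eJ_mem hJ hH ha c⟩⟩
  rw [← zero_add (c • a), Orth.eich_add_smul_self ha (Orth.pl_zero_right Q a), Orth.eich_zero]
  exact M.one_mem

omit hJ hH [Fintype F] in
/-- The second vectors of the planes at `a` in `M`. -/
def planes (Q : QuadraticForm F (ι → F)) (M : Subgroup (GL ι F)) (a : ι → F) (ha : Q a = 0) :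
    Submodule F (ι → F) where
  carrier := {y | InR Q M a y}
  zero_mem' := ⟨ha, Orth.pl_zero_right Q a, fun c => by
    rw [smul_zero, Orth.eich_zero]; exact M.one_mem⟩
  add_mem' := fun h1 h2 => InR.add h1 h2
  smul_mem' := fun c _ h => InR.smul h c

/-- A singular `r ⊥ a` moves a member of the planes at `a` along its line. -/
lemma psi {a r w : ι → F} (ha : Q a = 0) (hw : w ∈ planes Q M a ha) (hr : Q r = 0)
    (hra : r ∈ perpSub Q (line J a)) :
    polar ⇑Q r w • J r - polar ⇑Q (J r) w • r ∈ planes Q M a ha := by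
  set S := planes Q M a ha
  have hfix : ap (eich Q r (J r)) a = a := by
    obtain ⟨e1, e2⟩ := mem_perp_line.1 (perp_line_comm hJ hra)
    rw [Orth.eich_ap hr (by rw [hJ.self, hr, mul_zero]), e1, e2]
    simp
  have hmem : InR Q M (ap (eich Q r (J r)) a) (ap (eich Q r (J r)) w) :=
    InR.map (hw : InR Q M a w) (by have := eJ_mem hJ hH hr 1; rwa [one_smul] at this)
  rw [hfix, Orth.eich_ap hr (by rw [hJ.self, hr, mul_zero]), hJ.norm, hr] at hmem
  have h := S.sub_mem (show _ ∈ S from hmem) hw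
  simp only [mul_zero, zero_mul, add_zero] at h
  rwa [add_sub_assoc, add_sub_cancel_left] at h

/-- Two members pairing independently with the line of `q` give the whole line. -/
lemma line_le_of_det {a q w1 w2 : ι → F} (ha : Q a = 0) (h1 : w1 ∈ planes Q M a ha)
    (h2 : w2 ∈ planes Q M a ha) (hq : Q q = 0) (hqa : q ∈ perpSub Q (line J a))
    (hd : polar ⇑Q q w1 * polar ⇑Q (J q) w2 - polar ⇑Q (J q) w1 * polar ⇑Q q w2 ≠ 0) :
    line J q ≤ planes Q M a ha := by
  set S := planes Q M a ha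
  have m1 := psi hJ hH ha h1 hq hqa
  have m2 := psi hJ hH ha h2 hq hqa
  rw [line, Submodule.span_le]
  rintro x (rfl | rfl)
  · refine (S.smul_mem_iff hd).1 ?_
    convert S.sub_mem (S.smul_mem (polar ⇑Q x w2) m1) (S.smul_mem (polar ⇑Q x w1) m2) using 1
    module
  · refine (S.smul_mem_iff hd).1 ?_
    convert S.sub_mem (S.smul_mem (polar ⇑Q (J q) w2) m1) (S.smul_mem (polar ⇑Q (J q) w1) m2) using 1
    module

/-- A line inside the planes at `a` passes to every singular line not orthogonal to it. -/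
lemma spread {a b q : ι → F} (ha : Q a = 0) (hb : line J b ≤ planes Q M a ha) (hq : Q q = 0)
    (hqa : q ∈ perpSub Q (line J a)) (hqb : q ∉ perpSub Q (line J b)) :
    line J q ≤ planes Q M a ha := by
  refine line_le_of_det hJ hH ha (hb (self_mem b)) (hb (J_mem b)) hq hqa ?_
  set u := polar ⇑Q q b with hu
  set s := polar ⇑Q (J q) b with hs
  have hne : -u ≠ 0 ∨ s ≠ 0 := by
    by_contra! h
    exact hqb (perp_line_comm hJ (mem_perp_line.2 ⟨neg_eq_zero.1 h.1, h.2⟩))
  rw [adjR hJ q b, polar_JJ hJ, ← hu, ← hs]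
  convert norm_ne hJ hne using 1
  ring

/-- One orthogonal plane at `a` gives all of them. -/
theorem planes_of_one {a b : ι → F} (hab : InR Q M a b) (hb : Q b = 0)
    (hba : b ∈ perpSub Q (line J a)) (hbn : b ∉ line J a) :
    ∀ x ∈ perpSub Q (line J a), InR Q M a x := by
  have ha : Q a = 0 := hab.1
  set S := planes Q M a ha
  have hbS : b ∈ S := hab
  have hla : line J a ≤ S := by
    rw [line, Submodule.span_le]
    rintro x (rfl | rfl)
    · exact (inR_self hJ hH ha).1
    · exact (inR_self hJ hH ha).2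
  -- the line of `b`
  have hline : line J b ≤ S := by
    obtain ⟨r, hr, hQr, hbr⟩ := exists_sing_pairing hJ (line J a) (finrank_one_line hJ a) (z := b)
      (fun y hy => by rw [Orth.pl_comm]; exact Orth.mem_perpSub.1 hba y hy.1) hbn
    set u := polar ⇑Q r b with hu
    set s := polar ⇑Q (J r) b with hs
    set w := u • J r - s • r with hw
    have hwS : w ∈ S := psi hJ hH ha hbS hQr hr
    have hwl : w ∈ line J r := (line J r).sub_mem ((line J r).smul_mem _ (J_mem r))
      ((line J r).smul_mem _ (self_mem r))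
    have hQw : Q w = 0 := line_singular hJ hQr hwl
    have hwa : w ∈ perpSub Q (line J a) := (stable_perp hJ (stable_line hJ a)).line_le hr hwl
    have hbw : polar ⇑Q b w = 0 := by
      rw [hw, Orth.pl_sub_right, Orth.pl_smul_right, Orth.pl_smul_right, Orth.pl_comm Q b (J r),
        Orth.pl_comm Q b r, ← hu, ← hs]
      ring
    set X := polar ⇑Q (J b) w with hX
    have hX0 : X ≠ 0 := by
      have hne : -u ≠ 0 ∨ s ≠ 0 := .inl (neg_ne_zero.2 (by rwa [hu, Orth.pl_comm]))
      convert norm_ne hJ hne using 1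
      rw [hX, hw, Orth.pl_sub_right, Orth.pl_smul_right, Orth.pl_smul_right, polar_JJ hJ, hJ.adj,
        Orth.pl_comm Q b (J r), Orth.pl_comm Q b r, ← hu, ← hs]
      ring
    set v0 := X⁻¹ • (J b + w) with hv0
    set P := line J a ⊔ line J b ⊔ line J w with hP
    have ortho : ∀ {v v' : ι → F}, v' ∈ perpSub Q (line J v) → ∀ t ∈ line J v, ∀ t' ∈ line J v',
        polar ⇑Q t t' = 0 := fun {v v'} h t ht t' ht' =>
      Orth.mem_perpSub.1 ((stable_perp hJ (stable_line hJ v)).line_le h ht') t ht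
    have hrad : P ⊓ perpSub Q P ≤ line J a := by
      rintro x ⟨hxP, hxp⟩
      obtain ⟨x1, hx1, t, ht, rfl⟩ := Submodule.mem_sup.1 hxP
      obtain ⟨y, hy, z, hz, rfl⟩ := Submodule.mem_sup.1 hx1
      have ht0 : t = 0 := by
        by_contra ht0
        have htb : t ∈ perpSub Q (line J b) := Orth.mem_perpSub.2 fun c hc => by
          have := Orth.mem_perpSub.1 hxp c (Submodule.mem_sup_left (Submodule.mem_sup_right hc))
          rw [Orth.pl_add_right, Orth.pl_add_right, Orth.pl_comm Q c y, ortho hba y hy c hc,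
            ortho (self_perp_line hJ hb) c hc z hz] at this
          simpa using this
        exact hX0 (Orth.mem_perpSub.1
          ((stable_perp hJ (stable_line hJ b)).line_le htb (mem_line_symm hJ ht ht0)) _ (J_mem b))
      have hz0 : z = 0 := by
        by_contra hz0
        have hzw : z ∈ perpSub Q (line J w) := Orth.mem_perpSub.2 fun c hc => by
          have := Orth.mem_perpSub.1 hxp c (Submodule.mem_sup_right hc)
          rw [ht0, add_zero, Orth.pl_add_right, Orth.pl_comm Q c y, ortho hwa y hy c hc] at this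
          simpa using this
        exact hX0 (Orth.mem_perpSub.1 (perp_line_comm hJ
          ((stable_perp hJ (stable_line hJ w)).line_le hzw (mem_line_symm hJ hz hz0))) _ (J_mem b))
      rw [hz0, ht0, add_zero, add_zero]
      exact hy
    obtain ⟨r2, -, hQ2, hr2⟩ := Orth.exists_quad_affine_rad hJ.nd (W := ⊤) (P := P)
      (fun x _ hx => by
        obtain ⟨y, hy⟩ := Orth.exists_polar_ne hJ.nd hx
        exact ⟨y, trivial, hy⟩) le_top (by
        have l1 := finrank_sup_le (line J a ⊔ line J b) (line J w)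
        have l2 := finrank_sup_le (line J a) (line J b)
        have l3 := finrank_line (J := J) a
        have l4 := finrank_line (J := J) b
        have l5 := finrank_line (J := J) w
        have l6 := Submodule.finrank_mono hrad
        have := hJ.card
        rw [finrank_top, Orth.finrank_space, hP] at *
        omega) (Submodule.mem_top : v0 ∈ ⊤) 0
    have h2a : r2 ∈ perpSub Q (line J a) := Orth.mem_perpSub.2 fun c hc => by
      rw [Orth.pl_comm, hr2 c (Submodule.mem_sup_left (Submodule.mem_sup_left hc)), Orth.pl_comm,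
        hv0, Orth.pl_smul_right, Orth.pl_add_right,
        Orth.mem_perpSub.1 (stable_perp hJ (stable_line hJ a) b hba) c hc,
        Orth.mem_perpSub.1 hwa c hc]
      ring
    have e1 : polar ⇑Q r2 b = 0 := by
      rw [hr2 b (Submodule.mem_sup_left (Submodule.mem_sup_right (self_mem b))), hv0,
        Orth.pl_smul_left, Orth.pl_add_left, Orth.pl_comm Q (J b) b, hJ.self, hb,
        Orth.pl_comm Q w b, hbw]
      ring
    have e2 : polar ⇑Q r2 (J b) = 1 := by
      rw [hr2 (J b) (Submodule.mem_sup_left (Submodule.mem_sup_right (J_mem b))), hv0,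
        Orth.pl_smul_left, Orth.pl_add_left, polar_JJ hJ, Orth.pl_self, hb,
        Orth.pl_comm Q w (J b), ← hX, mul_zero, mul_zero, zero_add, inv_mul_cancel₀ hX0]
    have e3 : polar ⇑Q r2 w = 1 := by
      rw [hr2 w (Submodule.mem_sup_right (self_mem w)), hv0, Orth.pl_smul_left, Orth.pl_add_left,
        ← hX, Orth.pl_self, hQw, mul_zero, add_zero, inv_mul_cancel₀ hX0]
    set w3 := polar ⇑Q r2 w • J r2 - polar ⇑Q (J r2) w • r2 with hw3
    refine line_le_of_det hJ hH ha (psi hJ hH ha hwS hQ2 h2a : w3 ∈ S) hwS hb hba ?_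
    have e4 : polar ⇑Q b w3 = -1 := by
      rw [hw3, Orth.pl_sub_right, Orth.pl_smul_right, Orth.pl_smul_right, e3, adjR hJ b r2,
        Orth.pl_comm Q b r2, Orth.pl_comm Q (J b) r2, e1, e2]
      ring
    rw [e4, hbw, ← hX]
    simpa using hX0
  have hsing : ∀ q, Q q = 0 → q ∈ perpSub Q (line J a) → q ∈ S := by
    intro q hq hqa
    by_cases hql : q ∈ line J a
    · exact hla hql
    have hnot : ∀ x : ι → F, x ∉ line J a → ¬ perpSub Q (line J a) ≤ perpSub Q (line J x) :=
      fun x hx h => hx (by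
        rw [← Orth.perpSub_perpSub hJ.nd (line J a)]
        exact Orth.mem_perpSub.2 fun z hz => by
          rw [Orth.pl_comm]
          exact Orth.mem_perpSub.1 (h hz) x (self_mem x))
    obtain ⟨b2, hb2, hQb2, hb2b, hb2q⟩ := exists_sing hJ (line J a) (perpSub Q (line J b))
      (perpSub Q (line J q)) (finrank_one_line hJ a) (hnot b hbn) (hnot q hql)
      (inf_le_left.trans ((stable_perp hJ (stable_line hJ b)).line_le (perp_line_comm hJ hba)))
      (inf_le_left.trans ((stable_perp hJ (stable_line hJ q)).line_le (perp_line_comm hJ hqa)))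
    exact spread hJ hH ha (spread hJ hH ha hline hQb2 hb2 hb2b) hq hqa
      (fun h => hb2q (perp_line_comm hJ h)) (self_mem q)
  intro x hx
  by_cases hxl : x ∈ line J a
  · exact hla hxl
  obtain ⟨r, hr, hQr, hxr⟩ := exists_sing_pairing hJ (line J a) (finrank_one_line hJ a) (z := x)
    (fun y hy => by rw [Orth.pl_comm]; exact Orth.mem_perpSub.1 hx y hy.1) hxl
  set t := Q x / polar ⇑Q x r with ht
  have h1 : Q (x - t • r) = 0 := by
    rw [Orth.Q_sub, Orth.Q_smul, hQr, Orth.pl_smul_right, ht, div_mul_cancel₀ _ hxr]; ring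
  show x ∈ S
  rw [← sub_add_cancel x (t • r)]
  exact S.add_mem (hsing _ h1 ((perpSub Q _).sub_mem hx ((perpSub Q _).smul_mem t hr)))
    (S.smul_mem t (hsing r hQr hr))

/-- An orthogonal plane at one vector gives the orthogonal planes at every singular vector. -/
theorem planes_all {a b : ι → F} (hab : InR Q M a b) (ha0 : a ≠ 0) (hb : Q b = 0)
    (hba : b ∈ perpSub Q (line J a)) (hbn : b ∉ line J a) :
    ∀ c, Q c = 0 → c ≠ 0 → ∀ x ∈ perpSub Q (line J c), InR Q M c x := by
  intro c hc hc0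
  refine connect hJ (C := fun a => ∀ x ∈ perpSub Q (line J a), InR Q M a x) ?_ hab.1 ha0 hc hc0
    (planes_of_one hJ hH hab hb hba hbn)
  intro a b ha ha0 hb hba hbn h
  have hin := h b hba
  refine planes_of_one hJ hH (hin.symm hb) hin.1 (perp_line_comm hJ hba) fun hm => hbn ?_
  exact mem_line_symm hJ hm ha0

/-- With all orthogonal planes, every singular vector is an Eichler centre. -/
theorem centre_of_planes
    (hall : ∀ c, Q c = 0 → c ≠ 0 → ∀ x ∈ perpSub Q (line J c), InR Q M c x)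
    {a : ι → F} (ha : Q a = 0) (ha0 : a ≠ 0) : a ∈ Orth.eichCentres Q M := by
  have hcard := hJ.card
  have hd1 : finrank F (F ∙ a) + finrank F ((F ∙ a) ⊓ perpSub Q (F ∙ a) : Submodule F (ι → F)) + 6
      ≤ Fintype.card ι := by
    have h1 := finrank_span_singleton (K := F) ha0
    have h2 := Submodule.finrank_mono (inf_le_left : (F ∙ a) ⊓ perpSub Q (F ∙ a) ≤ F ∙ a)
    omega
  have hJa : J a ∉ F ∙ a := by
    intro h
    obtain ⟨t, ht⟩ := Submodule.mem_span_singleton.1 h
    exact one_ne_zero (coef_eq_zero hJ ha0 (u := (1 : F)) (s := -t) (by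
      rw [one_smul, neg_smul, ht, add_neg_cancel])).1
  obtain ⟨y1, hy1, hQy1, hJy1⟩ := exists_sing_pairing hJ (F ∙ a) hd1 (z := J a)
    (fun x hx => by
      obtain ⟨t, rfl⟩ := Submodule.mem_span_singleton.1 hx.1
      rw [Orth.pl_smul_right, Orth.pl_comm, hJ.self, ha]; ring) hJa
  set y := (polar ⇑Q (J a) y1)⁻¹ • y1 with hy
  have hQy : Q y = 0 := by rw [hy, Orth.Q_smul, hQy1, mul_zero]
  have hay : polar ⇑Q a y = 0 := by
    rw [hy, Orth.pl_smul_right, Orth.mem_perpSub.1 hy1 a (Submodule.mem_span_singleton_self a), mul_zero]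
  have hJay : polar ⇑Q (J a) y = 1 := by rw [hy, Orth.pl_smul_right, inv_mul_cancel₀ hJy1]
  have hyn : y ∉ perpSub Q (line J a) := fun h => one_ne_zero
    (hJay.symm.trans (Orth.mem_perpSub.1 h _ (J_mem a)))
  obtain ⟨h4, h5⟩ := finrank_two_lines hJ ha hQy hyn
  obtain ⟨x, hx, hQx, hxP⟩ := exists_sing_outside hJ (line J a ⊔ line J y) h4 h5
  have hx0 : x ≠ 0 := fun h => hxP (h ▸ Submodule.zero_mem _)
  obtain ⟨b1, hb1, hQb1, hxb1⟩ := exists_sing_pairing hJ (line J a ⊔ line J y) h4 (z := x)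
    (fun z hz => by rw [Orth.pl_comm]; exact Orth.mem_perpSub.1 hx z hz.1) hxP
  set b := (polar ⇑Q x b1)⁻¹ • b1 with hb
  have hbP : b ∈ perpSub Q (line J a ⊔ line J y) := Submodule.smul_mem _ _ hb1
  have hxb : polar ⇑Q x b = 1 := by rw [hb, Orth.pl_smul_right, inv_mul_cancel₀ hxb1]
  have hya : polar ⇑Q y a = 0 := by rw [Orth.pl_comm]; exact hay
  have hyb : polar ⇑Q y b = 0 := Orth.mem_perpSub.1 hbP y (Submodule.mem_sup_right (self_mem y))
  have hxa : polar ⇑Q x a = 0 := by
    rw [Orth.pl_comm]; exact Orth.mem_perpSub.1 hx a (Submodule.mem_sup_left (self_mem a))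
  have hyx : y ∈ perpSub Q (line J x) := perp_line_comm hJ
    (Orth.mem_perpSub.2 fun z hz => Orth.mem_perpSub.1 hx z (Submodule.mem_sup_right hz))
  have hba : b ∈ perpSub Q (line J a) :=
    Orth.mem_perpSub.2 fun z hz => Orth.mem_perpSub.1 hbP z (Submodule.mem_sup_left hz)
  have hxy := hall x hQx hx0 y hyx
  have hgM : (eich Q x y : GL ι F) ∈ M := by
    have := hxy.2.2 1
    rwa [one_smul] at this
  have hab := hall a ha ha0 b hba
  have hmap := InR.map hab hgM
  rw [Orth.eich_ap hQx hxy.2.1, Orth.eich_ap hQx hxy.2.1, hxa, hya, hxb, hyb, hQy] at hmap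
  simp only [zero_smul, one_smul, mul_zero, zero_mul, add_zero, sub_zero] at hmap
  have hay' : InR Q M a y := by
    have := hmap.sub hab
    rwa [add_sub_cancel_left] at this
  refine ⟨ha, fun w => ?_⟩
  by_cases hw : polar ⇑Q a w = 0
  · have hmem : w - polar ⇑Q (J a) w • y ∈ perpSub Q (line J a) := mem_perp_line.2
      ⟨by rw [Orth.pl_sub_right, Orth.pl_smul_right, hw, hay, mul_zero, sub_zero],
        by rw [Orth.pl_sub_right, Orth.pl_smul_right, hJay, mul_one, sub_self]⟩
    have h := (hall a ha ha0 _ hmem).add (hay'.smul (polar ⇑Q (J a) w))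
    rw [sub_add_cancel] at h
    have := h.2.2 1
    rwa [one_smul] at this
  · rw [Orth.eich_eq_one fun h => hw h.2]
    exact M.one_mem

/-- An element of `M` outside the normaliser gives all of `Ω`. -/
theorem omega_le_of_not_semilinear {g : IsoGrp Q} (hgM : (g : GL ι F) ∈ M)
    (hns : ¬ ∃ s u : F, ∀ x, ap g (J x) = s • ap g x + u • J (ap g x)) :
    Geo.omegaGL ⇑Q ≤ M := by
  have hcard := hJ.card
  obtain ⟨v, hv, hv0, hvn⟩ : ∃ v, Q v = 0 ∧ v ≠ 0 ∧ ap g (J v) ∉ line J (ap g v) := by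
    by_contra! h
    obtain ⟨s, u, hsu⟩ := semilinear_of_lines hJ (ap g ∘ₗ J ∘ₗ ap g⁻¹) fun w hw hw0 => by
      have := h (ap g⁻¹ w) (by rw [Orth.Q_ap, hw]) (fun h0 => hw0 (by
        rw [← Orth.ap_ap_inv g w, h0, map_zero]))
      rwa [Orth.ap_ap_inv] at this
    exact hns ⟨s, u, fun x => by simpa using hsu (ap g x)⟩
  set a := ap g v with ha_def
  set b := ap g (J v) with hb_def
  have hab : InR Q M a b := (inR_self hJ hH hv).2.map hgM
  have hb : Q b = 0 := by rw [hb_def, Orth.Q_ap, hJ.norm, hv, mul_zero]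
  have ha0 : a ≠ 0 := fun h => hv0 (Orth.ap_inj g (by rw [← ha_def, h, map_zero]))
  obtain ⟨d, hd, hQd, hda, hdn⟩ : ∃ d, InR Q M a d ∧ Q d = 0 ∧ d ∈ perpSub Q (line J a) ∧
      d ∉ line J a := by
    by_cases hJab : polar ⇑Q (J a) b = 0
    · exact ⟨b, hab, hb, mem_perp_line.2 ⟨hab.2.1, hJab⟩, hvn⟩
    obtain ⟨h4, h5⟩ := finrank_two_lines hJ hab.1 hb
      (fun h => hJab (Orth.mem_perpSub.1 h _ (J_mem a)))
    obtain ⟨r, hr, hQr, hrP⟩ := exists_sing_outside hJ (line J a ⊔ line J b) h4 h5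
    have hra : r ∈ perpSub Q (line J a) :=
      Orth.mem_perpSub.2 fun x hx => Orth.mem_perpSub.1 hr x (Submodule.mem_sup_left hx)
    set p := J a + r with hp
    have hpa : p ∈ perpSub Q (line J a) := (perpSub Q _).add_mem (J_perp_line hJ hab.1) hra
    have hQp : Q p = 0 := by
      rw [hp, Orth.Q_add, hJ.norm, hab.1, hQr, Orth.mem_perpSub.1 hra _ (J_mem a)]; ring
    have hu : polar ⇑Q p b ≠ 0 := by
      rw [hp, Orth.pl_add_left, Orth.pl_comm Q r b,
        Orth.mem_perpSub.1 hr b (Submodule.mem_sup_right (self_mem b)), add_zero]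
      exact hJab
    have hpp : polar ⇑Q p (J p) = 0 := by rw [hJ.self, hQp, mul_zero]
    have hpM : (eich Q p (J p) : GL ι F) ∈ M := by
      have := eJ_mem hJ hH hQp 1
      rwa [one_smul] at this
    have hmap := hab.map hpM
    obtain ⟨e1, e2⟩ := mem_perp_line.1 (perp_line_comm hJ hpa)
    rw [Orth.eich_ap hQp hpp, Orth.eich_ap hQp hpp, e1, e2, hJ.norm, hQp] at hmap
    simp only [zero_smul, mul_zero, zero_mul, add_zero, sub_zero] at hmap
    have hd := hmap.sub hab
    rw [add_sub_assoc, add_sub_cancel_left] at hd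
    set d := polar ⇑Q p b • J p - polar ⇑Q (J p) b • p with hd_def
    have hdmem : d ∈ line J p := (line J p).sub_mem ((line J p).smul_mem _ (J_mem p))
      ((line J p).smul_mem _ (self_mem p))
    have hp0 : p ≠ 0 := fun h => hu (by rw [h, Orth.pl_zero_left])
    have hd0 : d ≠ 0 := fun h => hu (coef_eq_zero hJ hp0 (u := polar ⇑Q p b)
      (s := -polar ⇑Q (J p) b) (by rw [neg_smul, ← sub_eq_add_neg]; exact h)).1
    refine ⟨d, hd, line_singular hJ hQp hdmem,
      (stable_perp hJ (stable_line hJ a)).line_le hpa hdmem, fun hdl => hrP (Submodule.mem_sup_left ?_)⟩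
    have hpl : p ∈ line J a := (stable_line hJ a).line_le hdl (mem_line_symm hJ hdmem hd0)
    rw [show r = p - J a by rw [hp, add_sub_cancel_left]]
    exact (line J a).sub_mem hpl (J_mem a)
  have hall := planes_all hJ hH hd ha0 hQd hda hdn
  obtain ⟨e, f, hp⟩ := Orth.exists_hpair hJ.nd (by omega)
  exact Orth.omegaGL_le_of_centres (good hJ) (by omega) (centre_of_planes hJ hH hall hp.qe hp.ne_zero)
    (centre_of_planes hJ hH hall hp.qf hp.swap.ne_zero) (by rw [hp.pf]; exact one_ne_zero)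

omit hH in
/-- Some element of `Ω` is not semilinear. -/
theorem exists_not_semilinear : ∃ g : IsoGrp Q, g ∈ Omega F ⇑Q ∧
    ¬ ∃ s u : F, ∀ x, ap g (J x) = s • ap g x + u • J (ap g x) := by
  have hcard := hJ.card
  obtain ⟨a, ha0, ha⟩ := Forms.exists_singular_of_three_le Q
    (by rw [Orth.finrank_space]; omega)
  have hJa : J a ∉ F ∙ a := by
    intro h
    obtain ⟨t, ht⟩ := Submodule.mem_span_singleton.1 h
    exact one_ne_zero (coef_eq_zero hJ ha0 (u := (1 : F)) (s := -t) (by
      rw [one_smul, neg_smul, ht, add_neg_cancel])).1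
  obtain ⟨y1, hy1, hQy1, hJy1⟩ := exists_sing_pairing hJ (F ∙ a) (by
      have h1 := finrank_span_singleton (K := F) ha0
      have h2 := Submodule.finrank_mono (inf_le_left : (F ∙ a) ⊓ perpSub Q (F ∙ a) ≤ F ∙ a)
      omega) (z := J a)
    (fun x hx => by
      obtain ⟨t, rfl⟩ := Submodule.mem_span_singleton.1 hx.1
      rw [Orth.pl_smul_right, Orth.pl_comm, hJ.self, ha]; ring) hJa
  set y := (polar ⇑Q (J a) y1)⁻¹ • y1 with hy
  have hQy : Q y = 0 := by rw [hy, Orth.Q_smul, hQy1, mul_zero]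
  have hay : polar ⇑Q a y = 0 := by
    rw [hy, Orth.pl_smul_right, Orth.mem_perpSub.1 hy1 a (Submodule.mem_span_singleton_self a), mul_zero]
  have hJay : polar ⇑Q (J a) y = 1 := by rw [hy, Orth.pl_smul_right, inv_mul_cancel₀ hJy1]
  refine ⟨eich Q a y, Orth.coe_mem_omegaGL.1 (Orth.eich_mem_omegaGL (good hJ) (by omega) a y), ?_⟩
  rintro ⟨s, u, h⟩
  have hyn : y ∉ perpSub Q (line J a) := fun h => one_ne_zero
    (hJay.symm.trans (Orth.mem_perpSub.1 h _ (J_mem a)))
  obtain ⟨h4, h5⟩ := finrank_two_lines hJ ha hQy hyn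
  obtain ⟨z, hz, -, hzP⟩ := exists_sing_outside hJ (line J a ⊔ line J y) h4 h5
  have hz0 : z ≠ 0 := fun h => hzP (h ▸ Submodule.zero_mem _)
  have hJz := stable_perp hJ ((stable_line hJ a).sup (stable_line hJ y)) z hz
  have fix : ∀ x ∈ perpSub Q (line J a ⊔ line J y), ap (eich Q a y) x = x := fun x hx => by
    rw [Orth.eich_ap ha hay, Orth.mem_perpSub.1 hx a (Submodule.mem_sup_left (self_mem a)),
      Orth.mem_perpSub.1 hx y (Submodule.mem_sup_right (self_mem y))]
    simp
  have e1 := h z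
  rw [fix z hz, fix _ hJz] at e1
  obtain ⟨hu, hs⟩ := coef_eq_zero hJ hz0 (u := u - 1) (s := s) (by
    rw [sub_smul, one_smul, sub_add_eq_add_sub, add_comm (u • J z), ← e1, sub_self])
  have e2 := h a
  have hga : ap (eich Q a y) a = a := by
    rw [Orth.eich_ap ha hay, Orth.pl_comm Q y a, hay, Orth.pl_self, ha]; simp
  rw [hga, Orth.eich_ap ha hay, hJ.self, ha, Orth.pl_comm Q y (J a), hJay, sub_eq_zero.1 hu, hs] at e2
  simp only [mul_zero, zero_smul, add_zero, one_smul, zero_add] at e2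
  exact ha0 (sub_eq_self.1 e2)

end Cfsg.Agent.Transvect.UnitaryOrth
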