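/-
Overgroups, inside a symplectic group, of the isometries commuting with an anti-self-adjoint J with
J² = d a non-square (the unitary group over the quadratic extension F[J]).
Main results: `orthJ`, `exists_iso_pairing`, `eJ`, `centres_of_not_semilinear`.
-/
import Cfsg.Agent.Lib.Transvect.LagPair

set_option autoImplicit false
set_option linter.unusedSectionVars false

namespace Cfsg.Agent.Transvect

open Matrix
open scoped MatrixGroups

variable {ι : Type} [Fintype ι] [DecidableEq ι] {F : Type*} [Field F]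
  {f : (ι → F) → (ι → F) → F}

lemma st_smul (hf : Cfsg.Geo.IsSymplecticForm f) (v : ι → F) (s c : F) :
    st hf (s • v) c = st hf v (c * s ^ 2) := gl_ext fun x => by
  rw [st_apply, st_apply, hf.bilinear.smul_right, smul_smul]; congr 1; ring_nf

lemma st_inv (hf : Cfsg.Geo.IsSymplecticForm f) (v : ι → F) (c : F) :
    (st hf v c)⁻¹ = st hf v (-c) := by
  refine inv_eq_of_mul_eq_one_right (gl_ext fun x => ?_)
  rw [map_mul, LinearEquiv.mul_apply, st_apply, st_apply, hf.bilinear.add_left, hf.bilinear.smul_left,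
    hf.alternating, map_one]
  simp [add_assoc, ← add_smul]

variable (hf : Cfsg.Geo.IsSymplecticForm f) {J : (ι → F) →ₗ[F] (ι → F)} {d : F}
  (hJ2 : ∀ x, J (J x) = d • x) (hd : ∀ c : F, c * c ≠ d) (hJf : ∀ x y, f (J x) y = - f x (J y))

include hd in
omit [Fintype ι] [DecidableEq ι] in
lemma norm_eq_zero_iff {α β : F} : α * α - d * (β * β) = 0 ↔ α = 0 ∧ β = 0 := by
  constructor
  · intro h
    rcases eq_or_ne β 0 with rfl | hβ
    · simpa using h
    · exfalso
      apply hd (α / β)
      field_simp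
      linear_combination h
  · rintro ⟨rfl, rfl⟩; simp

include hf hJ2 hJf in
lemma form_JJ (x y : ι → F) : f (J x) (J y) = -(d * f x y) := by
  rw [hJf, hJ2, hf.bilinear.smul_right]

include hf hJf in
lemma form_J_symm (x y : ι → F) : f x (J y) = f y (J x) := by
  rw [hf.skew, hJf, neg_neg]

include hf hJ2 hJf in
/-- The value of the symmetric form on a multiple. -/
lemma bJ_scale (α β : F) (u : ι → F) :
    f (α • u + β • J u) (J (α • u + β • J u)) = (α * α - d * (β * β)) * f u (J u) := by
  simp only [map_add, map_smul, hJ2, hf.bilinear.add_left, hf.bilinear.add_right,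
    hf.bilinear.smul_left, hf.bilinear.smul_right, hf.alternating, hJf u u]
  ring

include hf hJ2 hJf in
lemma bJ_cross (α β : F) {u y : ι → F} (h1 : f y u = 0) (h2 : f y (J u) = 0) :
    f (α • u + β • J u + y) (J (α • u + β • J u + y)) =
      (α * α - d * (β * β)) * f u (J u) + f y (J y) := by
  have e1 : f y (J (α • u + β • J u)) = 0 := by
    simp [map_add, map_smul, hJ2, hf.bilinear.add_right, hf.bilinear.smul_right, h1, h2]
  rw [map_add, hf.bilinear.add_left, hf.bilinear.add_right, hf.bilinear.add_right,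
    form_J_symm hf hJf (α • u + β • J u) y, e1, bJ_scale hf hJ2 hJf]
  ring

include hd in
lemma exists_norm [Fintype F] (hodd : Odd (Fintype.card F)) (c : F) :
    ∃ α β : F, α * α - d * (β * β) = c := by
  have hd0 : d ≠ 0 := fun h => hd 0 (by rw [h, mul_zero])
  have h := FiniteField.exists_root_sum_quadratic (R := F)
    (f := Polynomial.X ^ 2 - Polynomial.C c) (g := Polynomial.C (-d) * Polynomial.X ^ 2)
    (Polynomial.degree_X_pow_sub_C (by norm_num) _)
    (by rw [Polynomial.degree_C_mul_X_pow _ (neg_ne_zero.2 hd0)]; rfl) (Nat.odd_iff.1 hodd)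
  obtain ⟨a, b, hab⟩ := h
  refine ⟨a, b, ?_⟩
  simp at hab
  linear_combination hab

/-! ### J-invariant orthogonal spaces -/

/-- The vectors orthogonal to all a i and J (a i). -/
def orthJ {k : ℕ} (a : Fin k → ι → F) : Submodule F (ι → F) :=
  LinearMap.ker (LinearMap.pi fun i => (flin hf.bilinear (a i)).prod (flin hf.bilinear (J (a i))))

lemma mem_orthJ {k : ℕ} {a : Fin k → ι → F} {x : ι → F} :
    x ∈ orthJ hf (J := J) a ↔ ∀ i, f x (a i) = 0 ∧ f x (J (a i)) = 0 := by
  simp [orthJ, funext_iff, Prod.ext_iff]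

include hf hJ2 hJf in
lemma orthJ_J {k : ℕ} {a : Fin k → ι → F} {x : ι → F} (hx : x ∈ orthJ hf (J := J) a) :
    J x ∈ orthJ hf (J := J) a := by
  rw [mem_orthJ] at hx ⊢
  intro i
  exact ⟨by rw [hJf, (hx i).2, neg_zero], by rw [form_JJ hf hJ2 hJf, (hx i).1, mul_zero, neg_zero]⟩

lemma finrank_orthJ {k : ℕ} (a : Fin k → ι → F) :
    Fintype.card ι ≤ Module.finrank F (orthJ hf (J := J) a) + 2 * k := by
  have h1 := LinearMap.finrank_range_add_finrank_ker
    (LinearMap.pi fun i => (flin hf.bilinear (a i)).prod (flin hf.bilinear (J (a i))))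
  have h2 := Submodule.finrank_le (LinearMap.range
    (LinearMap.pi fun i => (flin hf.bilinear (a i)).prod (flin hf.bilinear (J (a i)))))
  rw [Module.finrank_fintype_fun_eq_card] at h1
  simp only [Module.finrank_pi_fintype, Module.finrank_prod, Module.finrank_self, Finset.sum_const,
    Finset.card_univ, Fintype.card_fin, smul_eq_mul] at h2
  unfold orthJ
  omega

include hf hJf hJ2 hd in
lemma exists_bJ_ne_zero (h2 : (2 : F) ≠ 0) {S : Submodule F (ι → F)} (hS : ∀ x ∈ S, J x ∈ S)
    (hdim : Fintype.card ι < 2 * Module.finrank F S) : ∃ y ∈ S, f y (J y) ≠ 0 := by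
  by_contra hc
  push Not at hc
  have hd0 : d ≠ 0 := fun h => hd 0 (by rw [h, mul_zero])
  have hts : ∀ x ∈ S, ∀ y ∈ S, f x y = 0 := fun x hx y hy => by
    have e : ∀ u ∈ S, f x (J u) = 0 := fun u hu => by
      have h1 := hc (x + u) (add_mem hx hu)
      rw [map_add, hf.bilinear.add_left, hf.bilinear.add_right, hf.bilinear.add_right, hc x hx,
        hc u hu, ← form_J_symm hf hJf x u, zero_add, add_zero, ← two_mul] at h1
      exact (mul_eq_zero.1 h1).resolve_left h2
    have h1 := e (J y) (hS y hy)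
    rw [hJ2, hf.bilinear.smul_right] at h1
    exact (mul_eq_zero.1 h1).resolve_left hd0
  have hle : S.map (flin hf.bilinear) ≤ S.dualAnnihilator := by
    rintro _ ⟨y, hy, rfl⟩
    rw [Submodule.mem_dualAnnihilator]
    exact fun x hx => hts x hx y hy
  have h1 := Submodule.finrank_mono hle
  rw [← (Submodule.equivMapOfInjective _ (flin_injective hf.bilinear hf.nondegenerate) S).finrank_eq] at h1
  have h3 := Subspace.finrank_add_finrank_dualAnnihilator_eq S
  rw [Module.finrank_fintype_fun_eq_card] at h3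
  have h4 : Module.finrank F S + Module.finrank F S ≤ Fintype.card ι :=
    le_trans (Nat.add_le_add_left h1 _) h3.le
  omega

variable [Fintype F] (hodd : Odd (Fintype.card F)) (h2 : (2 : F) ≠ 0)

include hf hJf hJ2 hd hodd in
lemma exists_iso {S : Submodule F (ι → F)} (hS : ∀ x ∈ S, J x ∈ S)
    (hdim : 3 ≤ Module.finrank F S) : ∃ w ∈ S, w ≠ 0 ∧ f w (J w) = 0 := by
  obtain ⟨e, he, he0⟩ : ∃ e ∈ S, e ≠ (0 : ι → F) := by
    refine Submodule.exists_mem_ne_zero_of_ne_bot fun h => ?_
    rw [h, finrank_bot] at hdim; omega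
  by_cases hee : f e (J e) = 0
  · exact ⟨e, he, he0, hee⟩
  let Φ : S →ₗ[F] F × F := ((flin hf.bilinear e).prod (flin hf.bilinear (J e))) ∘ₗ S.subtype
  have hk : LinearMap.ker Φ ≠ ⊥ := fun h => by
    have := LinearMap.finrank_le_finrank_of_injective (LinearMap.ker_eq_bot.1 h)
    simp at this; omega
  obtain ⟨y, hy, hy0⟩ := Submodule.exists_mem_ne_zero_of_ne_bot hk
  have hy1 : f y.1 e = 0 := congrArg Prod.fst (hy : Φ y = 0)
  have hy2 : f y.1 (J e) = 0 := congrArg Prod.snd (hy : Φ y = 0)
  obtain ⟨α, β, hN⟩ := exists_norm hd hodd (- f y.1 (J y.1) / f e (J e))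
  refine ⟨α • e + β • J e + y.1, add_mem (add_mem (S.smul_mem _ he) (S.smul_mem _ (hS e he))) y.2,
    fun h0 => ?_, ?_⟩
  · have h4 : f (α • e + β • J e + y.1) (J e) = 0 := by
      rw [h0, ← bl_apply hf, map_zero, LinearMap.zero_apply]
    rw [hf.bilinear.add_left, hf.bilinear.add_left, hf.bilinear.smul_left, hf.bilinear.smul_left,
      hf.alternating, hy2, mul_zero, add_zero, add_zero] at h4
    have hα : α = 0 := (mul_eq_zero.1 h4).resolve_right hee
    have h5 : f (α • e + β • J e + y.1) e = 0 := by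
      rw [h0, ← bl_apply hf, map_zero, LinearMap.zero_apply]
    rw [hf.bilinear.add_left, hf.bilinear.add_left, hf.bilinear.smul_left, hf.bilinear.smul_left,
      hf.alternating, hy1, mul_zero, zero_add, add_zero, hJf e e] at h5
    have hβ : β = 0 := (mul_eq_zero.1 h5).resolve_right (neg_ne_zero.2 hee)
    rw [hα, hβ, zero_smul, zero_smul, zero_add, zero_add] at h0
    exact hy0 (Subtype.ext h0)
  · rw [bJ_cross hf hJ2 hJf α β hy1 hy2, hN, div_mul_cancel₀ _ hee, neg_add_cancel]

include hf hJf hJ2 hd hodd h2 in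
lemma exists_iso_pairing {S : Submodule F (ι → F)} (hS : ∀ x ∈ S, J x ∈ S)
    (hdim : Fintype.card ι + 5 ≤ 2 * Module.finrank F S) {z u : ι → F} (hu : u ∈ S) (hzu : f z u ≠ 0) :
    ∃ w ∈ S, f z w ≠ 0 ∧ f w (J w) = 0 := by
  by_cases huu : f u (J u) = 0
  · exact ⟨u, hu, hzu, huu⟩
  set S' := S ⊓ orthJ hf (J := J) ![u] with hS'
  have h3 := Submodule.finrank_sup_add_finrank_inf_eq S (orthJ hf (J := J) ![u])
  have h4 := finrank_orthJ hf (J := J) ![u]
  have h5 := Submodule.finrank_le (S ⊔ orthJ hf (J := J) ![u])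
  rw [Module.finrank_fintype_fun_eq_card] at h5
  obtain ⟨y, hy, hyy⟩ := exists_bJ_ne_zero hf hJ2 hd hJf h2 (S := S')
    (fun x hx => ⟨hS x hx.1, orthJ_J hf hJ2 hJf hx.2⟩) (by rw [hS']; omega)
  have hy' := (mem_orthJ hf).1 hy.2 0
  simp only [Matrix.cons_val_zero] at hy'
  obtain ⟨α, β, hN⟩ := exists_norm hd hodd (- f u (J u) / f y (J y))
  set y' := α • y + β • J y with hy'def
  have hy'S : y' ∈ S := add_mem (S.smul_mem _ hy.1) (S.smul_mem _ (hS y hy.1))
  have hyb : f y' (J y') = - f u (J u) := by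
    rw [hy'def, bJ_scale hf hJ2 hJf, hN, div_mul_cancel₀ _ hyy]
  have hcr : f y' u = 0 ∧ f y' (J u) = 0 := by
    constructor <;> simp [hy'def, hf.bilinear.add_left, hf.bilinear.smul_left, hJf y, hy'.1, hy'.2,
      hJ2, hf.bilinear.smul_right]
  have hiso : ∀ s : F, s * s = 1 → f (u + s • y') (J (u + s • y')) = 0 := fun s hs => by
    simp only [map_add, map_smul, hf.bilinear.add_left, hf.bilinear.add_right, hf.bilinear.smul_left,
      hf.bilinear.smul_right, form_J_symm hf hJf u y', hcr.2, hyb]
    linear_combination (- f u (J u)) * hs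
  by_cases hp : f z (u + (1 : F) • y') = 0
  · refine ⟨u + (-1 : F) • y', add_mem hu (S.smul_mem _ hy'S), fun hm => hzu ?_, hiso _ (by ring)⟩
    rw [hf.bilinear.add_right, hf.bilinear.smul_right] at hp hm
    have h6 : 2 * f z u = 0 := by linear_combination hp + hm
    exact (mul_eq_zero.1 h6).resolve_left h2
  · exact ⟨u + (1 : F) • y', add_mem hu (S.smul_mem _ hy'S), hp, hiso _ (by ring)⟩

include hf hJf in
lemma exists_pairing {a z : ι → F} (hz : z ∉ Submodule.span F {a, J a}) :
    ∃ u ∈ orthJ hf (J := J) ![a], f z u ≠ 0 := by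
  obtain ⟨θ, hθ, hθz⟩ := exists_dual_eq_one hz
  obtain ⟨u, rfl⟩ := flin_surjective hf.bilinear hf.nondegenerate θ
  refine ⟨u, (mem_orthJ hf).2 fun i => ?_, by rw [← flin_apply hf.bilinear u z, hθz]; exact one_ne_zero⟩
  fin_cases i
  simp only [Matrix.cons_val_zero, Fin.zero_eta]
  have h1 : f a u = 0 := hθ a (Submodule.subset_span (by simp))
  have h3 : f (J a) u = 0 := hθ (J a) (Submodule.subset_span (by simp))
  exact ⟨by rw [hf.skew, h1, neg_zero], by rw [hf.skew, h3, neg_zero]⟩

/-! ### The elements eJ -/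

omit [Fintype F] in
/-- The unitary transvection with isotropic centre v, seen over F. -/
noncomputable def eJ (hf : Cfsg.Geo.IsSymplecticForm f) (J : (ι → F) →ₗ[F] (ι → F)) (d : F)
    (v : ι → F) (c : F) : GL ι F :=
  st hf (J v) c * st hf v (-(c * d))

lemma eJ_isIsom (v : ι → F) (c : F) : IsIsom f (eJ hf J d v c) :=
  (st_isIsom hf _ _).mul (st_isIsom hf _ _)

lemma eJ_apply {v : ι → F} (hv : f v (J v) = 0) (c : F) (x : ι → F) :
    app (eJ hf J d v c) x = x + (c * f x (J v)) • J v - (c * d * f x v) • v := by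
  rw [eJ, map_mul, LinearEquiv.mul_apply, st_apply, st_apply, hf.bilinear.add_left,
    hf.bilinear.smul_left, hv, mul_zero, add_zero]
  funext k
  simp only [Pi.add_apply, Pi.sub_apply, Pi.smul_apply, smul_eq_mul]
  ring

include hf hJ2 hJf in
lemma eJ_comm {v : ι → F} (hv : f v (J v) = 0) (c : F) (x : ι → F) :
    app (eJ hf J d v c) (J x) = J (app (eJ hf J d v c) x) := by
  rw [eJ_apply hf hv, eJ_apply hf hv, map_sub, map_add, map_smul, map_smul, hJ2,
    form_JJ hf hJ2 hJf, hJf x v, smul_smul]
  funext k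
  simp only [Pi.add_apply, Pi.sub_apply, Pi.smul_apply, smul_eq_mul]
  ring

lemma eJ_fix {v x : ι → F} (hv : f v (J v) = 0) (h1 : f x v = 0) (h1' : f x (J v) = 0) (c : F) :
    app (eJ hf J d v c) x = x := by
  rw [eJ_apply hf hv, h1, h1']; simp

/-! ### The overgroup theorem -/

variable {M : Subgroup (GL ι F)}
  (hH : ∀ g : GL ι F, IsIsom f g → (∀ x, app g (J x) = J (app g x)) → g ∈ M)

include hf hH hJ2 hJf in
lemma eJ_mem {v : ι → F} (hv : f v (J v) = 0) (c : F) : eJ hf J d v c ∈ M :=
  hH _ (eJ_isIsom hf v c) (eJ_comm hf hJ2 hJf hv c)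

include hf hJ2 hd hJf hodd h2 in
/-- An isometry mapping each isotropic F[J]-line to such a line commutes or anticommutes with J. -/
lemma semilinear_of_iso_lines (hn : 10 ≤ Fintype.card ι) {g : GL ι F}
    (hv : ∀ v, v ≠ 0 → f v (J v) = 0 → app g⁻¹ (J (app g v)) ∈ Submodule.span F {v, J v}) :
    ∃ s : F, s * s = 1 ∧ ∀ x, app g (J x) = s • J (app g x) := by
  classical
  set k : (ι → F) →ₗ[F] (ι → F) :=
    (app g⁻¹).toLinearMap ∘ₗ J ∘ₗ (app g).toLinearMap with hk
  have hkap : ∀ x, k x = app g⁻¹ (J (app g x)) := fun x => rfl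
  have coef : ∀ v, v ≠ 0 → f v (J v) = 0 → ∃ p : F × F, k v = p.1 • v + p.2 • J v := fun v h0 hv0 => by
    obtain ⟨α, β, h⟩ := Submodule.mem_span_pair.1 (hv v h0 hv0)
    exact ⟨(α, β), h.symm⟩
  -- a test vector for independence
  have test : ∀ v, v ≠ 0 → ∃ y, f v y = 1 ∧ f (J v) y = 0 := fun v h0 => by
    have hns : v ∉ Submodule.span F {J v} := by
      intro h
      obtain ⟨c, hc⟩ := Submodule.mem_span_singleton.1 h
      have h1 := congrArg J hc
      rw [map_smul, hJ2, smul_smul] at h1
      have h2 : (c * d) • (c • J v) = J v := by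
        rw [hc]; exact h1
      rw [smul_smul] at h2
      have hJv : J v ≠ 0 := fun h => h0 (by rw [← hc, h, smul_zero])
      have h3 : c * d * c = 1 := by
        by_contra hne
        have : (c * d * c - 1) • J v = 0 := by rw [sub_smul, one_smul, h2, sub_self]
        exact hne (sub_eq_zero.1 ((smul_eq_zero.1 this).resolve_right hJv))
      have hc0 : c ≠ 0 := fun h => by rw [h] at h3; simp at h3
      exact hd c⁻¹ (by field_simp; linear_combination -h3)
    obtain ⟨θ, hθ, hθv⟩ := exists_dual_eq_one hns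
    obtain ⟨y, rfl⟩ := flin_surjective hf.bilinear hf.nondegenerate θ
    exact ⟨y, hθv, hθ _ (Submodule.mem_span_singleton_self _)⟩
  have indep : ∀ (v y w : ι → F), f v y = 1 → f (J v) y = 0 → f w y = 0 → f w (J y) = 0 →
      ∀ α β α' β' : F, α • v + β • J v + (α' • w + β' • J w) = 0 → α = 0 ∧ β = 0 := by
    intro v y w e1 e2 e3 e4 α β α' β' h
    have h5 := congrArg (fun x => f x y) h
    have h6 := congrArg (fun x => f x (J y)) h
    have hz : ∀ u, f 0 u = 0 := fun u => by rw [← bl_apply hf, map_zero, LinearMap.zero_apply]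
    have e4' : f (J w) y = 0 := by rw [hJf, e4, neg_zero]
    have e5 : f v (J y) = 0 := by rw [← neg_inj, ← hJf, e2, neg_zero]
    simp only [hf.bilinear.add_left, hf.bilinear.smul_left, hz, e1, e2, e3, e4, e4', e5,
      form_JJ hf hJ2 hJf, mul_zero, add_zero, zero_add, mul_one, neg_zero] at h5 h6
    refine ⟨h5, ?_⟩
    have hd0 : d ≠ 0 := fun h => hd 0 (by rw [h, mul_zero])
    have : β * d = 0 := by linear_combination -h6
    exact (mul_eq_zero.1 this).resolve_right hd0
  -- equal coefficients on orthogonal independent isotropic vectors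
  have orth : ∀ v w y z, v ≠ 0 → w ≠ 0 → f v (J v) = 0 → f w (J w) = 0 → f v (J w) = 0 →
      f v y = 1 → f (J v) y = 0 → f w y = 0 → f w (J y) = 0 → f w z = 1 → f (J w) z = 0 →
      f v z = 0 → f v (J z) = 0 →
      ∀ p p' : F × F, k v = p.1 • v + p.2 • J v → k w = p'.1 • w + p'.2 • J w → p = p' := by
    intro v w y z v0 w0 hvv hww hvw a1 a2 a3 a4 b1 b2 b3 b4 p p' hp hp'
    have hs : f (v + w) (J (v + w)) = 0 := by
      rw [map_add, hf.bilinear.add_left, hf.bilinear.add_right, hf.bilinear.add_right, hvv, hww, hvw,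
        form_J_symm hf hJf w v, hvw]
      simp
    have hs0 : v + w ≠ 0 := fun h => by
      have := indep v y w a1 a2 a3 a4 1 0 1 0 (by simpa using h)
      exact one_ne_zero this.1
    obtain ⟨r, hr⟩ := coef _ hs0 hs
    rw [map_add, hp, hp', map_add, smul_add, smul_add] at hr
    obtain ⟨e1, e2⟩ := indep v y w a1 a2 a3 a4 (p.1 - r.1) (p.2 - r.2) (p'.1 - r.1) (p'.2 - r.2) (by
      simp only [sub_smul]
      rw [← sub_eq_zero] at hr
      rw [← hr]; abel)
    obtain ⟨e3, e4⟩ := indep w z v b1 b2 b3 b4 (p'.1 - r.1) (p'.2 - r.2) (p.1 - r.1) (p.2 - r.2) (by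
      simp only [sub_smul]
      rw [← sub_eq_zero] at hr
      rw [← hr]; abel)
    exact Prod.ext ((sub_eq_zero.1 e1).trans (sub_eq_zero.1 e3).symm)
      ((sub_eq_zero.1 e2).trans (sub_eq_zero.1 e4).symm)
  have conn : ∀ v w, v ≠ 0 → w ≠ 0 → f v (J v) = 0 → f w (J w) = 0 → ∀ p p' : F × F,
      k v = p.1 • v + p.2 • J v → k w = p'.1 • w + p'.2 • J w → p = p' := by
    intro v w v0 w0 hvv hww p p' hp hp'
    -- one vector pairing with both
    obtain ⟨⟨yv, hyv⟩, -⟩ := hf.nondegenerate v v0
    obtain ⟨⟨yw, hyw⟩, -⟩ := hf.nondegenerate w w0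
    obtain ⟨t, htv, htw⟩ : ∃ t, f t v ≠ 0 ∧ f t w ≠ 0 := by
      by_cases h1 : f yv w = 0
      · by_cases h3 : f yw v = 0
        · exact ⟨yv + yw, by rw [hf.bilinear.add_left, h3, add_zero]; exact hyv,
            by rw [hf.bilinear.add_left, h1, zero_add]; exact hyw⟩
        · exact ⟨yw, h3, hyw⟩
      · exact ⟨yv, hyv, h1⟩
    obtain ⟨i, hi, i0, hii⟩ := exists_iso hf hJ2 hd hJf hodd (S := orthJ hf (J := J) ![v, w, t])
      (fun x hx => orthJ_J hf hJ2 hJf hx) (by
        have := finrank_orthJ hf (J := J) ![v, w, t]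
        omega)
    rw [mem_orthJ] at hi
    have iv := hi 0
    have iw := hi 1
    have it := hi 2
    simp only [Fin.isValue, Matrix.cons_val] at iv iw it
    -- test vectors orthogonal to i
    have test' : ∀ v, f t v ≠ 0 → ∃ y, f v y = 1 ∧ f (J v) y = 0 ∧ f i y = 0 ∧ f i (J y) = 0 := by
      intro v htv
      have hd0 : d ≠ 0 := fun h => hd 0 (by rw [h, mul_zero])
      have ti : f i t = 0 ∧ f (J i) t = 0 := ⟨it.1, by rw [hJf, it.2, neg_zero]⟩
      have hns : v ∉ Submodule.span F (↑({J v, i, J i} : Finset (ι → F)) : Set (ι → F)) := by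
        intro h
        rw [Finset.coe_insert, Finset.coe_insert, Finset.coe_singleton, Submodule.mem_span_triple] at h
        obtain ⟨a, b, c, h⟩ := h
        have h' := congrArg J h
        rw [map_add, map_add, map_smul, map_smul, map_smul, hJ2, hJ2] at h'
        have e1 := congrArg (fun x => f x t) h
        have e2 := congrArg (fun x => f x t) h'
        simp only [hf.bilinear.add_left, hf.bilinear.smul_left, ti.1, ti.2, mul_zero, add_zero] at e1 e2
        have e3 : (a * a * d - 1) * f v t = 0 := by linear_combination a * e2 + e1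
        have e4 : a * a * d - 1 = 0 := (mul_eq_zero.1 e3).resolve_right
          fun h0 => htv (by rw [hf.skew, h0, neg_zero])
        have ha : a ≠ 0 := fun h => by rw [h] at e4; simp at e4
        exact hd a⁻¹ (by field_simp; linear_combination -e4)
      obtain ⟨θ, hθ, hθv⟩ := exists_dual_eq_one hns
      obtain ⟨y, rfl⟩ := flin_surjective hf.bilinear hf.nondegenerate θ
      refine ⟨y, hθv, hθ (J v) (Submodule.subset_span (by simp)),
        hθ i (Submodule.subset_span (by simp)), ?_⟩
      have e : f (J i) y = 0 := hθ (J i) (Submodule.subset_span (by simp))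
      rw [← neg_inj, ← hJf, e, neg_zero]
    obtain ⟨y, a1, a2, iy1, iy2⟩ := test' v htv
    obtain ⟨z, b1, b2, iz1, iz2⟩ := test' w htw
    obtain ⟨u, c1, c2⟩ := test i i0
    -- the test vector of i is moved orthogonal to v
    obtain ⟨r, hr⟩ := coef i i0 hii
    have key : ∀ v y, v ≠ 0 → f v (J v) = 0 → f v y = 1 → f (J v) y = 0 → f i v = 0 → f i (J v) = 0 →
        f i y = 0 → f i (J y) = 0 → ∀ q : F × F, k v = q.1 • v + q.2 • J v → q = r := by
      intro v y v0 hvv a1 a2 e1 e2 e3 e4 q hq
      have hd0 : d ≠ 0 := fun h => hd 0 (by rw [h, mul_zero])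
      -- u' pairs with i as u and is orthogonal to v
      set u' := u + (-(f v u)) • y + (-(f v (J u)) / d) • J y with hu'
      have eJy : f v (J y) = 0 := by rw [← neg_inj, ← hJf, a2, neg_zero]
      have d1 : f i u' = 1 := by
        simp only [hu', hf.bilinear.add_right, hf.bilinear.smul_right, c1, e3, e4, mul_zero, add_zero]
      have d2 : f (J i) u' = 0 := by
        have e5 : f (J i) y = 0 := by rw [hJf, e4, neg_zero]
        have e6 : f (J i) (J y) = 0 := by rw [form_JJ hf hJ2 hJf, e3, mul_zero, neg_zero]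
        simp only [hu', hf.bilinear.add_right, hf.bilinear.smul_right, c2, e5, e6, mul_zero, add_zero]
      have d3 : f v u' = 0 := by
        simp only [hu', hf.bilinear.add_right, hf.bilinear.smul_right, a1, eJy, mul_zero, add_zero, mul_one,
          add_neg_cancel]
      have d4 : f v (J u') = 0 := by
        simp only [hu', map_add, map_smul, hJ2, hf.bilinear.add_right, hf.bilinear.smul_right, a1, eJy]
        field_simp
        ring
      exact orth v i y u' v0 i0 hvv hii (by rw [form_J_symm hf hJf, e2]) a1 a2 e3 e4 d1 d2 d3 d4 q r hq hr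
    rw [key v y v0 hvv a1 a2 iv.1 iv.2 iy1 iy2 p hp, key w z w0 hww b1 b2 iw.1 iw.2 iz1 iz2 p' hp']
  -- a reference vector
  obtain ⟨v1, -, v10, hv1⟩ := exists_iso hf hJ2 hd hJf hodd (S := ⊤) (fun x _ => Submodule.mem_top)
    (by rw [finrank_top, Module.finrank_fintype_fun_eq_card]; omega)
  obtain ⟨⟨α, β⟩, hp⟩ := coef v1 v10 hv1
  have hiso : ∀ v, f v (J v) = 0 → k v = α • v + β • J v := fun v hvv => by
    by_cases h0 : v = 0
    · subst h0; simp
    obtain ⟨q, hq⟩ := coef v h0 hvv
    rw [hq, conn v v1 h0 v10 hvv hv1 q (α, β) hq hp]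
  have hall : ∀ u, k u = α • u + β • J u := fun u => by
    by_cases huu : f u (J u) = 0
    · exact hiso u huu
    obtain ⟨y, hy, hyy⟩ := exists_bJ_ne_zero hf hJ2 hd hJf h2 (S := orthJ hf (J := J) ![u])
      (fun x hx => orthJ_J hf hJ2 hJf hx) (by
        have := finrank_orthJ hf (J := J) ![u]
        omega)
    have hy' := (mem_orthJ hf).1 hy 0
    simp only [Matrix.cons_val_zero] at hy'
    obtain ⟨a, b, hN⟩ := exists_norm hd hodd (- f u (J u) / f y (J y))
    set y' := a • y + b • J y with hy'def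
    have hyb : f y' (J y') = - f u (J u) := by
      rw [hy'def, bJ_scale hf hJ2 hJf, hN, div_mul_cancel₀ _ hyy]
    have hcr : f y' (J u) = 0 := by
      simp [hy'def, hf.bilinear.add_left, hf.bilinear.smul_left, hJf y, hy'.1, hy'.2, hJ2,
        hf.bilinear.smul_right]
    have hi : ∀ s : F, s * s = 1 → f (u + s • y') (J (u + s • y')) = 0 := fun s hs => by
      simp only [map_add, map_smul, hf.bilinear.add_left, hf.bilinear.add_right, hf.bilinear.smul_left,
        hf.bilinear.smul_right, form_J_symm hf hJf u y', hcr, hyb]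
      linear_combination (- f u (J u)) * hs
    have e1 := hiso _ (hi 1 (by ring))
    have e2 := hiso _ (hi (-1) (by ring))
    have e3 : u = (2 : F)⁻¹ • ((u + (1 : F) • y') + (u + (-1 : F) • y')) := by
      rw [one_smul, neg_one_smul]
      calc u = (2 : F)⁻¹ • ((2 : F) • u) := by rw [smul_smul, inv_mul_cancel₀ h2, one_smul]
        _ = _ := by rw [two_smul]; congr 1; abel
    calc k u = k ((2 : F)⁻¹ • ((u + (1 : F) • y') + (u + (-1 : F) • y'))) := by rw [← e3]
      _ = (2 : F)⁻¹ • ((α • (u + (1 : F) • y') + β • J (u + (1 : F) • y')) +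
          (α • (u + (-1 : F) • y') + β • J (u + (-1 : F) • y'))) := by rw [map_smul, map_add, e1, e2]
      _ = α • ((2 : F)⁻¹ • ((u + (1 : F) • y') + (u + (-1 : F) • y'))) +
          β • J ((2 : F)⁻¹ • ((u + (1 : F) • y') + (u + (-1 : F) • y'))) := by
        simp only [map_smul, map_add, smul_add, smul_comm ((2 : F)⁻¹)]
        abel
      _ = _ := by rw [← e3]
  -- the square of k is d
  obtain ⟨y, a1, a2⟩ := test v1 v10
  have hkk : k (k v1) = d • v1 := by
    rw [hkap, hkap, app_app_inv, hJ2, map_smul, app_inv_app]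
  rw [hall v1, hall] at hkk
  simp only [map_add, map_smul, hJ2] at hkk
  have h5 := congrArg (fun x => f x y) hkk
  have h6 := congrArg (fun x => f x (J y)) hkk
  have eJy : f v1 (J y) = 0 := by rw [← neg_inj, ← hJf, a2, neg_zero]
  simp only [hf.bilinear.add_left, hf.bilinear.smul_left, a1, a2, eJy, form_JJ hf hJ2 hJf, mul_zero,
    add_zero, zero_add, mul_one] at h5 h6
  have hd0 : d ≠ 0 := fun h => hd 0 (by rw [h, mul_zero])
  have hα : α = 0 := by
    have h7 : 2 * α * β * d = 0 := by linear_combination -h6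
    rcases mul_eq_zero.1 h7 with h7 | h7
    · rcases mul_eq_zero.1 h7 with h8 | h8
      · exact (mul_eq_zero.1 h8).resolve_left h2
      · exfalso
        subst h8
        exact hd α (by linear_combination h5)
    · exact absurd h7 hd0
  subst hα
  have hβ : β * β = 1 := by
    have : (β * β - 1) * d = 0 := by linear_combination h5
    exact sub_eq_zero.1 ((mul_eq_zero.1 this).resolve_right hd0)
  refine ⟨β, hβ, fun x => ?_⟩
  have h8 := congrArg (app g) (hall x)
  rw [hkap, app_app_inv, zero_smul, zero_add, map_smul] at h8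
  calc app g (J x) = (β * β) • app g (J x) := by rw [hβ, one_smul]
    _ = β • J (app g x) := by rw [← smul_smul, ← h8]

include hf hH hJ2 hd hJf hodd h2 in
lemma exists_iso_centre (hn : 10 ≤ Fintype.card ι) (hev : Even (Fintype.card ι)) {g : GL ι F}
    (hgM : g ∈ M) (hg : IsIsom f g) {v : ι → F} (hv : f v (J v) = 0)
    (hns : app g⁻¹ (J (app g v)) ∉ Submodule.span F {v, J v}) :
    ∃ q, q ≠ 0 ∧ f q (J q) = 0 ∧ q ∈ centres hf M := by
  classical
  obtain ⟨m, hm⟩ := hev
  set a := app g (J v) with ha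
  set z := app g v with hz
  have hd0 : d ≠ 0 := fun h => hd 0 (by rw [h, mul_zero])
  have hX : ∀ c, st hf a c * st hf z (-(c * d)) ∈ M := fun c => by
    have h := mul_mem (mul_mem hgM (eJ_mem hf hJ2 hJf hH hv c)) (inv_mem hgM)
    have e : g * eJ hf J d v c * g⁻¹ = (g * st hf (J v) c * g⁻¹) * (g * st hf v (-(c * d)) * g⁻¹) := by
      rw [eJ]; group
    rwa [e, st_conj hf hg, st_conj hf hg] at h
  have hza : z ∉ Submodule.span F {a, J a} := by
    intro h
    obtain ⟨α, β, h⟩ := Submodule.mem_span_pair.1 h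
    by_cases hβ : β = 0
    · rw [hβ, zero_smul, add_zero, ha, hz, ← map_smul] at h
      have h1 := (app g).injective h
      apply hns
      by_cases hα : α = 0
      · rw [hα, zero_smul] at h1
        rw [hz, ← h1]; simp
      · -- v and J v would be dependent
        exfalso
        have hJv := congrArg J h1
        rw [map_smul, hJ2, smul_smul] at hJv
        have h3 : (α * (α * d)) • v = v := by
          conv_lhs => rw [← smul_smul, mul_comm α d]
          rw [mul_comm d α, hJv, h1]
        by_cases hv0 : v = 0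
        · apply hns; rw [hz, hv0]; simp
        · have h4 : α * (α * d) = 1 := by
            by_contra hne
            have : (α * (α * d) - 1) • v = 0 := by rw [sub_smul, one_smul, h3, sub_self]
            exact hne (sub_eq_zero.1 ((smul_eq_zero.1 this).resolve_right hv0))
          exact hd α⁻¹ (by field_simp; linear_combination -h4)
    · apply hns
      have hJa : J a = β⁻¹ • (z - α • a) := by
        rw [← h, add_sub_cancel_left, smul_smul, inv_mul_cancel₀ hβ, one_smul]
      have e : J z = (β * d) • a + (α * β⁻¹) • (z - α • a) := by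
        conv_lhs => rw [← h, map_add, map_smul, map_smul, hJ2, hJa, smul_smul, smul_smul]
        rw [add_comm]
      have e' : app g⁻¹ (J z) = (β * d) • J v + (α * β⁻¹) • (v - α • J v) := by
        rw [e]; simp only [ha, hz, map_add, map_sub, map_smul, app_inv_app]
      rw [e']
      refine add_mem (Submodule.smul_mem _ _ (Submodule.subset_span (by simp))) (Submodule.smul_mem _ _
        (sub_mem (Submodule.subset_span (by simp)) (Submodule.smul_mem _ _ (Submodule.subset_span (by simp)))))
  -- two isotropic directions orthogonal to a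
  obtain ⟨u, hu, hzu⟩ := exists_pairing hf hJf hza
  have hSa := finrank_orthJ hf (J := J) ![a]
  obtain ⟨w, hw, hzw, hww⟩ := exists_iso_pairing hf hJ2 hd hJf hodd h2
    (fun x hx => orthJ_J hf hJ2 hJf hx) (by omega) hu hzu
  have hwa := (mem_orthJ hf).1 hw 0
  simp only [Matrix.cons_val_zero] at hwa
  have hw0 : w ≠ 0 := fun h => hzw (by rw [h, ← bl_apply hf, map_zero])
  obtain ⟨i, hi, i0, hii⟩ := exists_iso hf hJ2 hd hJf hodd (S := orthJ hf (J := J) ![a, w, z])
    (fun x hx => orthJ_J hf hJ2 hJf hx) (by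
      have := finrank_orthJ hf (J := J) ![a, w, z]
      omega)
  rw [mem_orthJ] at hi
  have ia := hi 0
  have iw := hi 1
  have iz := hi 2
  simp only [Fin.isValue, Matrix.cons_val] at ia iw iz
  set w' := w + i with hw'
  have wi : f w (J i) = 0 := by rw [form_J_symm hf hJf, iw.2]
  have hw'w' : f w' (J w') = 0 := by
    rw [hw', map_add, hf.bilinear.add_left, hf.bilinear.add_right, hf.bilinear.add_right, hww, hii, wi,
      iw.2]
    simp
  have hfw : ∀ x, f x w' = f x w + f x i := fun x => hf.bilinear.add_right x w i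
  have zw' : f z w' = f z w ∧ f z (J w') = f z (J w) := by
    constructor
    · rw [hfw, hf.skew z i, iz.1, neg_zero, add_zero]
    · rw [hw', map_add, hf.bilinear.add_right, form_J_symm hf hJf z i, iz.2, add_zero]
  have aw : f a w = 0 ∧ f a (J w) = 0 :=
    ⟨by rw [hf.skew, hwa.1, neg_zero], by rw [form_J_symm hf hJf, hwa.2]⟩
  have aw' : f a w' = 0 ∧ f a (J w') = 0 := by
    constructor
    · rw [hfw, aw.1, hf.skew a i, ia.1]; simp
    · rw [hw', map_add, hf.bilinear.add_right, aw.2, form_J_symm hf hJf a i, ia.2, add_zero]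
  set Q := f z (J w) * f z (J w) - d * (f z w * f z w) with hQ
  have hQ0 : Q ≠ 0 := fun h => hzw ((norm_eq_zero_iff hd).1 h).2
  set δ := f z (J w) • J w - (d * f z w) • w with hδ
  set δ' := f z (J w) • J w' - (d * f z w) • w' with hδ'
  set z1 := z + δ with hz1
  set z2 := z + δ' with hz2
  have ez1 : app (eJ hf J d w 1) z = z1 := by
    rw [eJ_apply hf hww, hz1, hδ, one_mul, one_mul, add_sub]
  have ez2 : app (eJ hf J d w' 1) z = z2 := by
    rw [eJ_apply hf hw'w', hz2, hδ', zw'.1, zw'.2, one_mul, one_mul, add_sub]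
  have hT : ∀ c, ∀ x, f x (J x) = 0 → f a x = 0 → f a (J x) = 0 →
      st hf a c * st hf (app (eJ hf J d x 1) z) (-(c * d)) ∈ M := fun c x hx e1 e2 => by
    have h := mul_mem (mul_mem (eJ_mem hf hJ2 hJf hH hx 1) (hX c))
      (inv_mem (eJ_mem hf hJ2 hJf hH hx 1))
    have e : ∀ (h A B : GL ι F), h * (A * B) * h⁻¹ = (h * A * h⁻¹) * (h * B * h⁻¹) := fun h A B => by group
    rwa [e, st_conj hf (eJ_isIsom hf x 1), st_conj hf (eJ_isIsom hf x 1), eJ_fix hf hx e1 e2] at h
  have hz12 : f z1 z2 = 0 := by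
    have e1 : f w w' = 0 := by rw [hfw, hf.alternating, hf.skew w i, iw.1]; simp
    have e2 : f w (J w') = 0 := by rw [hw', map_add, hf.bilinear.add_right, hww, wi, add_zero]
    rw [hz1, hz2, hδ, hδ']
    simp only [← bl_apply hf, map_add, map_sub, map_smul, LinearMap.add_apply, LinearMap.sub_apply,
      LinearMap.smul_apply, smul_eq_mul]
    simp only [bl_apply, hf.alternating, zw'.1, zw'.2, e1, e2, form_JJ hf hJ2 hJf, hJf w w',
      hf.skew (J w) z, hf.skew w z]
    ring
  set p := z1 + z2 with hp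
  set q := z1 - z2 with hq
  have hpair : IsPair hf M p q := by
    refine ⟨?_, fun c => ?_⟩
    · rw [hp, hq, ← bl_apply hf]
      simp only [map_add, map_sub, LinearMap.add_apply]
      simp only [bl_apply, hf.alternating, hz12, hf.skew z2 z1]
      ring
    · have e1 := hT (-(2 * c) / d) w hww aw.1 aw.2
      have e2 := hT (-(2 * c) / d) w' hw'w' aw'.1 aw'.2
      rw [ez1] at e1
      rw [ez2] at e2
      have h3 := mul_mem (inv_mem e2) e1
      rw [_root_.mul_inv_rev, mul_assoc, inv_mul_cancel_left, st_inv] at h3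
      have e3 : -(-(2 * c) / d * d) = 2 * c := by field_simp
      rw [e3] at h3
      have e4 : et hf p q c = st hf z1 (2 * c) * st hf z2 (-(2 * c)) := by
        rw [et, hp, hq, show z1 + z2 + (z1 - z2) = (2 : F) • z1 by rw [two_smul]; abel,
          show z1 + z2 - (z1 - z2) = (2 : F) • z2 by rw [two_smul]; abel, st_smul, st_smul]
        congr 2 <;> field_simp <;> ring
      rw [e4]
      -- the two transvections commute
      have comm : st hf z1 (2 * c) * st hf z2 (-(2 * c)) = st hf z2 (-(2 * c)) * st hf z1 (2 * c) :=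
        gl_ext fun x => by
          rw [map_mul, map_mul, LinearEquiv.mul_apply, LinearEquiv.mul_apply]
          simp only [st_apply, hf.bilinear.add_left, hf.bilinear.smul_left, hz12, hf.skew z2 z1,
            neg_zero, mul_zero, add_zero]
          abel
      rw [comm]; exact h3
  have hqi : q = (d * f z w) • i - f z (J w) • J i := by
    rw [hq, hz1, hz2, hδ, hδ', hw', map_add, smul_add, smul_add]; abel
  have hqq : f q (J q) = 0 := by
    rw [hqi]
    simp only [map_sub, map_smul, hJ2, ← bl_apply hf, LinearMap.sub_apply, LinearMap.smul_apply,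
      smul_eq_mul]
    simp only [bl_apply, hf.alternating, hii, hJf i i]
    ring
  -- independence of p and q
  have hi1 : ∀ α β : F, α • i + β • J i = 0 → α = 0 ∧ β = 0 := fun α β h => by
    by_contra hne
    have hN : α * α - d * (β * β) ≠ 0 := fun h0 => hne ((norm_eq_zero_iff hd).1 h0)
    apply i0
    have h' := congrArg J h
    rw [map_add, map_smul, map_smul, hJ2, smul_smul, map_zero] at h'
    have : (α * α - d * (β * β)) • i = α • (α • i + β • J i) - β • (α • J i + (β * d) • i) := by
      funext k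
      simp only [Pi.add_apply, Pi.sub_apply, Pi.smul_apply, smul_eq_mul]
      ring
    rw [h, h', smul_zero, smul_zero, sub_zero] at this
    exact (smul_eq_zero.1 this).resolve_left hN
  have hq0 : q ≠ 0 := fun h => by
    rw [hqi, sub_eq_add_neg, ← neg_smul] at h
    obtain ⟨e1, -⟩ := hi1 _ _ h
    exact hzw ((mul_eq_zero.1 e1).resolve_left hd0)
  have hpq : p ∉ Submodule.span F {q, J q} := by
    intro h
    obtain ⟨α, β, h⟩ := Submodule.mem_span_pair.1 h
    have h1 := congrArg (fun x => f x w) h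
    have iw1 : f (J i) w = 0 := by rw [hJf, iw.2, neg_zero]
    rw [hqi, hp, hz1, hz2, hδ, hδ', hw'] at h1
    simp only [map_sub, map_add, map_smul, hJ2, hf.bilinear.add_left, hf.bilinear.smul_left,
      ← bl_apply hf, LinearMap.add_apply, LinearMap.sub_apply, LinearMap.smul_apply, smul_eq_mul] at h1
    simp only [bl_apply, hf.alternating, iw.1, iw1, hJf w w, hww] at h1
    have : 2 * f z w = 0 := by linear_combination -h1
    exact hzw ((mul_eq_zero.1 this).resolve_left h2)
  obtain ⟨u2, hu2, hpu⟩ := exists_pairing hf hJf hpq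
  have hSq := finrank_orthJ hf (J := J) ![q]
  obtain ⟨r, hr, hpr, hrr⟩ := exists_iso_pairing hf hJ2 hd hJf hodd h2
    (fun x hx => orthJ_J hf hJ2 hJf hx) (by omega) hu2 hpu
  have hrq := (mem_orthJ hf).1 hr 0
  simp only [Matrix.cons_val_zero] at hrq
  have h4 := hpair.conj hf (eJ_mem hf hJ2 hJf hH hrr 1) (eJ_isIsom hf r 1)
  have qr : f q r = 0 ∧ f q (J r) = 0 :=
    ⟨by rw [hf.skew, hrq.1, neg_zero], by rw [form_J_symm hf hJf, hrq.2]⟩
  rw [eJ_fix hf hrr qr.1 qr.2] at h4
  refine ⟨q, hq0, hqq, centre_of_pairs hf h2 hpair h4 ?_⟩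
  rw [eJ_apply hf hrr, ← bl_apply hf]
  simp only [map_add, map_sub, map_smul, smul_eq_mul, bl_apply, hf.alternating]
  intro h
  have : f p (J r) * f p (J r) - d * (f p r * f p r) = 0 := by linear_combination h
  exact hpr ((norm_eq_zero_iff hd).1 this).2

include hf hH hJ2 hd hJf hodd h2 in
lemma all_centres (hn : 10 ≤ Fintype.card ι) (hev : Even (Fintype.card ι)) {q : ι → F} (hq0 : q ≠ 0)
    (hqq : f q (J q) = 0) (hqc : q ∈ centres hf M) : ∀ v, v ∈ centres hf M := by
  classical
  obtain ⟨m, hm⟩ := hev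
  have hd0 : d ≠ 0 := fun h => hd 0 (by rw [h, mul_zero])
  have step : ∀ q p, q ∈ centres hf M → f p (J p) = 0 → f q p ≠ 0 → f q (J p) = 0 →
      p ∈ centres hf M := by
    intro q p hq hp h1 h3
    have h4 := centres_conj hf (eJ_mem hf hJ2 hJf hH hp 1) (eJ_isIsom hf p 1) hq
    rw [eJ_apply hf hp, h3, mul_zero, zero_smul, add_zero, one_mul, sub_eq_add_neg, ← neg_smul] at h4
    set k := -(d * f q p) with hk
    have hk0 : k ≠ 0 := neg_ne_zero.2 (mul_ne_zero hd0 h1)
    have h5 := centres_step' hf hq h4 (by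
      rw [hf.bilinear.add_left, hf.bilinear.smul_left, hf.alternating, zero_add, hf.skew p q]
      exact mul_ne_zero hk0 (neg_ne_zero.2 h1)) (-1)
    rw [neg_one_smul, add_comm q, add_neg_cancel_right] at h5
    simpa [smul_smul, inv_mul_cancel₀ hk0] using centres_smul hf h5 k⁻¹
  have far : ∀ q r, q ∈ centres hf M → q ≠ 0 → f r (J r) = 0 → r ∉ Submodule.span F {q, J q} →
      r ∈ centres hf M := by
    intro q r hq hq0 hr hrq
    have hW : q ∉ Submodule.span F (↑({J q, J r, r - q} : Finset (ι → F)) : Set (ι → F)) := by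
      intro h
      rw [Finset.coe_insert, Finset.coe_insert, Finset.coe_singleton, Submodule.mem_span_triple] at h
      obtain ⟨α, β, γ, h⟩ := h
      apply hrq
      have e1 : γ • r + β • J r = (1 + γ) • q + (-α) • J q := by
        rw [smul_sub] at h
        calc γ • r + β • J r = (α • J q + β • J r + (γ • r - γ • q)) + γ • q - α • J q := by abel
          _ = q + γ • q - α • J q := by rw [h]
          _ = _ := by rw [add_smul, one_smul, neg_smul]; abel
      have e2 := congrArg J e1
      rw [map_add, map_smul, map_smul, hJ2, smul_smul, map_add, map_smul, map_smul, hJ2, smul_smul] at e2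
      by_cases hN : γ * γ - d * (β * β) = 0
      · obtain ⟨rfl, rfl⟩ := (norm_eq_zero_iff hd).1 hN
        exfalso
        simp only [zero_smul, add_zero, neg_smul] at e1
        have e3 : q = α • J q := by
          rw [one_smul] at e1
          exact sub_eq_zero.1 (by rw [sub_eq_add_neg, ← e1])
        have e4 := congrArg J e3
        rw [map_smul, hJ2, smul_smul] at e4
        rw [e4, smul_smul] at e3
        have e5 : α * (α * d) = 1 := by
          by_contra hne
          have : (α * (α * d) - 1) • q = 0 := by rw [sub_smul, one_smul, ← e3, sub_self]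
          exact hne (sub_eq_zero.1 ((smul_eq_zero.1 this).resolve_right hq0))
        exact hd α⁻¹ (by
          have hα : α ≠ 0 := fun h => by rw [h] at e5; simp at e5
          field_simp
          linear_combination -e5)
      · have e3 : (γ * γ - d * (β * β)) • r =
            γ • (γ • r + β • J r) - β • (γ • J r + (β * d) • r) := by
          funext k
          simp only [Pi.add_apply, Pi.sub_apply, Pi.smul_apply, smul_eq_mul]
          ring
        rw [e1, e2] at e3
        rw [← inv_smul_smul₀ hN r, e3]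
        refine Submodule.smul_mem _ _ (sub_mem (Submodule.smul_mem _ _ (add_mem ?_ ?_))
          (Submodule.smul_mem _ _ (add_mem ?_ ?_))) <;>
          refine Submodule.smul_mem _ _ (Submodule.subset_span ?_) <;> simp
    obtain ⟨θ, hθ, hθq⟩ := exists_dual_eq_one hW
    obtain ⟨u, rfl⟩ := flin_surjective hf.bilinear hf.nondegenerate θ
    have hqu : f q u = 1 := hθq
    have hru : f r u = 1 := by
      have h := hθ (r - q) (Submodule.subset_span (by simp))
      rw [map_sub, sub_eq_zero] at h
      exact h.trans hqu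
    have hJq : f (J q) u = 0 := hθ (J q) (Submodule.subset_span (by simp))
    have hJr : f (J r) u = 0 := hθ (J r) (Submodule.subset_span (by simp))
    obtain ⟨y, hy, hyy⟩ := exists_bJ_ne_zero hf hJ2 hd hJf h2 (S := orthJ hf (J := J) ![q, r])
      (fun x hx => orthJ_J hf hJ2 hJf hx) (by
        have := finrank_orthJ hf (J := J) ![q, r]
        omega)
    rw [mem_orthJ] at hy
    have yq := hy 0
    have yr := hy 1
    simp only [Fin.isValue, Matrix.cons_val] at yq yr
    -- move u to be orthogonal to y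
    have ey : ∀ x, f y x = 0 → f y (J x) = 0 → f x y = 0 ∧ f (J x) y = 0 ∧ f x (J y) = 0 ∧ f (J x) (J y) = 0 := by
      intro x h1 h3
      have h4 : f x y = 0 := by rw [hf.skew, h1, neg_zero]
      have h5 : f x (J y) = 0 := by rw [form_J_symm hf hJf, h3]
      exact ⟨h4, by rw [hJf, h5, neg_zero], h5, by rw [form_JJ hf hJ2 hJf, h4, mul_zero, neg_zero]⟩
    obtain ⟨q1, q2, q3, q4⟩ := ey q yq.1 yq.2
    obtain ⟨r1, r2, r3, r4⟩ := ey r yr.1 yr.2
    obtain ⟨u, hqu, hru, hJq, hJr, yu⟩ : ∃ u', f q u' = 1 ∧ f r u' = 1 ∧ f (J q) u' = 0 ∧ f (J r) u' = 0 ∧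
        (f y u' = 0 ∧ f y (J u') = 0) := by
      refine ⟨u + (-(f y (J u)) / (f y (J y))) • y + (-(f y u) / (f y (J y))) • J y, ?_, ?_, ?_, ?_, ?_, ?_⟩
      all_goals simp only [map_add, map_smul, hJ2, hf.bilinear.add_right, hf.bilinear.smul_right, q1, q2, q3,
        q4, r1, r2, r3, r4, hf.alternating, mul_zero, add_zero]
      · exact hqu
      · exact hru
      · exact hJq
      · exact hJr
      · field_simp; ring
      · field_simp; ring
    obtain ⟨a, b, hN⟩ := exists_norm hd hodd (- f u (J u) / f y (J y))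
    set p := a • y + b • J y + u with hp
    have e0 : f u y = 0 := by rw [hf.skew, yu.1, neg_zero]
    have e0' : f u (J y) = 0 := by rw [form_J_symm hf hJf, yu.2]
    have hpp : f p (J p) = 0 := by
      rw [hp, bJ_cross hf hJ2 hJf a b e0 e0', hN, div_mul_cancel₀ _ hyy, neg_add_cancel]
    have pair : ∀ x, f x u = 1 → f (J x) u = 0 → f y x = 0 → f y (J x) = 0 → f x p = 1 ∧ f x (J p) = 0 := by
      intro x h1 h3 h4 h5
      have e1 : f x (J u) = 0 := by rw [← neg_inj, ← hJf, h3, neg_zero]
      have e2 : f x y = 0 := by rw [hf.skew, h4, neg_zero]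
      have e3 : f x (J y) = 0 := by rw [form_J_symm hf hJf, h5]
      constructor
      · simp [hp, hf.bilinear.add_right, hf.bilinear.smul_right, h1, e2, e3]
      · simp [hp, map_add, map_smul, hJ2, hf.bilinear.add_right, hf.bilinear.smul_right, e1, e2, e3]
    obtain ⟨hqp, hqp'⟩ := pair q hqu hJq yq.1 yq.2
    obtain ⟨hrp, hrp'⟩ := pair r hru hJr yr.1 yr.2
    have hpc : p ∈ centres hf M := step q p hq hpp (by rw [hqp]; exact one_ne_zero) hqp'
    exact step p r hpc hr (by rw [hf.skew, hrp]; exact neg_ne_zero.2 one_ne_zero)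
      (by rw [form_J_symm hf hJf, hrp'])
  have iso : ∀ r, f r (J r) = 0 → r ∈ centres hf M := by
    intro r hr
    by_cases h : r ∈ Submodule.span F {q, J q}
    · obtain ⟨⟨y, hy⟩, -⟩ := hf.nondegenerate q hq0
      obtain ⟨i, hi, i0, hii⟩ := exists_iso hf hJ2 hd hJf hodd (S := orthJ hf (J := J) ![y])
        (fun x hx => orthJ_J hf hJ2 hJf hx) (by
          have := finrank_orthJ hf (J := J) ![y]
          omega)
      have hiy := (mem_orthJ hf).1 hi 0
      simp only [Matrix.cons_val_zero] at hiy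
      have hyq : f q y ≠ 0 := fun h0 => hy (by rw [hf.skew, h0, neg_zero])
      have hsym : ∀ α β : F, f (α • q + β • J q) y = 0 → f (α • q + β • J q) (J y) = 0 →
          α = 0 ∧ β = 0 := fun α β h1 h3 => by
        rw [hf.bilinear.add_left, hf.bilinear.smul_left, hf.bilinear.smul_left, hJf] at h1
        rw [hf.bilinear.add_left, hf.bilinear.smul_left, hf.bilinear.smul_left,
          form_JJ hf hJ2 hJf] at h3
        refine (norm_eq_zero_iff hd).1 ((mul_eq_zero.1 ?_).resolve_right hyq)
        linear_combination α * h1 + β * h3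
      have hiq : i ∉ Submodule.span F {q, J q} := fun h' => by
        obtain ⟨α, β, rfl⟩ := Submodule.mem_span_pair.1 h'
        obtain ⟨rfl, rfl⟩ := hsym α β hiy.1 hiy.2
        simp at i0
      by_cases hr0 : r = 0
      · rw [hr0]; exact zero_mem_centres hf M
      refine far i r (far q i hqc hq0 hii hiq) i0 hr fun h' => ?_
      obtain ⟨α, β, h'⟩ := Submodule.mem_span_pair.1 h'
      obtain ⟨a, b, h⟩ := Submodule.mem_span_pair.1 h
      have ho : ∀ α β : F, f (α • i + β • J i) y = 0 ∧ f (α • i + β • J i) (J y) = 0 := fun α β => by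
        constructor <;> simp [hf.bilinear.add_left, hf.bilinear.smul_left, hf.bilinear.smul_right, hJf i,
          hJ2, hiy.1, hiy.2]
      have h1 := ho α β
      rw [h', ← h] at h1
      obtain ⟨rfl, rfl⟩ := hsym a b h1.1 h1.2
      exact hr0 (by rw [← h]; simp)
    · exact far q r hqc hq0 hr h
  intro u
  by_cases huu : f u (J u) = 0
  · exact iso u huu
  have hu0 : u ≠ 0 := fun h => huu (by rw [h, ← bl_apply hf, map_zero, LinearMap.zero_apply])
  obtain ⟨-, x, hx⟩ := hf.nondegenerate u hu0
  obtain ⟨w, -, hw1, hww⟩ := exists_iso_pairing hf hJ2 hd hJf hodd h2 (S := ⊤)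
    (fun x _ => Submodule.mem_top) (by rw [finrank_top, Module.finrank_fintype_fun_eq_card]; omega)
    (Submodule.mem_top : x ∈ ⊤) hx
  obtain ⟨v1, h11, h12, h13⟩ : ∃ v1, f v1 (J v1) = 0 ∧ f u v1 ≠ 0 ∧ f u (J v1) ≠ 0 := by
    by_cases h : f u (J w) = 0
    · refine ⟨w + J w, ?_, ?_, ?_⟩
      · have := bJ_scale hf hJ2 hJf 1 1 w
        rw [one_smul, one_smul, hww, mul_zero] at this
        exact this
      · rw [hf.bilinear.add_right, h, add_zero]; exact hw1
      · rw [map_add, hJ2, hf.bilinear.add_right, hf.bilinear.smul_right, h, zero_add]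
        exact mul_ne_zero hd0 hw1
    · exact ⟨w, hww, hw1, h⟩
  set s := f u (J u) / (2 * f u (J v1)) with hs
  have hs0 : s ≠ 0 := div_ne_zero huu (mul_ne_zero h2 h13)
  have hv2 : f (u + (-s) • v1) (J (u + (-s) • v1)) = 0 := by
    simp only [map_add, map_smul, hf.bilinear.add_left, hf.bilinear.add_right, hf.bilinear.smul_left,
      hf.bilinear.smul_right, h11, form_J_symm hf hJf v1 u, hs]
    field_simp
    ring
  have h5 := centres_step' hf (iso v1 h11) (iso _ hv2) (by
    rw [hf.bilinear.add_left, hf.bilinear.smul_left, hf.alternating, mul_zero, add_zero]; exact h12) s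
  rwa [neg_smul, neg_add_cancel_right] at h5

include hf hH hJ2 hd hJf hodd h2 in
/-- The overgroup theorem for the unitary group inside the symplectic group. -/
theorem centres_of_not_semilinear (hn : 10 ≤ Fintype.card ι) (hev : Even (Fintype.card ι)) {g : GL ι F}
    (hgM : g ∈ M) (hg : IsIsom f g)
    (hns : ¬ ∃ s : F, s * s = 1 ∧ ∀ x, app g (J x) = s • J (app g x)) :
    ∀ v, v ∈ centres hf M := by
  obtain ⟨v, -, hv, hv'⟩ : ∃ v, v ≠ 0 ∧ f v (J v) = 0 ∧
      app g⁻¹ (J (app g v)) ∉ Submodule.span F {v, J v} := by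
    by_contra h
    push Not at h
    exact hns (semilinear_of_iso_lines hf hJ2 hd hJf hodd h2 hn h)
  obtain ⟨q, h0, h1, h3⟩ := exists_iso_centre hf hJ2 hd hJf hodd h2 hH hn hev hgM hg hv hv'
  exact all_centres hf hJ2 hd hJf hodd h2 hH hn hev h0 h1 h3

end Cfsg.Agent.Transvect
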