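/-
Overgroups, inside a symplectic group of dimension at least six, of the isometries commuting with an anti-self-adjoint J
with J² = d a non-square (the unitary group of degree at least three).
Main results: `semilinear_six`, `exists_centre_six`, `centres_of_not_semilinear_six`.
-/
import Cfsg.Agent.Lib.Transvect.UnitarySymp

set_option autoImplicit false
set_option linter.unusedSectionVars false

namespace Cfsg.Agent.Transvect

open Matrix
open scoped MatrixGroups

variable {ι : Type} [Fintype ι] [DecidableEq ι] {F : Type*} [Field F] [Fintype F]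
  {f : (ι → F) → (ι → F) → F} (hf : Cfsg.Geo.IsSymplecticForm f)
  {J : (ι → F) →ₗ[F] (ι → F)} {d : F}
  (hJ2 : ∀ x, J (J x) = d • x) (hd : ∀ c : F, c * c ≠ d) (hJf : ∀ x y, f (J x) y = - f x (J y))
  (hodd : Odd (Fintype.card F)) (h2 : (2 : F) ≠ 0)
include hf hJ2 hd hJf hodd h2

lemma line_indep_six {v : ι → F} (v0 : v ≠ 0) {α β : F} (h : α • v + β • J v = 0) : α = 0 ∧ β = 0 := by
  by_contra hne
  have hN : α * α - d * (β * β) ≠ 0 := fun h0 => hne ((norm_eq_zero_iff hd).1 h0)
  apply v0
  have h' := congrArg J h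
  rw [map_add, map_smul, map_smul, hJ2, smul_smul, map_zero] at h'
  have : (α * α - d * (β * β)) • v = α • (α • v + β • J v) - β • (α • J v + (β * d) • v) := by
    funext k
    simp only [Pi.add_apply, Pi.sub_apply, Pi.smul_apply, smul_eq_mul]
    ring
  rw [h, h', smul_zero, smul_zero, sub_zero] at this
  exact (smul_eq_zero.1 this).resolve_left hN

lemma mem_line_six {a z : ι → F} {γ δ : F} (h : γ • z + δ • J z ∈ Submodule.span F {a, J a})
    (hne : ¬ (γ = 0 ∧ δ = 0)) : z ∈ Submodule.span F {a, J a} := by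
  have hN : γ * γ - d * (δ * δ) ≠ 0 := fun h0 => hne ((norm_eq_zero_iff hd).1 h0)
  obtain ⟨s, r, e⟩ := Submodule.mem_span_pair.1 h
  have e' := congrArg J e
  simp only [map_add, map_smul, hJ2] at e'
  have e3 : (γ * γ - d * (δ * δ)) • z = γ • (s • a + r • J a) - δ • (s • J a + r • d • a) := by
    rw [e, e']
    module
  rw [← inv_smul_smul₀ hN z, e3]
  refine Submodule.smul_mem _ _ (sub_mem (Submodule.smul_mem _ _ (add_mem ?_ ?_))
    (Submodule.smul_mem _ _ (add_mem ?_ (Submodule.smul_mem _ _ ?_)))) <;>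
    refine Submodule.smul_mem _ _ (Submodule.subset_span ?_) <;> simp

/-- The orthogonal space of an isotropic hyperbolic pair has a non-singular vector. -/
lemma exists_aniso_six (hn : 6 ≤ Fintype.card ι) {v w : ι → F} (hvv : f v (J v) = 0)
    (hww : f w (J w) = 0) (a1 : f v w = 1) (a2 : f v (J w) = 0) :
    ∃ e ∈ orthJ hf (J := J) ![v, w], f e (J e) ≠ 0 := by
  have hd0 : d ≠ 0 := fun h => hd 0 (by rw [h, mul_zero])
  have b1 : f w v = -1 := by rw [hf.skew, a1]
  have b2 : f w (J v) = 0 := by rw [form_J_symm hf hJf, a2]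
  by_contra hc
  push Not at hc
  obtain ⟨e, he, he0⟩ := Submodule.exists_mem_ne_zero_of_ne_bot
    (p := orthJ hf (J := J) ![v, w]) fun h => by
      have := finrank_orthJ hf (J := J) ![v, w]
      rw [h, finrank_bot] at this
      omega
  have hS : ∀ u ∈ orthJ hf (J := J) ![v, w], f e (J u) = 0 := fun u hu => by
    have h1 := hc (e + u) (add_mem he hu)
    rw [map_add, hf.bilinear.add_left, hf.bilinear.add_right, hf.bilinear.add_right, hc e he,
      hc u hu, form_J_symm hf hJf u e, zero_add, add_zero, ← two_mul] at h1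
    exact (mul_eq_zero.1 h1).resolve_left h2
  have he' := (mem_orthJ hf).1 he
  have ev := he' 0
  have ew := he' 1
  simp only [Fin.isValue, Matrix.cons_val] at ev ew
  obtain ⟨-, y, hy⟩ := hf.nondegenerate e he0
  apply hy
  obtain ⟨x, hx⟩ : ∃ x, x = y - f y w • v + (f y (J w) / d) • J v + f y v • w - (f y (J v) / d) • J w :=
    ⟨_, rfl⟩
  have hxS : x ∈ orthJ hf (J := J) ![v, w] := by
    rw [mem_orthJ]
    intro i
    fin_cases i <;> rw [hx] <;> refine ⟨?_, ?_⟩ <;>
      simp only [← bl_apply hf, map_add, map_sub, map_smul, LinearMap.add_apply, LinearMap.sub_apply,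
        LinearMap.smul_apply, smul_eq_mul, Fin.zero_eta, Fin.mk_one, Fin.isValue, Matrix.cons_val_zero,
        Matrix.cons_val_one] <;>
      simp only [bl_apply, hf.alternating, a1, a2, b1, b2, hvv, hww, hJf v, hJf w, hJ2,
        hf.bilinear.smul_right, mul_zero, neg_zero] <;> field_simp <;> ring
  have h1 := hS (J x) (orthJ_J hf hJ2 hJf hxS)
  rw [hJ2, hf.bilinear.smul_right, hx] at h1
  have h3 := (mul_eq_zero.1 h1).resolve_left hd0
  simp only [← bl_apply hf, map_add, map_sub, map_smul, smul_eq_mul] at h3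
  simpa [bl_apply, ev.1, ev.2, ew.1, ew.2] using h3

omit hodd in
/-- A unit of norm one which is not real. -/
lemma exists_norm_one_six : ∃ α β : F, α * α - d * (β * β) = 1 ∧ β ≠ 0 := by
  have h1 : 1 - d ≠ 0 := fun h => hd 1 (by linear_combination h)
  refine ⟨(1 + d) / (1 - d), 2 / (1 - d), ?_, div_ne_zero h2 h1⟩
  field_simp
  ring

variable {M : Subgroup (GL ι F)}
  (hH : ∀ g : GL ι F, IsIsom f g → (∀ x, app g (J x) = J (app g x)) → g ∈ M)
include hH

/-- The unit `α + βJ` on the line of a non-singular vector, the identity on its orthogonal space. -/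
lemma exists_unit_six {p : ι → F} (hp : f p (J p) ≠ 0) {α β : F} (hN : α * α - d * (β * β) = 1) :
    ∃ T : GL ι F, T ∈ M ∧ IsIsom f T ∧ ∀ x, app T x = x +
      (((α - 1) * f x (J p) - d * β * f x p) / f p (J p)) • p +
      ((β * f x (J p) - (α - 1) * f x p) / f p (J p)) • J p := by
  set ε := f p (J p) with hε
  let T0 : (ι → F) →ₗ[F] (ι → F) := LinearMap.id +
    (((α - 1) / ε) • flin hf.bilinear (J p) - (d * β / ε) • flin hf.bilinear p).smulRight p +
    ((β / ε) • flin hf.bilinear (J p) - ((α - 1) / ε) • flin hf.bilinear p).smulRight (J p)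
  have hT0 : ∀ x, T0 x = x + (((α - 1) * f x (J p) - d * β * f x p) / ε) • p +
      ((β * f x (J p) - (α - 1) * f x p) / ε) • J p := fun x => by
    simp only [T0, LinearMap.add_apply, LinearMap.id_apply, LinearMap.smulRight_apply,
      LinearMap.sub_apply, LinearMap.smul_apply, flin_apply, smul_eq_mul]
    congr 2 <;> ring
  have hJpp : f (J p) p = -ε := hJf p p
  have hiso : ∀ x y, f (T0 x) (T0 y) = f x y := fun x y => by
    rw [hT0, hT0]
    simp only [hf.bilinear.add_left, hf.bilinear.add_right, hf.bilinear.smul_left,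
      hf.bilinear.smul_right, hf.alternating, hJpp, ← hε, hf.skew p y, hf.skew (J p) y]
    field_simp
    linear_combination ε * (f x p * f y (J p) - f x (J p) * f y p) * hN
  have hinj : Function.Injective T0 := by
    rw [← LinearMap.ker_eq_bot, LinearMap.ker_eq_bot']
    intro x hx
    by_contra h0
    obtain ⟨-, y, hy⟩ := hf.nondegenerate x h0
    exact hy (by rw [← hiso, hx, ← bl_apply hf, map_zero, LinearMap.zero_apply])
  obtain ⟨T, hT⟩ := exists_app_eq T0 hinj
  have hTi : IsIsom f T := fun x y => by rw [hT, hT, hiso]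
  refine ⟨T, hH T hTi fun x => ?_, hTi, fun x => by rw [hT, hT0]⟩
  rw [hT, hT, hT0, hT0, map_add, map_add, map_smul, map_smul, hJ2, form_JJ hf hJ2 hJf, hJf x p,
    smul_smul]
  match_scalars <;> field_simp <;> ring

/-- The reflection in a non-singular vector. -/
lemma exists_reflect_six {p : ι → F} (hp : f p (J p) ≠ 0) :
    ∃ T : GL ι F, T ∈ M ∧ IsIsom f T ∧ ∀ x, app T x = x -
      (2 * f x (J p) / f p (J p)) • p + (2 * f x p / f p (J p)) • J p := by
  obtain ⟨T, h1, h3, h4⟩ := exists_unit_six hf hJ2 hd hJf hodd h2 hH hp (α := -1) (β := 0) (by ring)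
  refine ⟨T, h1, h3, fun x => ?_⟩
  rw [h4]
  match_scalars <;> ring

omit hH in
/-- Two orthogonal vectors whose transvection quotients lie in `M` give a pair. -/
lemma pair_of_two_six {x y : ι → F} (hxy : f x y = 0) (h : ∀ c, st hf x c * st hf y (-c) ∈ M) :
    IsPair hf M (x + y) (x - y) := by
  refine ⟨?_, fun c => ?_⟩
  · have hyx : f y x = 0 := by rw [hf.skew, hxy, neg_zero]
    rw [← bl_apply hf]
    simp [map_sub, map_add, bl_apply, hf.alternating, hxy, hyx]
  · have e : et hf (x + y) (x - y) c = st hf x (2 * c) * st hf y (-(2 * c)) := by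
      rw [et, show x + y + (x - y) = (2 : F) • x by rw [two_smul]; abel,
        show x + y - (x - y) = (2 : F) • y by rw [two_smul]; abel, st_smul, st_smul]
      congr 2 <;> field_simp <;> ring
    rw [e]; exact h _

/-- The conjugated element: a centre from two vectors. -/
lemma centre_core_six (hn : 6 ≤ Fintype.card ι) {a z : ι → F}
    (hX : ∀ c, st hf a c * st hf z (-(c * d)) ∈ M) (haz : f a z = 0) (ha : f a (J a) ≠ 0)
    (hza : z ∉ Submodule.span F {a, J a}) (hor : f a (J z) ≠ 0 ∨ f z (J z) ≠ 0) :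
    ∃ q, q ≠ 0 ∧ q ∈ centres hf M := by
  have hd0 : d ≠ 0 := fun h => hd 0 (by rw [h, mul_zero])
  have hfza : f z a = 0 := by rw [hf.skew, haz, neg_zero]
  obtain ⟨α, β, hN, hβ⟩ := exists_norm_one_six hf hJ2 hd hJf h2
  have mk : ∀ T : GL ι F, T ∈ M → IsIsom f T → (∀ c, st hf (app T a) c = st hf a c) →
      f z (app T z) = 0 → IsPair hf M (z + app T z) (z - app T z) := by
    intro T hTM hT hTa hzz
    refine pair_of_two_six hf hJ2 hd hJf hodd h2 hzz fun k => ?_
    have h1 := mul_mem (mul_mem hTM (hX (k / d))) (inv_mem hTM)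
    rw [show T * (st hf a (k / d) * st hf z (-(k / d * d))) * T⁻¹ =
      (T * st hf a (k / d) * T⁻¹) * (T * st hf z (-(k / d * d)) * T⁻¹) by group,
      st_conj hf hT, st_conj hf hT, hTa] at h1
    have h3 := mul_mem (inv_mem (hX (k / d))) h1
    rw [_root_.mul_inv_rev, mul_assoc, inv_mul_cancel_left, st_inv, div_mul_cancel₀ _ hd0, neg_neg] at h3
    exact h3
  by_cases hβ' : f a (J z) = 0
  · have hzz : f z (J z) ≠ 0 := hor.resolve_left (not_not.2 hβ')
    have hfzJa : f z (J a) = 0 := by rw [form_J_symm hf hJf, hβ']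
    -- a non-singular vector orthogonal to both
    obtain ⟨e, he, hee⟩ : ∃ e ∈ orthJ hf (J := J) ![a, z], f e (J e) ≠ 0 := by
      by_contra hc
      push Not at hc
      obtain ⟨e, he, he0⟩ := Submodule.exists_mem_ne_zero_of_ne_bot
        (p := orthJ hf (J := J) ![a, z]) fun h => by
          have := finrank_orthJ hf (J := J) ![a, z]
          rw [h, finrank_bot] at this
          omega
      have hS : ∀ u ∈ orthJ hf (J := J) ![a, z], f e (J u) = 0 := fun u hu => by
        have h1 := hc (e + u) (add_mem he hu)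
        rw [map_add, hf.bilinear.add_left, hf.bilinear.add_right, hf.bilinear.add_right, hc e he,
          hc u hu, form_J_symm hf hJf u e, zero_add, add_zero, ← two_mul] at h1
        exact (mul_eq_zero.1 h1).resolve_left h2
      have he' := (mem_orthJ hf).1 he
      have ea := he' 0
      have ez := he' 1
      simp only [Fin.isValue, Matrix.cons_val] at ea ez
      obtain ⟨-, y, hy⟩ := hf.nondegenerate e he0
      apply hy
      obtain ⟨x, hx⟩ : ∃ x, x = y - (f y (J a) / f a (J a)) • a + (f y a / f a (J a)) • J a -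
          (f y (J z) / f z (J z)) • z + (f y z / f z (J z)) • J z := ⟨_, rfl⟩
      have hxS : x ∈ orthJ hf (J := J) ![a, z] := by
        rw [mem_orthJ]
        intro i
        fin_cases i <;> rw [hx] <;> refine ⟨?_, ?_⟩ <;>
          simp only [← bl_apply hf, map_add, map_sub, map_smul, LinearMap.add_apply, LinearMap.sub_apply,
            LinearMap.smul_apply, smul_eq_mul, Fin.zero_eta, Fin.mk_one, Fin.isValue, Matrix.cons_val_zero,
            Matrix.cons_val_one] <;>
          simp only [bl_apply, hf.alternating, haz, hfza, hβ', hfzJa, hJf a, hJf z, hJ2,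
            hf.bilinear.smul_right, mul_zero, neg_zero] <;>
          field_simp <;> ring
      have h1 := hS (J x) (orthJ_J hf hJ2 hJf hxS)
      rw [hJ2, hf.bilinear.smul_right, hx] at h1
      have h3 := (mul_eq_zero.1 h1).resolve_left hd0
      simp only [← bl_apply hf, map_add, map_sub, map_smul, smul_eq_mul] at h3
      simpa [bl_apply, ea.1, ea.2, ez.1, ez.2] using h3
    have he' := (mem_orthJ hf).1 he
    have ea := he' 0
    have ez := he' 1
    simp only [Fin.isValue, Matrix.cons_val] at ea ez
    obtain ⟨γ, δ, hγ⟩ := exists_norm hd hodd (f z (J z) / f e (J e))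
    obtain ⟨z', hz'⟩ : ∃ z', z' = γ • e + δ • J e := ⟨_, rfl⟩
    have z'z' : f z' (J z') = f z (J z) := by
      rw [hz', bJ_scale hf hJ2 hJf, hγ, div_mul_cancel₀ _ hee]
    have fae : f a e = 0 ∧ f a (J e) = 0 := ⟨by rw [hf.skew, ea.1, neg_zero], by rw [form_J_symm hf hJf, ea.2]⟩
    have fze : f z e = 0 ∧ f z (J e) = 0 := ⟨by rw [hf.skew, ez.1, neg_zero], by rw [form_J_symm hf hJf, ez.2]⟩
    have az' : f a z' = 0 ∧ f a (J z') = 0 := by
      constructor <;> simp [hz', map_add, map_smul, hJ2, hf.bilinear.add_right, hf.bilinear.smul_right,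
        fae.1, fae.2]
    have zz' : f z z' = 0 ∧ f z (J z') = 0 := by
      constructor <;> simp [hz', map_add, map_smul, hJ2, hf.bilinear.add_right, hf.bilinear.smul_right,
        fze.1, fze.2]
    have z'z : f z' z = 0 ∧ f z' (J z) = 0 :=
      ⟨by rw [hf.skew, zz'.1, neg_zero], by rw [form_J_symm hf hJf, zz'.2]⟩
    have hD : f (z - z') (J (z - z')) = 2 * f z (J z) := by
      simp only [map_sub, ← bl_apply hf, LinearMap.sub_apply]
      simp only [bl_apply, zz'.2, z'z.2, z'z']
      ring
    have hP : f (z + z') (J (z + z')) = 2 * f z (J z) := by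
      simp only [map_add, hf.bilinear.add_left, hf.bilinear.add_right, zz'.2, z'z.2, z'z']
      ring
    obtain ⟨R, hRM, hR, hRx⟩ := exists_reflect_six hf hJ2 hd hJf hodd h2 hH (p := z - z')
      (hD ▸ mul_ne_zero h2 hzz)
    have hRa : app R a = a := by
      have e1 : f a (J (z - z')) = 0 := by rw [map_sub, ← bl_apply hf, map_sub, bl_apply, bl_apply, hβ', az'.2, sub_zero]
      have e2 : f a (z - z') = 0 := by rw [← bl_apply hf, map_sub, bl_apply, bl_apply, haz, az'.1, sub_zero]
      rw [hRx, e1, e2]; simp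
    have hRz : app R z = z' := by
      have e1 : f z (J (z - z')) = f z (J z) := by rw [map_sub, ← bl_apply hf, map_sub, bl_apply, bl_apply, zz'.2, sub_zero]
      have e2 : f z (z - z') = 0 := by rw [← bl_apply hf, map_sub, bl_apply, bl_apply, zz'.1, hf.alternating, sub_zero]
      rw [hRx, e1, e2, hD, div_self (mul_ne_zero h2 hzz)]; simp
    have hpair := mk R hRM hR (fun c => by rw [hRa]) (by rw [hRz]; exact zz'.1)
    rw [hRz] at hpair
    obtain ⟨T, hTM, hT, hTx⟩ := exists_unit_six hf hJ2 hd hJf hodd h2 hH (p := z + z')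
      (hP ▸ mul_ne_zero h2 hzz) hN
    have hqp : f (z - z') (z + z') = 0 ∧ f (z - z') (J (z + z')) = 0 := by
      constructor <;> simp only [map_add, map_sub, ← bl_apply hf, LinearMap.sub_apply] <;>
        simp only [bl_apply, hf.alternating, zz'.1, zz'.2, z'z.1, z'z.2, z'z'] <;> ring
    have hTq : app T (z - z') = z - z' := by rw [hTx, hqp.1, hqp.2]; simp
    have h4 := hpair.conj hf hTM hT
    rw [hTq] at h4
    refine ⟨z - z', fun h => ?_, centre_of_pairs hf h2 hpair h4 ?_⟩
    · rw [h, ← bl_apply hf, map_zero, LinearMap.zero_apply] at hD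
      exact mul_ne_zero h2 hzz hD.symm
    · rw [hTx, hf.alternating]
      rw [hf.bilinear.add_right, hf.bilinear.add_right, hf.bilinear.smul_right, hf.bilinear.smul_right,
        hf.alternating, hP]
      field_simp
      simp [hβ, h2, hzz]
  · set m := f a (J z) / f a (J a) with hm
    have hm0 : m ≠ 0 := div_ne_zero hβ' ha
    obtain ⟨R, hRM, hR, hRx⟩ := exists_reflect_six hf hJ2 hd hJf hodd h2 hH ha
    have hRa : app R a = (-1 : F) • a := by
      rw [hRx, hf.alternating, mul_div_assoc, div_self ha, mul_zero, zero_div, zero_smul, add_zero,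
        mul_one]
      module
    have hRz : app R z = z - (2 * m) • a := by
      rw [hRx, hfza, form_J_symm hf hJf z a, mul_zero, zero_div, zero_smul, add_zero, hm, mul_div_assoc]
    have hzR : f z (app R z) = 0 := by
      rw [hRz, ← bl_apply hf, map_sub, map_smul, bl_apply, bl_apply, hf.alternating, hfza]; simp
    have hpair := (mk R hRM hR (fun c => by rw [hRa, st_smul]; norm_num) hzR).symm hf h2
    rw [hRz, show z - (z - (2 * m) • a) = (2 * m) • a by abel] at hpair
    obtain ⟨T, hTM, hT, hTx⟩ := exists_unit_six hf hJ2 hd hJf hodd h2 hH ha hN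
    obtain ⟨p, hp⟩ : ∃ p, p = z + (z - (2 * m) • a) := ⟨_, rfl⟩
    rw [← hp] at hpair
    have hpa : f p a = 0 ∧ f p (J a) = 0 := by
      constructor <;> rw [hp, ← bl_apply hf] <;>
        simp only [map_add, map_sub, map_smul, LinearMap.add_apply, LinearMap.sub_apply,
          LinearMap.smul_apply, bl_apply, smul_eq_mul, hf.alternating, hfza]
      · ring
      · rw [form_J_symm hf hJf z a, hm]; field_simp; ring
    have hTp : app T p = p := by rw [hTx, hpa.1, hpa.2]; simp
    have h4 := hpair.conj hf hTM hT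
    rw [hTp] at h4
    refine ⟨p, fun h => hza ?_, centre_of_pairs hf h2 hpair h4 ?_⟩
    · rw [hp] at h
      have : z = m • a := by
        refine smul_right_injective (ι → F) h2 ?_
        linear_combination (norm := module) h
      rw [this]
      exact Submodule.smul_mem _ _ (Submodule.subset_span (by simp))
    · rw [map_smul, hTx, hf.alternating, mul_zero, sub_zero, mul_zero, sub_zero]
      simp only [hf.bilinear.smul_left, hf.bilinear.smul_right, hf.bilinear.add_right, hf.alternating]
      field_simp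
      simp [hm0, ha, hβ, h2]

/-- The conjugated element: a centre from two vectors spanning a totally singular plane. -/
lemma centre_of_singular_six {a z : ι → F} (hX : ∀ c, st hf a c * st hf z (-(c * d)) ∈ M)
    (haz : f a z = 0) (hza : z ∉ Submodule.span F {a, J a}) (hB : f a (J z) = 0) (hC : f z (J z) = 0) :
    ∃ q, q ≠ 0 ∧ q ∈ centres hf M := by
  have hd0 : d ≠ 0 := fun h => hd 0 (by rw [h, mul_zero])
  obtain ⟨u, hu, hzu⟩ := exists_pairing hf hJf hza
  have hua := (mem_orthJ hf).1 hu 0
  simp only [Matrix.cons_val_zero] at hua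
  have au : f a u = 0 ∧ f a (J u) = 0 :=
    ⟨by rw [hf.skew, hua.1, neg_zero], by rw [form_J_symm hf hJf, hua.2]⟩
  -- a non-singular vector orthogonal to `a` and not to `z`
  obtain ⟨p, hpp, hap, hap', hzp⟩ : ∃ p, f p (J p) ≠ 0 ∧ f a p = 0 ∧ f a (J p) = 0 ∧ f z p ≠ 0 := by
    by_cases h1 : f u (J u) = 0
    · by_cases h3 : f z (J u) = 0
      · refine ⟨u + J z, ?_, ?_, ?_, ?_⟩
        · have h4 : f u z = -f z u := hf.skew u z
          simp only [map_add, hJ2, hf.bilinear.add_left, hf.bilinear.add_right, hf.bilinear.smul_right,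
            h1, h4, hJf z, hC, form_JJ hf hJ2 hJf, mul_zero, neg_zero, add_zero, zero_add]
          intro h5
          have : (2 * d) * f z u = 0 := by linear_combination -h5
          exact hzu ((mul_eq_zero.1 this).resolve_left (mul_ne_zero h2 hd0))
        · rw [hf.bilinear.add_right, au.1, hB, add_zero]
        · rw [map_add, hJ2, hf.bilinear.add_right, hf.bilinear.smul_right, au.2, haz, mul_zero, add_zero]
        · rw [hf.bilinear.add_right, hC, add_zero]; exact hzu
      · refine ⟨u + z, ?_, ?_, ?_, ?_⟩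
        · simp only [map_add, hf.bilinear.add_left, hf.bilinear.add_right, h1, hC,
            form_J_symm hf hJf u z, zero_add, add_zero, ← two_mul]
          exact mul_ne_zero h2 h3
        · rw [hf.bilinear.add_right, au.1, haz, add_zero]
        · rw [map_add, hf.bilinear.add_right, au.2, hB, add_zero]
        · rw [hf.bilinear.add_right, hf.alternating, add_zero]; exact hzu
    · exact ⟨u, h1, au.1, au.2, hzu⟩
  obtain ⟨R, hRM, hR, hRx⟩ := exists_reflect_six hf hJ2 hd hJf hodd h2 hH hpp
  obtain ⟨y, hy⟩ : ∃ y, y = app R z := ⟨_, rfl⟩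
  have hy' : y = z - (2 * f z (J p) / f p (J p)) • p + (2 * f z p / f p (J p)) • J p := by rw [hy, hRx]
  have hRa : app R a = a := by rw [hRx, hap, hap']; simp
  have hzy : f z y = 0 := by
    rw [hy', ← bl_apply hf]
    simp only [map_add, map_sub, map_smul, smul_eq_mul, bl_apply, hf.alternating]
    ring
  have hpair : IsPair hf M (z + y) (z - y) := by
    refine pair_of_two_six hf hJ2 hd hJf hodd h2 hzy fun k => ?_
    have h1 := mul_mem (mul_mem hRM (hX (k / d))) (inv_mem hRM)
    rw [show R * (st hf a (k / d) * st hf z (-(k / d * d))) * R⁻¹ =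
      (R * st hf a (k / d) * R⁻¹) * (R * st hf z (-(k / d * d)) * R⁻¹) by group,
      st_conj hf hR, st_conj hf hR, hRa, ← hy] at h1
    have h3 := mul_mem (inv_mem (hX (k / d))) h1
    rw [_root_.mul_inv_rev, mul_assoc, inv_mul_cancel_left, st_inv, div_mul_cancel₀ _ hd0, neg_neg] at h3
    exact h3
  obtain ⟨r, hr⟩ : ∃ r, r = z + y := ⟨_, rfl⟩
  rw [← hr] at hpair
  have hpJp : f (J p) p = -f p (J p) := hJf p p
  have hrp : f r p = 0 ∧ f r (J p) = 0 := by
    constructor <;> rw [hr, hy', ← bl_apply hf] <;>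
      simp only [map_add, map_sub, map_smul, LinearMap.add_apply, LinearMap.sub_apply,
        LinearMap.smul_apply, smul_eq_mul, bl_apply, hf.alternating, hpJp] <;> field_simp <;> ring
  have hrr : f r (J r) ≠ 0 := by
    have e : f r (J r) * f p (J p) =
        -(4 * (f z (J p) * f z (J p) - d * (f z p * f z p))) := by
      rw [hr, hy', ← bl_apply hf]
      simp only [map_add, map_sub, map_smul, hJ2, LinearMap.add_apply, LinearMap.sub_apply,
        LinearMap.smul_apply, smul_eq_mul, bl_apply, hf.alternating, hC, hpJp, hf.skew p z,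
        hf.skew (J p) z, form_J_symm hf hJf p z, form_JJ hf hJ2 hJf, hJf z p, hJf p z]
      field_simp
      ring
    intro h
    rw [h, zero_mul, eq_comm, neg_eq_zero] at e
    have h4 : (4 : F) ≠ 0 := by rw [show (4 : F) = 2 * 2 by norm_num]; exact mul_ne_zero h2 h2
    exact hzp ((norm_eq_zero_iff hd).1 ((mul_eq_zero.1 e).resolve_left h4)).2
  have hq : z - y = (2 * f z (J p) / f p (J p)) • p + (-(2 * f z p / f p (J p))) • J p := by
    rw [hy']; module
  obtain ⟨α, β, hN, hβ⟩ := exists_norm_one_six hf hJ2 hd hJf h2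
  obtain ⟨T, hTM, hT, hTx⟩ := exists_unit_six hf hJ2 hd hJf hodd h2 hH hrr hN
  have hqr : f (z - y) r = 0 ∧ f (z - y) (J r) = 0 := by
    have e1 : f p r = 0 := by rw [hf.skew, hrp.1, neg_zero]
    have e2 : f p (J r) = 0 := by rw [form_J_symm hf hJf, hrp.2]
    constructor <;> rw [hq] <;>
      simp only [hf.bilinear.add_left, hf.bilinear.smul_left, hJf p, hJ2, hf.bilinear.smul_right, e1, e2,
        mul_zero, neg_zero, add_zero]
  have hTq : app T (z - y) = z - y := by rw [hTx, hqr.1, hqr.2]; simp
  have h4 := hpair.conj hf hTM hT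
  rw [hTq] at h4
  refine ⟨z - y, fun h => ?_, centre_of_pairs hf h2 hpair h4 ?_⟩
  · have hp0 : p ≠ 0 := fun h0 => hzp (by rw [h0, ← bl_apply hf, map_zero])
    rw [hq] at h
    have h5 := neg_eq_zero.1 (line_indep_six hf hJ2 hd hJf hodd h2 hp0 h).2
    exact hzp ((mul_eq_zero.1 ((div_eq_zero_iff.1 h5).resolve_right hpp)).resolve_left h2)
  · rw [hTx, hf.alternating]
    rw [hf.bilinear.add_right, hf.bilinear.add_right, hf.bilinear.smul_right, hf.bilinear.smul_right,
      hf.alternating]
    field_simp
    simp [hβ, h2, hrr]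

/-- A non-semilinear element gives a centre. -/
lemma exists_centre_six (hn : 6 ≤ Fintype.card ι) {g : GL ι F} (hgM : g ∈ M) (hg : IsIsom f g)
    {v : ι → F} (hv : f v (J v) = 0) (hns : app g⁻¹ (J (app g v)) ∉ Submodule.span F {v, J v}) :
    ∃ q, q ≠ 0 ∧ q ∈ centres hf M := by
  classical
  have hd0 : d ≠ 0 := fun h => hd 0 (by rw [h, mul_zero])
  have hX : ∀ u, f u (J u) = 0 → ∀ c,
      st hf (app g (J u)) c * st hf (app g u) (-(c * d)) ∈ M := fun u hu c => by
    have h := mul_mem (mul_mem hgM (eJ_mem hf hJ2 hJf hH hu c)) (inv_mem hgM)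
    have e : g * eJ hf J d u c * g⁻¹ = (g * st hf (J u) c * g⁻¹) * (g * st hf u (-(c * d)) * g⁻¹) := by
      rw [eJ]; group
    rwa [e, st_conj hf hg, st_conj hf hg] at h
  set a := app g (J v) with ha
  set z := app g v with hz
  have v0 : v ≠ 0 := fun h => hns (by rw [hz, h]; simp)
  have a0 : a ≠ 0 := fun h => by
    have h1 : J v = 0 := (app g).map_eq_zero_iff.1 h
    exact one_ne_zero (line_indep_six hf hJ2 hd hJf hodd h2 v0 (α := 0) (β := 1) (by simp [h1])).2
  have haz : f a z = 0 := by rw [ha, hz, hg, hJf, hv, neg_zero]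
  have hza : z ∉ Submodule.span F {a, J a} := by
    intro h
    obtain ⟨α, β, h⟩ := Submodule.mem_span_pair.1 h
    by_cases hβ : β = 0
    · rw [hβ, zero_smul, add_zero, ha, hz, ← map_smul] at h
      have h1 := (app g).injective h
      exact one_ne_zero (neg_eq_zero.1 (line_indep_six hf hJ2 hd hJf hodd h2 v0 (α := -1) (β := α)
        (by rw [h1]; module)).1)
    · apply hns
      have hJa : J a = β⁻¹ • (z - α • a) := by
        rw [← h, add_sub_cancel_left, smul_smul, inv_mul_cancel₀ hβ, one_smul]
      have e : J z = (β * d) • a + (α * β⁻¹) • (z - α • a) := by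
        conv_lhs => rw [← h, map_add, map_smul, map_smul, hJ2, hJa, smul_smul, smul_smul]
        rw [add_comm]
      have e' : app g⁻¹ (J z) = (β * d) • J v + (α * β⁻¹) • (v - α • J v) := by
        rw [e]; simp only [ha, hz, map_add, map_sub, map_smul, app_inv_app]
      rw [e']
      refine add_mem (Submodule.smul_mem _ _ (Submodule.subset_span (by simp))) (Submodule.smul_mem _ _
        (sub_mem (Submodule.subset_span (by simp)) (Submodule.smul_mem _ _ (Submodule.subset_span (by simp)))))
  have haz' : f a (J z) = f z (J a) := form_J_symm hf hJf a z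
  have hfza : f z a = 0 := by rw [hf.skew, haz, neg_zero]
  -- change of the vector on its line
  have mv : ∀ α β : F, ¬ (α = 0 ∧ β = 0) →
      f (α • a + (β * d) • z) (J (α • a + (β * d) • z)) ≠ 0 →
      (f (α • a + (β * d) • z) (J (α • z + β • a)) ≠ 0 ∨ f (α • z + β • a) (J (α • z + β • a)) ≠ 0) →
      ∃ q, q ≠ 0 ∧ q ∈ centres hf M := by
    intro α β hne h1 h3
    have ez : app g (α • v + β • J v) = α • z + β • a := by rw [map_add, map_smul, map_smul]
    have ea : app g (J (α • v + β • J v)) = α • a + (β * d) • z := by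
      rw [map_add, map_smul, map_smul, hJ2, map_add, map_smul, map_smul, map_smul, smul_smul]
    refine centre_core_six hf hJ2 hd hJf hodd h2 hH hn (fun c => ?_) ?_ h1 (fun hm => ?_) h3
    · rw [← ea, ← ez]
      exact hX _ (by rw [bJ_scale hf hJ2 hJf, hv, mul_zero]) c
    · simp [hf.bilinear.add_left, hf.bilinear.add_right, hf.bilinear.smul_left, hf.bilinear.smul_right,
        hf.alternating, haz, hfza]
    · obtain ⟨s, r, e⟩ := Submodule.mem_span_pair.1 hm
      simp only [map_add, map_smul] at e
      have e1 : (α - s * β * d) • z + (-(r * β * d)) • J z = (s * α - β) • a + (r * α) • J a := by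
        linear_combination (norm := module) -e
      by_cases hc : α - s * β * d = 0 ∧ -(r * β * d) = 0
      · rw [hc.1, hc.2, zero_smul, zero_smul, add_zero] at e1
        obtain ⟨e2, e3⟩ := line_indep_six hf hJ2 hd hJf hodd h2 a0 e1.symm
        by_cases hβ : β = 0
        · exact hne ⟨by linear_combination hc.1 + s * d * hβ, hβ⟩
        · have h5 : (s * s * d - 1) * β = 0 := by linear_combination e2 - s * hc.1
          have h6 := (mul_eq_zero.1 h5).resolve_right hβ
          have hs : s ≠ 0 := fun h => by rw [h] at h6; simp at h6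
          exact hd s⁻¹ (by field_simp; linear_combination -h6)
      · exact hza (mem_line_six hf hJ2 hd hJf hodd h2 (e1 ▸ add_mem
          (Submodule.smul_mem _ _ (Submodule.subset_span (by simp)))
          (Submodule.smul_mem _ _ (Submodule.subset_span (by simp)))) hc)
  have ev : ∀ α β : F,
      f (α • a + (β * d) • z) (J (α • a + (β * d) • z)) =
        α * α * f a (J a) + 2 * α * β * d * f a (J z) + β * β * d * d * f z (J z) ∧
      f (α • a + (β * d) • z) (J (α • z + β • a)) =
        (α * α + β * β * d) * f a (J z) + α * β * f a (J a) + α * β * d * f z (J z) ∧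
      f (α • z + β • a) (J (α • z + β • a)) =
        α * α * f z (J z) + 2 * α * β * f a (J z) + β * β * f a (J a) := fun α β => by
    simp only [map_add, map_smul, hf.bilinear.add_left, hf.bilinear.add_right, hf.bilinear.smul_left,
      hf.bilinear.smul_right, ← haz']
    refine ⟨by ring, by ring, by ring⟩
  by_cases hA : f a (J a) = 0
  · by_cases hB : f a (J z) = 0
    · by_cases hC : f z (J z) = 0
      · exact centre_of_singular_six hf hJ2 hd hJf hodd h2 hH (hX v hv) haz hza hB hC
      · obtain ⟨e1, e2, -⟩ := ev 1 1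
        refine mv 1 1 (by simp) ?_ (Or.inl ?_)
        · rw [e1, hA, hB]; simpa [hd0] using hC
        · rw [e2, hA, hB]; simpa [hd0] using hC
    · by_cases hC : f z (J z) = 0
      · obtain ⟨e1, -, e3⟩ := ev 1 1
        refine mv 1 1 (by simp) ?_ (Or.inr ?_)
        · rw [e1, hA, hC]; simp [hd0, h2, hB]
        · rw [e3, hA, hC]; simp [h2, hB]
      · obtain ⟨e1, e2, -⟩ := ev 0 1
        refine mv 0 1 (by simp) ?_ (Or.inl ?_)
        · rw [e1]; simp [hd0, hC]
        · rw [e2]; simp [hd0, hB]
  · by_cases hor : f a (J z) ≠ 0 ∨ f z (J z) ≠ 0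
    · exact centre_core_six hf hJ2 hd hJf hodd h2 hH hn (hX v hv) haz hA hza hor
    · push Not at hor
      obtain ⟨e1, e2, -⟩ := ev 1 1
      refine mv 1 1 (by simp) ?_ (Or.inl ?_)
      · rw [e1, hor.1, hor.2]; simpa using hA
      · rw [e2, hor.1, hor.2]; simpa using hA

/-- One centre gives all. -/
lemma all_centres_six (hn : 6 ≤ Fintype.card ι) {u : ι → F} (hu0 : u ≠ 0) (huc : u ∈ centres hf M) :
    ∀ v, v ∈ centres hf M := by
  classical
  have hd0 : d ≠ 0 := fun h => hd 0 (by rw [h, mul_zero])
  have hz : ∀ x, f x 0 = 0 := fun x => by rw [← bl_apply hf, map_zero]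
  have pairing : ∀ u, u ≠ 0 → ∃ w, f w (J w) = 0 ∧ f u w ≠ 0 := fun u hu => by
    obtain ⟨-, x, hx⟩ := hf.nondegenerate u hu
    obtain ⟨w, -, hw1, hww⟩ := exists_iso_pairing hf hJ2 hd hJf hodd h2 (S := ⊤)
      (fun x _ => Submodule.mem_top) (by rw [finrank_top, Module.finrank_fintype_fun_eq_card]; omega)
      (Submodule.mem_top : x ∈ ⊤) hx
    exact ⟨w, hww, hw1⟩
  -- moving a centre by an element with isotropic centre
  have move : ∀ u w, u ∈ centres hf M → f w (J w) = 0 → f u w ≠ 0 →
      f u (J w) • J w - (d * f u w) • w ∈ centres hf M := by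
    intro u w hu hw h1
    have h4 := centres_conj hf (eJ_mem hf hJ2 hJf hH hw 1) (eJ_isIsom hf w 1) hu
    rw [eJ_apply hf hw, one_mul, one_mul] at h4
    have h5 := centres_step' hf hu h4 (by
      rw [← bl_apply hf]
      simp only [map_add, map_sub, map_smul, LinearMap.add_apply, LinearMap.sub_apply,
        LinearMap.smul_apply, bl_apply, smul_eq_mul, hf.alternating, hf.skew (J w) u, hf.skew w u]
      intro h
      have : f u (J w) * f u (J w) - d * (f u w * f u w) = 0 := by linear_combination -h
      exact h1 ((norm_eq_zero_iff hd).1 this).2) (-1)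
    convert h5 using 1
    module
  have step : ∀ q p, q ∈ centres hf M → f p (J p) = 0 → f q p ≠ 0 → f q (J p) = 0 →
      p ∈ centres hf M := by
    intro q p hq hp h1 h3
    have h4 := centres_smul hf (move q p hq hp h1) (-(d * f q p))⁻¹
    rwa [h3, zero_smul, zero_sub, ← neg_smul, smul_smul,
      inv_mul_cancel₀ (neg_ne_zero.2 (mul_ne_zero hd0 h1)), one_smul] at h4
  obtain ⟨q, hq, q0, hqq⟩ : ∃ q, q ∈ centres hf M ∧ q ≠ 0 ∧ f q (J q) = 0 := by
    obtain ⟨w, hww, huw⟩ := pairing u hu0
    refine ⟨_, move u w huc hww huw, fun h => ?_, ?_⟩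
    · have w0 : w ≠ 0 := fun h' => huw (by rw [h', hz])
      have := line_indep_six hf hJ2 hd hJf hodd h2 w0 (α := -(d * f u w)) (β := f u (J w))
        (by rw [neg_smul, neg_add_eq_sub]; exact h)
      exact mul_ne_zero hd0 huw (neg_eq_zero.1 this.1)
    · rw [show f u (J w) • J w - (d * f u w) • w = (-(d * f u w)) • w + f u (J w) • J w by module,
        bJ_scale hf hJ2 hJf, hww, mul_zero]
  -- whole lines
  have line : ∀ q w, q ∈ centres hf M → f q (J q) = 0 → f w (J w) = 0 →
      f q w = 1 → f q (J w) = 0 → ∀ α β : F, α • w + β • J w ∈ centres hf M := by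
    intro q w hq hqq hww a1 a2 α β
    have hwc : w ∈ centres hf M := step q w hq hww (by rw [a1]; exact one_ne_zero) a2
    by_cases hβ : β = 0
    · rw [hβ, zero_smul, add_zero]; exact centres_smul hf hwc α
    have b1 : f w q = -1 := by rw [hf.skew, a1]
    have b2 : f w (J q) = 0 := by rw [form_J_symm hf hJf, a2]
    -- a non-singular vector orthogonal to both
    obtain ⟨e, he, hee⟩ := exists_aniso_six hf hJ2 hd hJf hodd h2 hn hqq hww a1 a2
    have he' := (mem_orthJ hf).1 he
    have eq' := he' 0
    have ew := he' 1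
    simp only [Fin.isValue, Matrix.cons_val] at eq' ew
    have fqe : f q e = 0 ∧ f q (J e) = 0 :=
      ⟨by rw [hf.skew, eq'.1, neg_zero], by rw [form_J_symm hf hJf, eq'.2]⟩
    have fwe : f w e = 0 ∧ f w (J e) = 0 :=
      ⟨by rw [hf.skew, ew.1, neg_zero], by rw [form_J_symm hf hJf, ew.2]⟩
    obtain ⟨b, hb⟩ : ∃ b, b = f e (J e) / (2 * d) := ⟨_, rfl⟩
    obtain ⟨x, hx⟩ : ∃ x, x = (b * α / β) • q + b • J q + w + e := ⟨_, rfl⟩
    have hxx : f x (J x) = 0 := by
      rw [hx]
      simp only [map_add, map_smul, hJ2, hf.bilinear.add_left, hf.bilinear.add_right,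
        hf.bilinear.smul_left, hf.bilinear.smul_right, hf.alternating, hJf q, hqq, hww, a1, a2, b1, b2,
        eq'.1, eq'.2, ew.1, ew.2, fqe.1, fqe.2, fwe.1, fwe.2]
      rw [hb]; field_simp; ring
    have hqx : f q x = 1 ∧ f q (J x) = 0 := by
      constructor <;> simp [hx, map_add, map_smul, hJ2, hf.bilinear.add_right, hf.bilinear.smul_right,
        hf.alternating, hqq, a1, a2, fqe.1, fqe.2]
    have hxc : x ∈ centres hf M := step q x hq hxx (by rw [hqx.1]; exact one_ne_zero) hqx.2
    refine step x _ hxc (by rw [bJ_scale hf hJ2 hJf, hww, mul_zero]) ?_ ?_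
    · rw [hx]
      simp only [hf.bilinear.add_left, hf.bilinear.add_right, hf.bilinear.smul_left,
        hf.bilinear.smul_right, hf.alternating, hJf q, hJ2, hww, a1, a2, ew.1, ew.2]
      intro h
      have h6 : b * (α * α - d * (β * β)) = 0 := by
        field_simp at h
        linear_combination h
      rcases mul_eq_zero.1 h6 with h7 | h7
      · rw [hb] at h7
        exact div_ne_zero hee (mul_ne_zero h2 hd0) h7
      · exact hβ ((norm_eq_zero_iff hd).1 h7).2
    · rw [hx]
      simp only [map_add, map_smul, hf.bilinear.add_left, hf.bilinear.add_right, hf.bilinear.smul_left,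
        hf.bilinear.smul_right, hf.alternating, hJf q, hJ2, hww, a1, a2, ew.1, ew.2]
      field_simp
      ring
  have other : ∀ q r, q ∈ centres hf M → f q (J q) = 0 → f r (J r) = 0 →
      ¬ (f q r = 0 ∧ f q (J r) = 0) → r ∈ centres hf M := by
    intro q r hq hqq hrr hne
    set A := f q r with hA
    set B := f q (J r) with hB
    have hD : B * B - d * (A * A) ≠ 0 := fun h => hne ⟨((norm_eq_zero_iff hd).1 h).2, ((norm_eq_zero_iff hd).1 h).1⟩
    obtain ⟨N, hN⟩ : ∃ N, N = (B * B - d * (A * A))⁻¹ := ⟨_, rfl⟩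
    have hN1 : N * (B * B - d * (A * A)) = 1 := by rw [hN]; exact inv_mul_cancel₀ hD
    obtain ⟨w, hw⟩ : ∃ w, w = (-(N * d * A)) • r + (N * B) • J r := ⟨_, rfl⟩
    have hww : f w (J w) = 0 := by rw [hw, bJ_scale hf hJ2 hJf, hrr, mul_zero]
    have a1 : f q w = 1 := by
      rw [hw]; simp only [hf.bilinear.add_right, hf.bilinear.smul_right, ← hA, ← hB]
      linear_combination hN1
    have a2 : f q (J w) = 0 := by
      rw [hw]; simp only [map_add, map_smul, hJ2, hf.bilinear.add_right, hf.bilinear.smul_right, ← hA, ← hB]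
      ring
    have h7 := line q w hq hqq hww a1 a2 (A) (B / d)
    convert h7 using 1
    rw [hw]
    simp only [map_add, map_smul, hJ2]
    match_scalars
    · field_simp; linear_combination -hN1
    · field_simp; ring
  have iso : ∀ r, f r (J r) = 0 → r ∈ centres hf M := by
    intro r hr
    by_cases hne : f q r = 0 ∧ f q (J r) = 0
    · by_cases h0 : r = 0
      · rw [h0]; exact zero_mem_centres hf M
      obtain ⟨w, hww, hqw, hrw⟩ : ∃ w, f w (J w) = 0 ∧ ¬ (f q w = 0 ∧ f q (J w) = 0) ∧
          ¬ (f r w = 0 ∧ f r (J w) = 0) := by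
        obtain ⟨w0, hw0, hqw0⟩ := pairing q q0
        obtain ⟨w1, hw1, hrw1⟩ := pairing r h0
        by_cases hA : f r w0 = 0 ∧ f r (J w0) = 0
        swap
        · exact ⟨w0, hw0, fun h => hqw0 h.1, hA⟩
        by_cases hB : f q w1 = 0 ∧ f q (J w1) = 0
        swap
        · exact ⟨w1, hw1, hB, fun h => hrw1 h.1⟩
        obtain ⟨α, β, hαβ, hlin⟩ : ∃ α β : F, ¬ (α = 0 ∧ β = 0) ∧
            α * f w0 (J w1) + β * (d * f w0 w1) = 0 := by
          by_cases h : f w0 (J w1) = 0
          · exact ⟨1, 0, fun h' => one_ne_zero h'.1, by rw [h]; ring⟩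
          · exact ⟨-(d * f w0 w1), f w0 (J w1), fun h' => h h'.2, by ring⟩
        refine ⟨w0 + (α • w1 + β • J w1), ?_, ?_, ?_⟩
        · have e : f w1 (J w0) = f w0 (J w1) := form_J_symm hf hJf w1 w0
          simp only [map_add, map_smul, hJ2, hf.bilinear.add_left, hf.bilinear.add_right,
            hf.bilinear.smul_left, hf.bilinear.smul_right, hw0, hw1, e, hJf w1, hf.alternating,
            hf.skew w1 w0]
          linear_combination 2 * hlin
        · rintro ⟨h, -⟩
          rw [hf.bilinear.add_right, hf.bilinear.add_right, hf.bilinear.smul_right, hf.bilinear.smul_right,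
            hB.1, hB.2, mul_zero, mul_zero, add_zero, add_zero] at h
          exact hqw0 h
        · rintro ⟨h, h'⟩
          simp only [map_add, map_smul, hJ2, hf.bilinear.add_right, hf.bilinear.smul_right, hA.1, hA.2,
            zero_add] at h h'
          have e3 : (α * α - d * (β * β)) * f r w1 = 0 := by linear_combination α * h - β * h'
          exact hαβ ((norm_eq_zero_iff hd).1 ((mul_eq_zero.1 e3).resolve_right hrw1))
      have hwc := other q w hq hqq hww hqw
      refine other w r hwc hww hr fun h => hrw ⟨?_, ?_⟩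
      · rw [hf.skew, h.1, neg_zero]
      · rw [form_J_symm hf hJf, h.2]
    · exact other q r hq hqq hr hne
  intro u
  by_cases huu : f u (J u) = 0
  · exact iso u huu
  have hu0 : u ≠ 0 := fun h => huu (by rw [h, ← bl_apply hf, map_zero, LinearMap.zero_apply])
  obtain ⟨w, hww, hw1⟩ := pairing u hu0
  obtain ⟨v1, h11, h12, h13⟩ : ∃ v1, f v1 (J v1) = 0 ∧ f u v1 ≠ 0 ∧ f u (J v1) ≠ 0 := by
    by_cases h : f u (J w) = 0
    · refine ⟨w + J w, ?_, ?_, ?_⟩
      · have := bJ_scale hf hJ2 hJf 1 1 w
        rw [one_smul, one_smul, hww, mul_zero] at this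
        exact this
      · rw [hf.bilinear.add_right, h, add_zero]; exact hw1
      · rw [map_add, hJ2, hf.bilinear.add_right, hf.bilinear.smul_right, h, zero_add]
        exact mul_ne_zero hd0 hw1
    · exact ⟨w, hww, hw1, h⟩
  set s := f u (J u) / (2 * f u (J v1)) with hs
  have hv2 : f (u + (-s) • v1) (J (u + (-s) • v1)) = 0 := by
    simp only [map_add, map_smul, hf.bilinear.add_left, hf.bilinear.add_right, hf.bilinear.smul_left,
      hf.bilinear.smul_right, h11, form_J_symm hf hJf v1 u, hs]
    field_simp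
    ring
  have h5 := centres_step' hf (iso v1 h11) (iso _ hv2) (by
    rw [hf.bilinear.add_left, hf.bilinear.smul_left, hf.alternating, mul_zero, add_zero]; exact h12) s
  rwa [neg_smul, neg_add_cancel_right] at h5

omit hH in
/-- An isometry mapping each isotropic line to such a line commutes or anticommutes with J. -/
lemma semilinear_six (hn : 6 ≤ Fintype.card ι) {g : GL ι F}
    (hv : ∀ v, v ≠ 0 → f v (J v) = 0 → app g⁻¹ (J (app g v)) ∈ Submodule.span F {v, J v}) :
    ∃ s : F, s * s = 1 ∧ ∀ x, app g (J x) = s • J (app g x) := by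
  classical
  have hd0 : d ≠ 0 := fun h => hd 0 (by rw [h, mul_zero])
  have h0l : ∀ x, f 0 x = 0 := fun x => by rw [← bl_apply hf, map_zero, LinearMap.zero_apply]
  set k : (ι → F) →ₗ[F] (ι → F) :=
    (app g⁻¹).toLinearMap ∘ₗ J ∘ₗ (app g).toLinearMap with hk
  have hkap : ∀ x, k x = app g⁻¹ (J (app g x)) := fun x => rfl
  have coef : ∀ v, v ≠ 0 → f v (J v) = 0 → ∃ α β : F, k v = α • v + β • J v := fun v h0 hv0 => by
    obtain ⟨α, β, h⟩ := Submodule.mem_span_pair.1 (hv v h0 hv0)
    exact ⟨α, β, h.symm⟩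
  -- on a hyperbolic pair
  have key : ∀ v w e : ι → F, f v (J v) = 0 → f w (J w) = 0 → f v w = 1 → f v (J w) = 0 →
      f e v = 0 → f e (J v) = 0 → f e w = 0 → f e (J w) = 0 → f e (J e) ≠ 0 →
      ∀ α β : F, k v = α • v + β • J v → k w = α • w + β • J w ∧ k (J w) = α • J w + β • (d • w) ∧
        k e = α • e + β • J e := by
    intro v w e hvv hww a1 a2 c1 c2 c3 c4 hee α β hkv
    have b1 : f w v = -1 := by rw [hf.skew, a1]
    have b2 : f w (J v) = 0 := by rw [form_J_symm hf hJf, a2]
    have v0 : v ≠ 0 := fun h => one_ne_zero (α := F) (by rw [← a1, h, h0l])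
    have w0 : w ≠ 0 := fun h => one_ne_zero (α := F) (by rw [← a1, h, ← bl_apply hf, map_zero])
    obtain ⟨γ, δ, hkw⟩ := coef w w0 hww
    have hvw0 : v + w ≠ 0 := fun h => by
      have := congrArg (fun x => f x w) h
      simp only [hf.bilinear.add_left, a1, hf.alternating, add_zero, h0l] at this
      exact one_ne_zero this
    have hvw : f (v + w) (J (v + w)) = 0 := by
      simp [map_add, hf.bilinear.add_left, hf.bilinear.add_right, hvv, hww, a2, b2]
    obtain ⟨l, l', hl⟩ := coef _ hvw0 hvw
    rw [map_add, hkv, hkw, map_add] at hl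
    have p1 := congrArg (fun x => f x v) hl
    have p2 := congrArg (fun x => f x w) hl
    have p3 := congrArg (fun x => f x (J v)) hl
    have p4 := congrArg (fun x => f x (J w)) hl
    simp only [hf.bilinear.add_left, hf.bilinear.smul_left, hf.alternating, hJf v, hJf w, hJ2,
      hf.bilinear.smul_right, hvv, hww, a1, a2, b1, b2] at p1 p2 p3 p4
    have hlα : l = α := by linear_combination -p2
    have hγ : γ = α := by linear_combination -p1 + hlα
    have hl' : l' = β := by
      have : d * (l' - β) = 0 := by linear_combination p4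
      exact sub_eq_zero.1 ((mul_eq_zero.1 this).resolve_left hd0)
    have hδ : δ = β := by
      have : d * (δ - l') = 0 := by linear_combination p3
      exact (sub_eq_zero.1 ((mul_eq_zero.1 this).resolve_left hd0)).trans hl'
    subst hγ hδ
    refine ⟨hkw, ?_⟩
    obtain ⟨b, hb⟩ : ∃ b, b = -f e (J e) / (2 * d) := ⟨_, rfl⟩
    have hb0 : b ≠ 0 := hb ▸ div_ne_zero (neg_ne_zero.2 hee) (mul_ne_zero h2 hd0)
    have fve : f v e = 0 ∧ f v (J e) = 0 := ⟨by rw [hf.skew, c1, neg_zero], by rw [form_J_symm hf hJf, c2]⟩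
    have fwe : f w e = 0 ∧ f w (J e) = 0 := ⟨by rw [hf.skew, c3, neg_zero], by rw [form_J_symm hf hJf, c4]⟩
    have hx : ∀ s : F, s * s = 1 → f (v + b • J w + s • e) (J (v + b • J w + s • e)) = 0 ∧
        v + b • J w + s • e ≠ 0 := fun s hs => by
      constructor
      · simp only [map_add, map_smul, hJ2, hf.bilinear.add_left, hf.bilinear.add_right,
          hf.bilinear.smul_left, hf.bilinear.smul_right, hf.alternating, hJf w, hvv, hww, a1, a2, b1, b2,
          c1, c2, c3, c4, fve.1, fve.2, fwe.1, fwe.2]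
        rw [hb]; field_simp
        linear_combination (4 * d * f e (J e)) * hs
      · intro h
        have := congrArg (fun x => f x w) h
        simp only [hf.bilinear.add_left, hf.bilinear.smul_left, hJf w w, hww, a1, c3, h0l] at this
        simp at this
    obtain ⟨L, L', hL⟩ := coef _ (hx 1 (by ring)).2 (hx 1 (by ring)).1
    obtain ⟨N, N', hN⟩ := coef _ (hx (-1) (by ring)).2 (hx (-1) (by ring)).1
    rw [one_smul] at hL
    rw [neg_one_smul] at hN
    have hs : (2 : F) • k v + (2 * b) • k (J w) =
        (L • (v + b • J w + e) + L' • J (v + b • J w + e)) +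
          (N • (v + b • J w + -e) + N' • J (v + b • J w + -e)) := by
      rw [← hL, ← hN, map_add, map_add, map_add, map_add, map_neg, map_smul]
      module
    -- the vector `e` does not occur
    have hkJw : ∃ A B : F, k (J w) = A • w + B • J w := by
      have hJw0 : J w ≠ 0 := fun h => w0 (by
        have h' := congrArg J h
        rw [hJ2, map_zero] at h'
        exact (smul_eq_zero.1 h').resolve_left hd0)
      obtain ⟨A, B, h⟩ := coef (J w) hJw0 (by rw [hJ2, hf.bilinear.smul_right, hJf, hww]; simp)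
      exact ⟨B * d, A, by rw [h, hJ2]; module⟩
    obtain ⟨A, B, hAB⟩ := hkJw
    rw [hkv, hAB, map_add, map_add, map_add, map_add, map_neg, map_smul, hJ2] at hs
    have q1 := congrArg (fun x => f x e) hs
    have q2 := congrArg (fun x => f x (J e)) hs
    have q3 := congrArg (fun x => f x w) hs
    have q4 := congrArg (fun x => f x (J w)) hs
    have q5 := congrArg (fun x => f x v) hs
    have q6 := congrArg (fun x => f x (J v)) hs
    simp only [hf.bilinear.add_left, hf.bilinear.smul_left, ← neg_one_smul F e, ← neg_one_smul F (J e),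
      hf.alternating, hJf v, hJf w, hJf e, hJ2, hf.bilinear.smul_right, hvv, hww, a1, a2, b1, b2,
      c1, c2, c3, c4, fve.1, fve.2, fwe.1, fwe.2] at q1 q2 q3 q4 q5 q6
    have hLN : L = N := by
      have : (L - N) * f e (J e) = 0 := by linear_combination -q2
      exact sub_eq_zero.1 ((mul_eq_zero.1 this).resolve_right hee)
    have hLN' : L' = N' := by
      have : (L' - N') * f e (J e) = 0 := by linear_combination q1
      exact sub_eq_zero.1 ((mul_eq_zero.1 this).resolve_right hee)
    subst hLN hLN'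
    have hLα : L = γ := mul_left_cancel₀ h2 (by linear_combination -q3)
    have hLβ : L' = δ := mul_left_cancel₀ (mul_ne_zero h2 hd0) (by linear_combination q4)
    subst hLα hLβ
    have hA : A = d * L' := mul_left_cancel₀ (mul_ne_zero h2 hb0) (by linear_combination -q5)
    have hB : B = L := mul_left_cancel₀ (mul_ne_zero (mul_ne_zero h2 hd0) hb0) (by linear_combination q6)
    refine ⟨by rw [hAB, hA, hB]; module, ?_⟩
    rw [map_add, map_add, map_smul, hkv, hAB, hA, hB, map_add, map_add, map_smul, hJ2] at hL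
    linear_combination (norm := module) hL
  -- a hyperbolic pair
  obtain ⟨v, -, v0, hvv⟩ := exists_iso hf hJ2 hd hJf hodd (S := ⊤) (fun x _ => Submodule.mem_top)
    (by rw [finrank_top, Module.finrank_fintype_fun_eq_card]; omega)
  obtain ⟨-, x, hx⟩ := hf.nondegenerate v v0
  obtain ⟨w', -, hvw', hw'w'⟩ := exists_iso_pairing hf hJ2 hd hJf hodd h2 (S := ⊤)
    (fun x _ => Submodule.mem_top) (by rw [finrank_top, Module.finrank_fintype_fun_eq_card]; omega)
    (Submodule.mem_top : x ∈ ⊤) hx
  obtain ⟨N, hN⟩ : ∃ N, N = (f v (J w') * f v (J w') - d * (f v w' * f v w'))⁻¹ := ⟨_, rfl⟩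
  have hN1 : N * (f v (J w') * f v (J w') - d * (f v w' * f v w')) = 1 := by
    rw [hN]; exact inv_mul_cancel₀ fun h => hvw' ((norm_eq_zero_iff hd).1 h).2
  obtain ⟨w, hw⟩ : ∃ w, w = (-(N * d * f v w')) • w' + (N * f v (J w')) • J w' := ⟨_, rfl⟩
  have hww : f w (J w) = 0 := by rw [hw, bJ_scale hf hJ2 hJf, hw'w', mul_zero]
  have a1 : f v w = 1 := by
    rw [hw]; simp only [hf.bilinear.add_right, hf.bilinear.smul_right]
    linear_combination hN1
  have a2 : f v (J w) = 0 := by
    rw [hw]; simp only [map_add, map_smul, hJ2, hf.bilinear.add_right, hf.bilinear.smul_right]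
    ring
  have b1 : f w v = -1 := by rw [hf.skew, a1]
  have b2 : f w (J v) = 0 := by rw [form_J_symm hf hJf, a2]
  obtain ⟨e, he, hee⟩ := exists_aniso_six hf hJ2 hd hJf hodd h2 hn hvv hww a1 a2
  have oe : ∀ e ∈ orthJ hf (J := J) ![v, w],
      f e v = 0 ∧ f e (J v) = 0 ∧ f e w = 0 ∧ f e (J w) = 0 := fun e he => by
    have he' := (mem_orthJ hf).1 he
    exact ⟨(he' 0).1, (he' 0).2, (he' 1).1, (he' 1).2⟩
  obtain ⟨α, β, hkv⟩ := coef v v0 hvv
  obtain ⟨ev, eJv, ew, eJw⟩ := oe e he
  obtain ⟨hkw, hkJw, -⟩ := key v w e hvv hww a1 a2 ev eJv ew eJw hee α β hkv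
  -- the reversed pair
  obtain ⟨hkv', hkJv', -⟩ := key w (-v) e hww (by rw [map_neg, ← bl_apply hf, map_neg, map_neg, LinearMap.neg_apply, bl_apply, neg_neg]; exact hvv)
    (by rw [← bl_apply hf, map_neg, bl_apply, b1, neg_neg])
    (by rw [map_neg, ← bl_apply hf, map_neg, bl_apply, b2, neg_zero]) ew eJw
    (by rw [← bl_apply hf, map_neg, bl_apply, ev, neg_zero])
    (by rw [map_neg, ← bl_apply hf, map_neg, bl_apply, eJv, neg_zero]) hee α β hkw
  have hkJv : k (J v) = α • J v + β • (d • v) := by
    rw [map_neg, map_neg] at hkJv'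
    linear_combination (norm := module) -hkJv'
  have hall : ∀ u, k u = α • u + β • J u := fun u => by
    obtain ⟨c, hc⟩ : ∃ c, c = u - f u w • v + (f u (J w) / d) • J v + f u v • w - (f u (J v) / d) • J w :=
      ⟨_, rfl⟩
    have hcS : c ∈ orthJ hf (J := J) ![v, w] := by
      rw [mem_orthJ]
      intro i
      fin_cases i <;> rw [hc] <;> refine ⟨?_, ?_⟩ <;>
        simp only [← bl_apply hf, map_add, map_sub, map_smul, LinearMap.add_apply, LinearMap.sub_apply,
          LinearMap.smul_apply, smul_eq_mul, Fin.zero_eta, Fin.mk_one, Fin.isValue, Matrix.cons_val_zero,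
          Matrix.cons_val_one] <;>
        simp only [bl_apply, hf.alternating, a1, a2, b1, b2, hvv, hww, hJf v, hJf w, hJ2,
          hf.bilinear.smul_right, mul_zero, neg_zero] <;> field_simp <;> ring
    have on_aniso : ∀ x ∈ orthJ hf (J := J) ![v, w], f x (J x) ≠ 0 → k x = α • x + β • J x :=
      fun x hx hxx => by
        obtain ⟨h1, h3, h4, h5⟩ := oe x hx
        exact (key v w x hvv hww a1 a2 h1 h3 h4 h5 hxx α β hkv).2.2
    have hkc : k c = α • c + β • J c := by
      by_cases hcc : f c (J c) = 0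
      swap
      · exact on_aniso c hcS hcc
      obtain ⟨s, hs⟩ : ∃ s : F, f (c + s • e) (J (c + s • e)) ≠ 0 := by
        by_contra hall
        push Not at hall
        have e1 := hall 1
        have e2 := hall (-1)
        simp only [map_add, map_smul, hf.bilinear.add_left, hf.bilinear.add_right, hf.bilinear.smul_left,
          hf.bilinear.smul_right, hcc, form_J_symm hf hJf e c] at e1 e2
        exact hee (mul_left_cancel₀ h2 (by linear_combination e1 + e2))
      have e1 := on_aniso _ (add_mem hcS (Submodule.smul_mem _ s he)) hs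
      rw [map_add, map_smul, on_aniso e he hee, map_add, map_smul] at e1
      linear_combination (norm := module) e1
    have eu : u = c + f u w • v - (f u (J w) / d) • J v - f u v • w + (f u (J v) / d) • J w := by
      rw [hc]; abel
    conv_lhs => rw [eu]
    conv_rhs => rw [eu]
    simp only [map_add, map_sub, map_smul, hkc, hkv, hkJv, hkw, hkJw, hJ2]
    module
  -- the square of k is d
  have hkk : k (k v) = d • v := by
    rw [hkap, hkap, app_app_inv, hJ2, map_smul, app_inv_app]
  rw [hall v, hall] at hkk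
  simp only [map_add, map_smul, hJ2] at hkk
  obtain ⟨h5, h6⟩ := line_indep_six hf hJ2 hd hJf hodd h2 v0
    (α := α * α + β * β * d - d) (β := 2 * α * β) (by linear_combination (norm := module) hkk)
  have hα : α = 0 := by
    rcases mul_eq_zero.1 h6 with h7 | h7
    · exact (mul_eq_zero.1 h7).resolve_left h2
    · exfalso
      subst h7
      exact hd α (by linear_combination h5)
  subst hα
  have hβ : β * β = 1 := by
    have : (β * β - 1) * d = 0 := by linear_combination h5
    exact sub_eq_zero.1 ((mul_eq_zero.1 this).resolve_right hd0)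
  refine ⟨β, hβ, fun x => ?_⟩
  have h8 := congrArg (app g) (hall x)
  rw [hkap, app_app_inv, zero_smul, zero_add, map_smul] at h8
  calc app g (J x) = (β * β) • app g (J x) := by rw [hβ, one_smul]
    _ = β • J (app g x) := by rw [← smul_smul, ← h8]

/-- The overgroup theorem for the unitary group of degree at least three inside the symplectic group. -/
theorem centres_of_not_semilinear_six (hn : 6 ≤ Fintype.card ι) {g : GL ι F}
    (hgM : g ∈ M) (hg : IsIsom f g)
    (hns : ¬ ∃ s : F, s * s = 1 ∧ ∀ x, app g (J x) = s • J (app g x)) :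
    ∀ v, v ∈ centres hf M := by
  obtain ⟨v, -, hv, hv'⟩ : ∃ v, v ≠ 0 ∧ f v (J v) = 0 ∧
      app g⁻¹ (J (app g v)) ∉ Submodule.span F {v, J v} := by
    by_contra h
    push Not at h
    exact hns (semilinear_six hf hJ2 hd hJf hodd h2 hn h)
  obtain ⟨q, h0, h1⟩ := exists_centre_six hf hJ2 hd hJf hodd h2 hH hn hgM hg hv hv'
  exact all_centres_six hf hJ2 hd hJf hodd h2 hH hn h0 h1

end Cfsg.Agent.Transvect
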